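import Cfsg.Agent.TW.Trf
import Cfsg.Agent.H6.Thompson

/-! A maximal Sylow 2-subgroup of order 64: the largest Sylow intersection. -/

set_option autoImplicit false
set_option linter.unusedVariables false
set_option linter.unusedSectionVars false

namespace LN.MA

open Cfsg Subgroup FT GW H4
open H5 (IsSylowOf mem_of_eq)
open TW (idx2 idx2' half mem_sup_zp card_sup_zp)

variable {G : Type*} [Group G] [Finite G] {S E : Subgroup G} {z g y d d' s t x a b ρ : G}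

structure Es (S E : Subgroup G) (z : G) : Prop where
  syl : IsSylowOf 2 S ⊤
  card : Nat.card S = 64
  nor : ∀ X ≤ S, X ≠ ⊥ → S ≤ Nor X → Nor X ≤ S
  oz : orderOf z = 2
  cz : Cen1 z = S
  le : E ≤ S
  zE : z ∈ E
  mx : ∀ g, g ∉ S → E ≤ conjS g S → S ⊓ conjS g S ≤ E
  out : ∃ ρ ∈ Nor E, ρ ∉ S

/-- the conjugates of `z` under the normalizer of `E` -/
def Om (E : Subgroup G) (z d : G) : Prop := ∃ y ∈ Nor E, y * z * y⁻¹ = d

abbrev W (E : Subgroup G) : Subgroup G := H6.omegaZ 2 E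

theorem mW : a ∈ W E ↔ (a ∈ E ∧ a ∈ Cen E) ∧ a * a = 1 := by rw [H6.mem_omegaZ, sq]

theorem nW (h : g ∈ Nor E) : g ∈ Nor (W E) := H6.normalizer_le_normalizer_omegaZ E h

theorem cW (ha : a ∈ W E) (hb : b ∈ E) : b ∈ Cen1 a := c1.2 (cen.1 (mW.1 ha).1.2 b hb).symm

theorem Om.conj (hg : g ∈ Nor E) (h : Om E z d) : Om E z (g * d * g⁻¹) :=
  let ⟨y, hy, e⟩ := h; ⟨g * y, mul_mem hg hy, by rw [← e]; group⟩

theorem om0 : Om E z z := ⟨1, one_mem _, by group⟩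

theorem cc1 (h : a ∈ Cen1 b) (g : G) : g * a * g⁻¹ ∈ Cen1 (g * b * g⁻¹) :=
  conj_c1 g b ▸ conj_mem_conjS h

theorem cc2 (h : g * a * g⁻¹ ∈ Cen1 (g * b * g⁻¹)) : a ∈ Cen1 b :=
  conj_mem_conjS_iff.1 (conj_c1 g b ▸ h :)

theorem cmem2 (hg : g ∈ Nor E) (h : g * a * g⁻¹ ∈ E) : a ∈ E := mem_of_eq (cmem' hg h) (by group)

namespace Es

variable (h : Es S E z)
include h

theorem two : IsPGroup 2 S := h.syl.isPGroup

theorem mz : g ∈ S ↔ g * z * g⁻¹ = z := by rw [← h.cz, c1']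

theorem zW : z ∈ W E := mW.2 ⟨⟨h.zE, cen_iff_le.2 (h.cz ▸ h.le)⟩, ii h.oz⟩

theorem oW (hd : Om E z d) : d ∈ W E := let ⟨y, hy, e⟩ := hd; e ▸ cmem (nW hy) h.zW

theorem ti (h1 : Om E z d) (h2 : Om E z d') (n : d ≠ d') (c : g ∈ Cen1 d) (c' : g ∈ Cen1 d') :
    g ∈ E := by
  obtain ⟨y, hy, rfl⟩ := h1
  obtain ⟨w, hw, rfl⟩ := h2
  have k := mul_mem (inv_mem hy) hw
  refine cmem2 (inv_mem hy) (h.mx (y⁻¹ * w) (fun e => n ?_)
    ((mem_normalizer_iff_conjS.1 k).ge.trans (conjS_mono _ h.le)) ⟨?_, ?_⟩)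
  · conv_lhs => rw [← h.mz.1 e]
    group
  · simpa [h.cz, mul_assoc] using cc1 c y⁻¹
  · rw [← h.cz, conj_c1]; simpa [mul_assoc] using cc1 c' y⁻¹

theorem ti0 (h1 : Om E z d) (n : d ≠ z) (c : g ∈ S) (c' : g ∈ Cen1 d) : g ∈ E :=
  h.ti om0 h1 n.symm (h.cz ▸ c) c'

theorem swap (ha : a ∈ Nor E) (hb : b ∈ Nor E) (a2 : a * a ∈ E) (b2 : b * b ∈ E)
    (n : a * z * a⁻¹ ≠ z) (e : a * z * a⁻¹ = b * z * b⁻¹) : a⁻¹ * b ∈ E := by
  refine h.ti0 (om0.conj ha) n (h.mz.2 ?_) (c1'.2 ?_)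
  · calc _ = a⁻¹ * (b * z * b⁻¹) * a := by group
      _ = _ := by rw [← e]; group
  · calc _ = a⁻¹ * (b * (a * z * a⁻¹) * b⁻¹) * a := by group
      _ = a⁻¹ * (b * b * z * (b * b)⁻¹) * a := by rw [e]; group
      _ = a⁻¹ * (a * a * z * (a * a)⁻¹) * a := by rw [h.mz.1 (h.le a2), h.mz.1 (h.le b2)]
      _ = _ := by group

/-- a unique involution modulo `E` -/
theorem ui (hs : s ∈ S ⊓ Nor E) (ht : t ∈ S ⊓ Nor E) (s1 : s ∉ E) (t1 : t ∉ E) (s2 : s * s ∈ E)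
    (t2 : t * t ∈ E) : s * t ∈ E := by
  choose Y hY eY using fun d : {d // Om E z d ∧ d ≠ z} => d.2.1
  have k0 : ∀ r ∈ S ⊓ Nor E, ∀ d, Y d * r * (Y d)⁻¹ ∈ Cen1 d.1 := fun r hr d =>
    eY d ▸ cc1 (h.cz ▸ hr.1) _
  have k1 : ∀ r ∈ S ⊓ Nor E, ∀ d, Y d * r * (Y d)⁻¹ ∈ Nor E := fun r hr d =>
    mul_mem (mul_mem (hY d) hr.2) (inv_mem (hY d))
  have k2 : ∀ r ∈ S ⊓ Nor E, r ∉ E → ∀ d, Y d * r * (Y d)⁻¹ * z * (Y d * r * (Y d)⁻¹)⁻¹ ≠ z :=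
    fun r hr n d e => n (cmem2 (hY d) (h.ti0 d.2.1 d.2.2 (h.mz.2 e) (k0 r hr d)))
  have k3 : ∀ r ∈ S ⊓ Nor E, r ∉ E → r * r ∈ E → ∀ d d', Y d * t * (Y d)⁻¹ * z * (Y d * t * (Y d)⁻¹)⁻¹ =
      Y d' * r * (Y d')⁻¹ * z * (Y d' * r * (Y d')⁻¹)⁻¹ → d = d' ∧ t⁻¹ * r ∈ E := fun r hr n r2 d d' e => by
    have e1 := h.swap (k1 t ht d) (k1 r hr d') (by rw [conj_mul]; exact cmem (hY d) t2)
      (by rw [conj_mul]; exact cmem (hY d') r2) (k2 t ht t1 d) e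
    obtain rfl : d = d' := Subtype.ext (by_contra fun c => n (cmem2 (hY d') (h.ti d.2.1 d'.2.1 c
      ((mul_mem_cancel_left (inv_mem (k0 t ht d))).1 (cW (h.oW d.2.1) e1)) (k0 r hr d'))))
    exact ⟨rfl, cmem2 (hY d) (mem_of_eq e1 (by group))⟩
  obtain ⟨ρ, h1, h2⟩ := h.out
  obtain ⟨d, e⟩ := Finite.surjective_of_injective (f := fun d : {d // Om E z d ∧ d ≠ z} =>
    (⟨_, om0.conj (k1 t ht d), k2 t ht t1 d⟩ : {d // Om E z d ∧ d ≠ z}))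
    (fun d d' e => (k3 t ht t1 t2 d d' (congrArg Subtype.val e)).1)
    ⟨_, om0.conj (k1 s hs ⟨_, om0.conj h1, mt h.mz.2 h2⟩), k2 s hs s1 _⟩
  exact mem_of_eq (mul_mem (cmem ht.2 (k3 s hs s1 s2 _ _ (congrArg Subtype.val e)).2) t2) (by group)

omit h in
theorem cmt (ht : t ∈ Nor E) (ha : a ∈ W E) (hb : b ∈ W E) (e : a * b ∈ Cen1 t) :
    t * b * t⁻¹ = b * (a * (t * a * t⁻¹)) := by
  have a1 := cmem (nW ht) ha
  rw [← mul_assoc, ← c1.1 (cW hb (mW.1 ha).1.1), ← c1'.1 (c1s.1 e), ← conj_mul,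
    c1.1 (cW (cmem (nW ht) hb) (mW.1 a1).1.1), mul_assoc _ (t * a * t⁻¹), (mW.1 a1).2, mul_one]

/-- a transvection: there are only three points -/
theorem three (ht : t ∈ S ⊓ Nor E) (t1 : t ∉ E) (t2 : t * t ∈ E)
    (hi : ∀ a ∈ W E, ∀ b ∈ W E, a ∉ Cen1 t → b ∉ Cen1 t → a * b ∈ Cen1 t) (h1 : Om E z d)
    (n : d ≠ z) (h2 : Om E z d') : d' = z ∨ d' = d ∨ d' = t * d * t⁻¹ := by
  by_contra! c
  have k : ∀ e, Om E z e → e ≠ z → e ∉ Cen1 t := fun e he n c => t1 (h.ti0 he n ht.1 (c1s.1 c))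
  have k' : ∀ e ∈ W E, e ∉ Cen1 t → t * e * t⁻¹ = e * (d * (t * d * t⁻¹)) := fun e he n' =>
    cmt ht.2 (h.oW h1) he (hi _ (h.oW h1) _ he (k d h1 n) n')
  set w := d * (t * d * t⁻¹)
  obtain ⟨y, hy, rfl⟩ := h1
  have hs : y * t * y⁻¹ ∈ Nor E := mul_mem (mul_mem hy ht.2) (inv_mem hy)
  have ks : ∀ e, Om E z e → e ≠ y * z * y⁻¹ → y⁻¹ * e * y⁻¹⁻¹ ∉ Cen1 t := fun e he n =>
    k _ (he.conj (inv_mem hy)) fun c => n (by rw [← c]; group)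
  have w1 : w ∈ Cen1 (y * t * y⁻¹) := by
    have := cc1 (hi _ (h.oW (h2.conj (inv_mem hy))) _ (h.oW ((h2.conj ht.2).conj (inv_mem hy)))
      (ks _ h2 c.2.1) (ks _ (h2.conj ht.2) fun e => c.2.2 (by
        rw [← e]; exact (c1'.1 (cW (h.oW h2) t2)).symm.trans (by simp [mul_assoc])))) y
    rw [k' _ (h.oW h2) (k _ h2 c.1), conj_mul, ← mul_assoc d', (mW.1 (h.oW h2)).2] at this
    exact mem_of_eq this (by group)
  set s := y * t * y⁻¹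
  have n1 : s * z * s⁻¹ ≠ z := fun e => ks z om0 n.symm (by
    have := cc1 (c1s.1 (c1'.2 e)) y⁻¹
    simpa [s, mul_assoc] using this)
  have o := om0 (E := E) (z := z).conj hs
  have e1 := k' _ (h.oW o) (k _ o n1)
  have o2 := (o.conj ht.2).conj (inv_mem hs)
  have e2 : s⁻¹ * (t * (s * z * s⁻¹) * t⁻¹) * s⁻¹⁻¹ = z * w := by
    rw [e1, inv_inv, mul_assoc, mul_assoc, c1.1 w1]; group
  have w2 : w * w = 1 := (mW.1 (mul_mem (h.oW ⟨y, hy, rfl⟩) (cmem (nW ht.2) (h.oW ⟨y, hy, rfl⟩)))).2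
  have n2 : z * w ≠ z := fun e => k _ o n1 (c1s.1 (c1'.2 (by rw [e1, mul_eq_left.1 e, mul_one])))
  rw [e2] at o2
  have := k' _ (h.oW o2) (k _ o2 n2)
  rw [mul_assoc z, w2, mul_one] at this
  exact n2 (mul_left_cancel (mul_right_cancel (this.trans (h.mz.1 ht.1).symm)))

theorem nS : ¬ S ≤ Nor E := fun e =>
  let ⟨_, a, b⟩ := h.out; b (h.nor E h.le (fun c => ine h.oz (mem_bot.1 (c ▸ h.zE))) e a)

theorem lt : E < S ⊓ Nor E :=
  H7.lt_inf_normalizer_of_lt h.two (lt_of_le_of_ne h.le fun e => h.nS (e ▸ le_normalizer))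

theorem lt' : S ⊓ Nor E < S := lt_of_le_of_ne inf_le_left fun e => h.nS (e.ge.trans inf_le_right)

theorem cT : 2 * Nat.card E ≤ Nat.card ↥(S ⊓ Nor E) ∧ Nat.card ↥(S ⊓ Nor E) ≤ 32 :=
  ⟨half h.lt, by have := half h.lt'; rw [h.card] at this; omega⟩

end Es

structure Ex (S E : Subgroup G) (z x : G) : Prop extends Es S E z where
  xS : x ∈ S
  xT : x ∉ Nor E
  xN : x ∈ Nor (S ⊓ Nor E)
  x2 : x * x ∈ Nor E

theorem Es.ex (h : Es S E z) : ∃ x, Ex S E z x :=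
  let ⟨x, a, b, c, d⟩ := H7.exists_mem_normalizer_of_lt h.two h.lt'
  ⟨x, h, a, fun e => b ⟨a, e⟩, c, sq x ▸ d.2⟩

namespace Ex

variable (h : Ex S E z x)
include h

theorem mE : a ∈ conjS x E ↔ x * a * x⁻¹ ∈ E := by
  rw [mem_conjS, mem_normalizer_iff.1 h.x2, show x * x * (x⁻¹ * a * x) * (x * x)⁻¹ = x * a * x⁻¹ by
    simp [mul_assoc]]

theorem leT : conjS x E ≤ S ⊓ Nor E := by
  rintro _ ⟨a, ha, rfl⟩; exact cmem h.xN (h.lt.le ha)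

theorem nE : S ⊓ Nor E ≤ Nor (conjS x E) := fun g hg => mnor fun k hk => mem_conjS.2
  (mem_of_eq (cmem (cmem' h.xN hg).2 (mem_conjS.1 hk)) (by group))

theorem lt0 : E ⊓ conjS x E < E := lt_of_le_of_ne inf_le_left fun e => h.xT
  (mem_normalizer_iff_conjS.2 (eq_of_le_of_card_ge (e.ge.trans inf_le_right) (card_conjS x E).le).symm)

theorem x0 : x ∈ Nor (E ⊓ conjS x E) := mnor fun k hk => ⟨h.mE.1 hk.2, conj_mem_conjS hk.1⟩

theorem big (c : 32 ≤ Nat.card ↥(S ⊓ Nor E)) {X : Subgroup G} (h1 : X ≤ S) (h2 : X ≠ ⊥)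
    (h3 : S ⊓ Nor E ≤ Nor X) (h4 : x ∈ Nor X) : Nor X ≤ S := h.nor X h1 h2 fun s hs => by
  by_cases e : s ∈ S ⊓ Nor E
  · exact h3 e
  exact (mul_mem_cancel_right h4).1 (h3 (idx2 inf_le_left (by rw [h.card]; omega) s hs x h.xS e
    fun c => h.xT c.2))

theorem caseII (hW : ∀ w ∈ W E, x * w * x⁻¹ ∈ E) : False := by
  obtain ⟨ρ, r1, r2⟩ := h.out
  obtain ⟨t, ht, t1⟩ := SetLike.exists_of_lt h.lt
  have o := om0 (z := z).conj r1
  have n : ρ * z * ρ⁻¹ ≠ z := mt h.mz.2 r2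
  have dW := h.oW o
  obtain ⟨w, hw, a1⟩ : ∃ w ∈ W E, x * w * x⁻¹ ∉ W E := by
    by_contra! c
    exact h.xT (mnor fun e he => h.ti0 o n (mul_mem (mul_mem h.xS (h.le he)) (inv_mem h.xS)) (by
      simpa [mul_assoc] using cc1 (cW (cmem' (mnor c) dW) he) x))
  have aE := hW w hw
  have a2 : x * w * x⁻¹ * (x * w * x⁻¹) = 1 := by rw [conj_mul, (mW.1 hw).2]; group
  have c0 : E ⊓ conjS x E ≤ Cen1 (x * w * x⁻¹) := by
    rintro _ ⟨-, e, he, rfl⟩; exact cc1 (cW hw he) x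
  have k4 : (∀ v ∈ W E, ∀ g ∈ S ⊓ Nor E, g * v * g⁻¹ = v ∨ g * v * g⁻¹ = v * z) → ∀ g ∈ S ⊓ Nor E,
      g * (x * w * x⁻¹) * g⁻¹ = x * w * x⁻¹ ∨ g * (x * w * x⁻¹) * g⁻¹ = x * w * x⁻¹ * z :=
    fun k g hg => (k w hw _ (cmem' h.xN hg)).imp (fun e => .trans (by group) (congrArg (x * · * x⁻¹) e))
      fun e => by rw [← h.mz.1 h.xS, conj_mul, ← e]; group
  have a0 : x * w * x⁻¹ ∈ E ⊓ conjS x E := ⟨aE, conj_mem_conjS (mW.1 hw).1.1⟩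
  generalize x * w * x⁻¹ = a at *
  have wc : ∀ {v b : G}, v ∈ W E → b ∈ E → b * v = v * b := fun hv hb => c1.1 (cW hv hb)
  have nw : ∀ {b : G}, b ∈ E → b ∈ Nor (W E) := fun hb => nW (le_normalizer hb)
  have mR : ∀ {b : G}, b ∈ W E ⊔ zpowers a ↔ b ∈ W E ∨ b * a ∈ W E := mem_sup_zp a2 (nw aE)
  have cR := card_sup_zp a2 (nw aE) a1
  have R0 : W E ⊔ zpowers a ≤ E ⊓ conjS x E :=
    sup_le (fun v hv => ⟨(mW.1 hv).1.1, h.mE.2 (hW v hv)⟩) (zpowers_le.2 a0)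
  have l1 : E ⊓ Cen1 a < E := lt_of_le_of_ne inf_le_left fun e =>
    a1 (mW.2 ⟨⟨aE, cen_iff_le.2 (e.ge.trans inf_le_right)⟩, a2⟩)
  have c1' := half l1
  have c2 := h.cT
  have c3 := half h.lt0
  have c4 := card_le_of_le R0
  have n0 : 32 ≤ Nat.card ↥(S ⊓ Nor E) → Nor (E ⊓ conjS x E) ≤ S := fun c =>
    h.big c (inf_le_left.trans h.le) (fun e => a1 (mem_bot.1 (e ▸ a0) ▸ one_mem _))
      (ninf inf_le_right h.nE) h.x0
  have bE := cmem r1 aE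
  have b2 : ρ * a * ρ⁻¹ * (ρ * a * ρ⁻¹) = 1 := by rw [conj_mul, a2]; group
  have f : F4 z (ρ * z * ρ⁻¹) := ⟨h.oz, iconj h.oz ρ, wc dW h.zE, n⟩
  have cV : Nat.card (V4 z (ρ * z * ρ⁻¹)) = 4 := by
    rw [V4, card_sup_zp (ii f.ha) (mzp (c1.2 (wc dW h.zE).symm)) fun e =>
      (mem_zp2 (ii h.oz) e).elim (ine f.ha) n, Nat.card_zpowers, h.oz]
  rcases (V_le h.zW dW).eq_or_lt with e | e
  · have k := k4 fun v hv g hg => by
      have k1 : g * (ρ * z * ρ⁻¹) * g⁻¹ = ρ * z * ρ⁻¹ ∨ g * (ρ * z * ρ⁻¹) * g⁻¹ = ρ * z * ρ⁻¹ * z := by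
        rcases f.mem_V.1 (e ▸ cmem (nW hg.2) dW :) with c | c | c | c
        · exact absurd (conj_eq_one_iff.1 c) (ine f.ha)
        · exact absurd (mul_left_cancel (mul_right_cancel (c.trans (h.mz.1 hg.1).symm))) n
        · exact Or.inl c
        · exact Or.inr (c.trans (wc dW h.zE))
      rcases f.mem_V.1 (e ▸ hv :) with rfl | rfl | rfl | rfl
      · exact Or.inl (by group)
      · exact Or.inl (h.mz.1 hg.1)
      · exact k1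
      · rw [← conj_mul, h.mz.1 hg.1, mul_assoc z (ρ * z * ρ⁻¹), mul_right_inj, mul_right_inj]
        exact k1
    have k' : ∀ g ∈ E, g * (ρ * a * ρ⁻¹) * g⁻¹ = ρ * a * ρ⁻¹ ∨
        g * (ρ * a * ρ⁻¹) * g⁻¹ = ρ * a * ρ⁻¹ * (ρ * z * ρ⁻¹) := fun g hg =>
      (k _ (h.lt.le (cmem' r1 hg))).imp (fun e => .trans (by group) (congrArg (ρ * · * ρ⁻¹) e))
        fun e => by rw [conj_mul, ← e]; group
    have cb : Nat.card ↥(E ⊓ Cen1 (ρ * a * ρ⁻¹)) = Nat.card ↥(E ⊓ Cen1 a) := by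
      rw [← conj_c1, ← card_conjS ρ (E ⊓ Cen1 a), conjS_inf, mem_normalizer_iff_conjS.1 r1]
    have fin : E ⊓ Cen1 (ρ * a * ρ⁻¹) = E ⊓ Cen1 a → ρ ∈ Nor (E ⊓ Cen1 a) := fun e =>
      mem_normalizer_iff_conjS.2 (by rw [conjS_inf, mem_normalizer_iff_conjS.1 r1, conj_c1, e])
    have b1 : ρ * a * ρ⁻¹ ∉ W E := fun c => a1 (cmem2 (nW r1) c)
    generalize ρ * a * ρ⁻¹ = b at *
    generalize ρ * z * ρ⁻¹ = d at *
    have zd : d * z ≠ 1 := fun c => n (mul_right_cancel (c.trans (ii h.oz).symm))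
    have ab : b ∈ Cen1 a := (k b (h.lt.le bE)).elim GW.c1'.2 fun e1 => (k' a aE).elim
      (fun c => c1s.1 (GW.c1'.2 c)) fun e2 => absurd (by
        rw [mul_inv_eq_iff_eq_mul] at e1 e2
        rw [mul_assoc, ← wc h.zW bE, ← mul_assoc, e2, mul_assoc b, ← wc dW aE, ← mul_assoc,
          mul_assoc, left_eq_mul] at e1
        exact e1) zd
    have b3 : b ∉ W E ⊔ zpowers a := fun c => (mR.1 c).elim b1 fun c => by
      obtain ⟨g, hg, g1⟩ := SetLike.exists_of_lt l1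
      have e1 := GW.c1'.1 (cW c hg)
      rw [← conj_mul, (k g (h.lt.le hg)).resolve_left fun c => g1 ⟨hg, GW.c1'.2 c⟩] at e1
      rcases k' g hg with e2 | e2 <;> rw [e2] at e1
      · exact ine h.oz (by simpa using e1)
      · rw [mul_assoc, ← mul_assoc d, ← wc dW aE, mul_assoc] at e1
        exact zd (by simpa using e1)
    have cR2 := card_sup_zp b2 (msup (nw bE) (mzp ab)) b3
    have l2 : ∀ v ∈ E, a ∈ Cen1 v → b ∈ Cen1 v → W E ⊔ zpowers a ⊔ zpowers b ≤ E ⊓ Cen1 v :=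
      fun v hv h1 h2 => sup_le (sup_le (fun u hu => ⟨(mW.1 hu).1.1, c1s.1 (cW hu hv)⟩)
        (zpowers_le.2 ⟨aE, h1⟩)) (zpowers_le.2 ⟨bE, h2⟩)
    have l3 := l2 a aE (c1.2 rfl) ab
    have c5 := card_le_of_le l3
    rw [← e, cV] at cR
    rw [e] at cR
    have c6 := idx2' (S := E) inf_le_left fun u hu v hv u1 v1 => ⟨mul_mem hu hv, idx2 h.leT
      (by rw [card_conjS]; omega) u (h.lt.le hu) v (h.lt.le hv) (fun c => u1 ⟨hu, c⟩) fun c => v1 ⟨hv, c⟩⟩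
    have := fin ((eq_of_le_of_card_ge (l2 b bE (c1s.1 ab) (c1.2 rfl)) (by omega)).symm.trans
      (eq_of_le_of_card_ge l3 (by omega)))
    rw [← eq_of_le_of_card_ge (le_inf inf_le_left c0) (by omega)] at this
    exact r2 (n0 (by omega) this)
  · have c5 := half e
    have eR := eq_of_le_of_card_ge R0 (by omega)
    have i2 := idx2 (h.lt0.le) (by omega)
    have nn : ∀ g ∈ Nor E, g * a * g⁻¹ ∈ E ⊓ conjS x E → g ∈ S := fun g hg c =>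
      n0 (by omega) (eR ▸ mem_normalizer_iff_conjS.2 (eq_of_le_of_card_ge (by
        rw [conjS_sup, mem_normalizer_iff_conjS.1 (nW hg), conjS, MonoidHom.map_zpowers]
        exact sup_le le_sup_left (zpowers_le.2 (eR ▸ c))) (card_conjS g _).ge))
    have b1 : ρ * a * ρ⁻¹ ∉ E ⊓ conjS x E := fun c => r2 (nn ρ r1 c)
    have e1 := mR.1 (eR ▸ i2 _ bE _ (cmem ht.2 bE) b1 fun c =>
      b1 (cmem2 (ninf inf_le_right h.nE ht) c))
    rcases e1 with e1 | e1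
    · refine t1 (h.ti0 o n ht.1 ?_)
      have := nn _ (mul_mem (mul_mem (inv_mem r1) ht.2) r1) (mem_of_eq (mul_mem (inv_mem a0)
        (R0 (mem_sup_left (cmem' (nW r1) e1)))) (by group))
      simpa [mul_assoc] using cc1 (h.cz ▸ this :) ρ
    · have c2' : t * (ρ * a * ρ⁻¹) * t⁻¹ * (t * (ρ * a * ρ⁻¹) * t⁻¹) = 1 := by rw [conj_mul, b2]; group
      generalize t * (ρ * a * ρ⁻¹) * t⁻¹ = c at *
      generalize ρ * a * ρ⁻¹ = b at *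
      have e2 : b * c = b * c * a * a := by rw [mul_assoc _ a, a2, mul_one]
      have e3 : b * c * (b * c) = 1 := by
        rw [e2, mul_assoc _ a, ← mul_assoc a, wc e1 aE, mul_assoc _ a a, a2, mul_one, (mW.1 e1).2]
      have e4 : b ∈ Cen1 a := (mul_mem_cancel_left (c1s.1 (c1.2 (show b * (b * c) = b * c * b by
        rw [← mul_assoc, b2, one_mul, eq_comm, ← mul_left_inj c, c2', mul_assoc, e3]))) |>.1
        (c1s.1 (cW e1 bE))) |> c1s.1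
      obtain ⟨g, hg, g1⟩ := SetLike.exists_of_lt l1
      exact g1 ⟨hg, (mul_mem_cancel_right e4).1 (c0 (i2 g hg b bE (fun c => g1 ⟨hg, c0 c⟩) b1))⟩

end Ex

end LN.MA
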