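import Cfsg.Agent.LN.A2

/-! The transvection case: `D = 1` by transfer. -/

set_option autoImplicit false
set_option linter.unusedVariables false
set_option linter.unusedSectionVars false

namespace LN.MA

open Cfsg Subgroup FT GW H4
open H5 (IsSylowOf mem_of_eq)
open TW (idx2 idx2' half mem_sup_zp card_sup_zp NN mem_NN NN_of cm2)

variable {G : Type*} [Group G] [Finite G] {S E D : Subgroup G} {z g k x y u u0 a b c d r s : G}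

theorem dih (ha : a * a = 1) (hb : b * b = 1) (hc : c ∈ closure ({a, b} : Set G)) :
    c ∈ zpowers (a * b) ∨ ∃ w ∈ zpowers (a * b), w * c * w⁻¹ = a ∨ w * c * w⁻¹ = b := by
  refine (H9.mem_closure_two_invol ha hb hc).imp_right fun ⟨k, hk⟩ => ?_
  have e : c = a * (a * b) ^ k := by rw [show (a * b) ^ k = a * c from hk, ← mul_assoc, ha, one_mul]
  have i := fun j : ℤ => H9.conj_inv_of_mem_zpowers (H9.invol_conj_mul ha hb) (zpow_mem_zpowers (a * b) j)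
  obtain ⟨j, rfl | rfl⟩ := Int.even_or_odd' k
  · refine ⟨_, zpow_mem_zpowers _ j, Or.inl ?_⟩
    rw [e, show (a * b) ^ j * (a * (a * b) ^ (2 * j)) * ((a * b) ^ j)⁻¹ =
      (a * b) ^ j * (a * (a * b) ^ j * a⁻¹) * a by group, i]; group
  · refine ⟨_, zpow_mem_zpowers _ j, Or.inr ?_⟩
    rw [e, show (a * b) ^ j * (a * (a * b) ^ (2 * j + 1)) * ((a * b) ^ j)⁻¹ =
      (a * b) ^ j * (a * (a * b) ^ j * a⁻¹) * (a * (a * b)) by generalize a * b = w; group, i,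
      ← mul_assoc a, ha]; group

theorem Cs.exa (h : Cs S E D z x u u0) (hD : D ≠ ⊥) :
    ∃ a ∈ D, a ≠ 1 ∧ a * a = 1 ∧ 32 ≤ Nat.card ↥(S ⊓ Cen1 a) := by
  have DS : D ≤ S := h.DE.trans (inf_le_left.trans h.le)
  have hS := h.card
  rcases H7.exists_normal_four_or_cyclic_index h.two with ⟨U, Un, Ue, Uc⟩ | ⟨c, hc⟩
  · obtain ⟨a, ha, a1⟩ : ∃ a ∈ U, a ∉ zpowers (⟨z, h.le h.zE⟩ : S) := by
      by_contra! c
      have := card_le_of_le (show U ≤ _ from c)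
      rw [Nat.card_zpowers, ← orderOf_coe, h.oz] at this; omega
    have a2 : (a : G) * a = 1 := congrArg Subtype.val (sq a ▸ Ue.2 a ha :)
    have c1 := H7.card_le_mul_card_inf_centralizer_sq h.two U Uc ⊤
    have c2 := card_le_of_le (show (⊤ ⊓ centralizer (U : Set S)).map S.subtype ≤ S ⊓ Cen1 (a : G) by
      rintro _ ⟨g, hg, rfl⟩; exact ⟨g.2, GW.c1.2 (congrArg Subtype.val (hg.2 a ha)).symm⟩)
    rw [card_map_of_injective S.subtype_injective] at c2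
    rw [card_top] at c1
    have a0 := (h.ext a.2 a2 (by omega)).1
    by_cases e : (a : G) ∈ D
    · exact ⟨a, e, fun e => a1 ((Subtype.ext e : a = 1) ▸ one_mem _), a2, by omega⟩
    have := card_le_of_le (show S ⊓ Cen1 (a : G) ≤ S ⊓ Cen1 (a * z) from fun g hg =>
      ⟨hg.1, c1s.1 (mul_mem (c1s.1 hg.2) (c1s.1 (h.cz ▸ hg.1 :)))⟩)
    refine ⟨_, h.i3 _ a0 _ h.zE0 e h.zD, fun e => a1 ?_, ?_, by omega⟩
    · rw [show a = ⟨z, h.le h.zE⟩ from Subtype.ext (mul_right_cancel (e.trans (ii h.oz).symm))]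
      exact mem_zpowers _
    · rw [mul_assoc, ← mul_assoc z, ← GW.c1.1 (h.cz.ge a.2), mul_assoc, ii h.oz, mul_one, a2]
  · have c1 : 32 ≤ Nat.card (zpowers (c : G)) := by
      have := (zpowers c).index_mul_card
      have := Nat.le_of_dvd two_pos hc
      rw [Nat.card_zpowers] at *
      rw [orderOf_coe]; nlinarith
    have := h.k2; have := h.k3; have := h.k4
    have i := idx2 (zpowers_le.2 c.2) (by omega)
    have n : ∀ g ∈ S ⊓ Nor E, g * u * g⁻¹ ∉ zpowers (c : G) := fun g hg e => by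
      have := card_le_of_le (show zpowers (c : G) ≤ E from zpowers_le.2 (mem_of_eq (cmem hg.2 (h.cu _
        (mul_mem (mul_mem (inv_mem hg.1) c.2) hg.1) (cc2 (g := g) (mem_of_eq (c1s.1
          (zpowers_le.2 (GW.c1.2 rfl) e)) (by group))))) (by group)))
      omega
    have n1 : u ∉ zpowers (c : G) := by simpa using n 1 (one_mem _)
    have uS := h.le h.uE
    have e0 := i _ uS _ (cmem h.tT.2 h.uE |> h.le) n1 (n _ h.tT)
    rw [h.mv0 _ h.tT h.tE, ← mul_assoc, h.uu, one_mul] at e0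
    have o0 := orderOf_eq_two' h.u00 fun e => h.u0D (e ▸ one_mem _)
    obtain ⟨d, hd, d1, -, d2⟩ := H7.exists_mem_normalizer_of_lt (h.two.to_le DS) (bot_lt_iff_ne_bot.2 hD)
    rw [mem_bot, sq] at d2
    have k : ∀ v ∈ zpowers (c : G), v * v = 1 → v ≠ 1 → v = u0 := fun v hv v2 v1 =>
      inv_uniq hv e0 (orderOf_eq_two' v2 v1) o0
    have e1 : u * d ∉ E ⊓ conjS x E := fun e => h.u1 ((mul_mem_cancel_right (h.DE hd)).1 e)
    exact absurd (k _ (i _ uS _ (DS hd) n1 fun e => h.u0D (k d e d2 d1 ▸ hd)) (by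
      rw [mul_assoc, ← mul_assoc d, GW.c1.1 (h.ab _ (h.DE hd).1 _ h.uE), mul_assoc, d2, mul_one, h.uu])
      (fun e => e1 (e ▸ one_mem _)) ▸ h.u0E) e1

structure Ca (S E D : Subgroup G) (z x u u0 a s r : G) : Prop extends Cs S E D z x u u0 where
  aD : a ∈ D
  a1 : a ≠ 1
  aa : a * a = 1
  c0 : 32 ≤ Nat.card ↥(S ⊓ Cen1 a)
  sS : s ∈ S
  s0 : s ∉ S ⊓ Cen1 a
  er : s * u * s⁻¹ = r
  alt : (∀ d ∈ D, d = 1 ∨ d = a) ∨
    (Nat.card ↥(S ⊓ Cen1 a) ≤ 2 * Nat.card ↥(S ⊓ Nor E) ∧ s * s ∈ S ⊓ Nor E)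

namespace Cs

variable (h : Cs S E D z x u u0) (aD : a ∈ D) (aa : a * a = 1) (c0 : 32 ≤ Nat.card ↥(S ⊓ Cen1 a))
include h aD aa c0

theorem j0 : ∀ g ∈ S, ∀ k ∈ S, g ∉ S ⊓ Cen1 a → k ∉ S ⊓ Cen1 a → g * k ∈ S ⊓ Cen1 a :=
  idx2 inf_le_left (by rw [h.card]; omega)

theorem T0 : S ⊓ Nor E ≤ S ⊓ Cen1 a := fun g hg => ⟨hg.1, h.ZT (h.DE aD) hg⟩

theorem xa : x ∈ S ⊓ Cen1 a := ⟨h.xS, (h.ext (h.le (h.DE aD).1) aa c0).2⟩

theorem n0 : S ≤ Nor (S ⊓ Cen1 a) := fun g hg => mnor fun k hk =>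
  mem_of_eq (mul_mem (cm2 (h.j0 aD aa c0) hg hk.1) hk) (by group)

theorem nT (hg : g ∈ S) (g1 : g ∉ S ⊓ Cen1 a) : g * u * g⁻¹ ∉ S ⊓ Nor E := fun e =>
  (h.inT hg e).elim (fun c => g1 (h.T0 aD aa c0 ⟨hg, c⟩)) fun c => g1
    ((mul_mem_cancel_left (h.xa aD aa c0)).1 (h.T0 aD aa c0 ⟨mul_mem h.xS hg, c⟩))

end Cs

theorem Cs.ca (h : Cs S E D z x u u0) (hD : D ≠ ⊥) : ∃ a s r, Ca S E D z x u u0 a s r := by
  obtain ⟨a, aD, a1, aa, c0⟩ := h.exa hD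
  obtain ⟨s, sS, s1⟩ := SetLike.not_le_iff_exists.1 fun e => a1 (h.cD aD e)
  have s0 : s ∉ S ⊓ Cen1 a := fun c => s1 c.2
  rcases (zpowers_le.2 aD).eq_or_lt with e | e
  · exact ⟨a, s, _, h, aD, a1, aa, c0, sS, s0, rfl, Or.inl fun d hd => mem_zp2 aa (e ▸ hd)⟩
  have c1 := half e
  have c2 := half (lt_of_le_of_ne (inf_le_left (a := S) (b := Cen1 a)) fun e => s0 (e.symm ▸ sS))
  rw [Nat.card_zpowers, orderOf_eq_two' aa a1] at c1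
  have := h.k1; have := h.k2; have := h.k3; have := h.card
  have c3 : Nat.card ↥(S ⊓ Cen1 a) ≤ 2 * Nat.card ↥(S ⊓ Nor E) := by omega
  by_cases e : s * s ∈ S ⊓ Nor E
  · exact ⟨a, s, _, h, aD, a1, aa, c0, sS, s0, rfl, Or.inr ⟨c3, e⟩⟩
  have uT := h.lt.le h.uE
  have u1 := h.T0 aD aa c0 uT
  exact ⟨a, s * u, _, h, aD, a1, aa, c0, mul_mem sS u1.1, fun c => s0 ((mul_mem_cancel_right u1).1 c),
    rfl, Or.inr ⟨c3, mem_of_eq (mul_mem (idx2 (h.T0 aD aa c0) c3 _ (cmem (h.n0 aD aa c0 sS) u1) _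
      (h.j0 aD aa c0 s sS s sS s0 s0) (h.nT aD aa c0 sS s0) e) uT) (by simp [mul_assoc])⟩⟩

namespace Ca

variable (h : Ca S E D z x u u0 a s r)
include h

theorem aS : a ∈ S := h.le (h.DE h.aD).1

theorem sa : s * a * s⁻¹ = a * z :=
  (h.pair h.aS h.aa h.c0 h.sS).resolve_left fun e => h.s0 ⟨h.sS, c1'.2 e⟩

theorem t0 : S ⊓ Nor E ≤ S ⊓ Cen1 a := h.T0 h.aD h.aa h.c0

theorem m0 : S ≤ Nor (S ⊓ Cen1 a) := h.n0 h.aD h.aa h.c0

theorem ss : s * s ∈ S ⊓ Cen1 a := h.j0 h.aD h.aa h.c0 s h.sS s h.sS h.s0 h.s0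

theorem uS : u ∈ S ⊓ Cen1 a := h.t0 (h.lt.le h.uE)

theorem rS : r ∈ S ⊓ Cen1 a := h.er ▸ cmem (h.m0 h.sS) h.uS

theorem rT : r ∉ S ⊓ Nor E := h.er ▸ h.nT h.aD h.aa h.c0 h.sS h.s0

theorem rr : r * r = 1 := by rw [← h.er, conj_mul, h.uu]; group

theorem xT' : x ∉ S ⊓ Nor E := fun c => h.xT c.2

theorem cs (e : S ⊓ Cen1 a ≤ Cen1 c) : S ⊓ Cen1 a ≤ Cen1 (s * c * s⁻¹) := fun g hg =>
  mem_of_eq (cc1 (e (cmem' (h.m0 h.sS) hg)) s) (by group)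

theorem all {K : Subgroup G} (h1 : S ⊓ Cen1 a ≤ K) (h2 : s ∈ K) : S ≤ K := fun g hg =>
  (em _).elim (fun e => h1 e) fun e =>
    (mul_mem_cancel_right h2).1 (h1 (h.j0 h.aD h.aa h.c0 g hg s h.sS e h.s0))

theorem uq0 (hc : c ∈ D) (e : S ⊓ Cen1 a ≤ Cen1 c) : c = 1 ∨ c = a := by
  have Q : ∀ c ∈ D, S ⊓ Cen1 a ≤ Cen1 c → s * c * s⁻¹ ∈ D → c = 1 := fun c hc e e' =>
    conj_eq_one_iff.1 (mem_bot.1 ((h.nD (D ⊓ Cen (S ⊓ Cen1 a) ⊓ conjS s (D ⊓ Cen (S ⊓ Cen1 a)))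
      (inf_le_left.trans inf_le_left) (h.all (fun g hg => centralizer_le_normalizer _
        (cen.2 fun k hk => (cen.1 hk.1.2 g hg).symm)) (mnor fun k hk => ⟨by
          obtain ⟨y, hy, rfl⟩ := hk.2
          exact mem_of_eq hy (Eq.trans (by simp [mul_assoc]) (c1'.1 (cen_iff_le.1 hy.2 h.ss))).symm,
        conj_mem_conjS hk.1⟩))).le ⟨⟨e', cen_iff_le.2 (h.cs e)⟩, conj_mem_conjS ⟨hc, cen_iff_le.2 e⟩⟩))
  refine (em _).imp_right fun c1 => mul_right_cancel ((Q _ (mul_mem hc h.aD)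
    (fun g hg => c1s.1 (mul_mem (c1s.1 (e hg)) (c1s.1 hg.2))) ?_).trans h.aa.symm)
  have c0 : s * c * s⁻¹ ∈ E ⊓ conjS x E := h.mE0 (mul_mem (mul_mem h.sS (h.le (h.DE hc).1))
    (inv_mem h.sS)) (h.cs e h.uS) (h.cs e (h.xa h.aD h.aa h.c0))
  rw [← conj_mul, h.sa, GW.c1.1 (h.cz.ge h.aS), ← mul_assoc]
  exact mul_mem (h.i3 _ c0 _ h.zE0 (fun e' => c1 (Q c hc e e')) h.zD) h.aD

theorem cen0 (c3 : Nat.card ↥(S ⊓ Cen1 a) ≤ 2 * Nat.card ↥(S ⊓ Nor E)) (hy : y ∈ S ⊓ Cen1 a)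
    (y1 : y ∉ S ⊓ Nor E) {K : Subgroup G} (h1 : S ⊓ Nor E ≤ K) (h2 : y ∈ K) : S ⊓ Cen1 a ≤ K :=
  fun g hg => (em _).elim (fun e => h1 e) fun e =>
    (mul_mem_cancel_right h2).1 (h1 (idx2 h.t0 c3 g hg y hy e y1))

theorem uq1 (hy : y ∈ S ⊓ Cen1 a) (y1 : y ∉ S ⊓ Nor E) (hc : c ∈ D) (e : y ∈ Cen1 c) :
    c = 1 ∨ c = a :=
  h.alt.elim (· c hc) fun k => h.uq0 hc (h.cen0 k.1 hy y1 (fun _ => h.ZT (h.DE hc)) e)

theorem uq (hy : y ∈ S ⊓ Cen1 a) (y1 : y ∉ S ⊓ Nor E) (hc : c ∈ E ⊓ conjS x E) (e : y ∈ Cen1 c) :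
    (c = 1 ∨ c = a) ∨ c = z ∨ c = a * z :=
  (em (c ∈ D)).imp (h.uq1 hy y1 · e) fun c1 => (h.uq1 hy y1 (h.i3 _ hc _ h.zE0 c1 h.zD)
    (c1s.1 (mul_mem (c1s.1 e) (c1s.1 (h.cz.ge hy.1))))).imp
      (fun e => mul_right_cancel (e.trans (ii h.oz).symm))
      fun e => by rw [← e, mul_assoc, ii h.oz, mul_one]

theorem hard (hd : d ∈ D) (n : r ∉ Cen1 d) : u0 = z ∧ d⁻¹ * r * d = z * r ∧
    ∃ c, (c = 1 ∨ c = z) ∧ u * (r * u * r⁻¹) * (s * d * s⁻¹ * d⁻¹) = c := by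
  obtain ⟨c3, s2⟩ := h.alt.resolve_left fun c => n (by
    rcases c d hd with rfl | rfl
    exacts [GW.c1.2 (by group), h.rS.2])
  have d0 := h.DE hd
  have j := idx2 h.t0 c3
  have xa := h.xa h.aD h.aa h.c0
  have nN : S ⊓ Nor E ≤ Nor (E ⊓ conjS x E) := ninf inf_le_right h.nE
  have r0 : r ∈ Nor (E ⊓ conjS x E) :=
    (mul_mem_cancel_right h.x0).1 (nN (j _ h.rS _ xa h.rT h.xT'))
  have zc : ∀ {g}, g ∈ S → g * z = z * g := fun hg => GW.c1.1 (h.cz.ge hg)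
  have f : F4 z a := ⟨h.oz, orderOf_eq_two' h.aa h.a1, (zc h.aS).symm, fun e => h.zD (e ▸ h.aD)⟩
  have c4 := card_le_of_le (show V4 z a ≤ E ⊓ conjS x E ⊓ Cen1 r from
    V_le ⟨h.zE0, c1s.1 (h.cz.ge h.rS.1)⟩ ⟨h.DE h.aD, c1s.1 h.rS.2⟩)
  have := h.k3; have := h.k4
  have e0 := idx2 (S := E ⊓ conjS x E) (M := E ⊓ conjS x E ⊓ Cen1 r) inf_le_left
    (by rw [f.card_V] at c4; omega) _ (inv_mem d0) _ (cmem r0 d0) (fun c => n (c1s.1 (inv_mem_iff.1 c.2)))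
    fun c => n (c1s.1 (cc2 (g := r) (mem_of_eq c.2 rfl |> fun c => by simpa using c)))
  have cn : ∀ c ∈ E ⊓ conjS x E ⊓ Cen1 r, S ⊓ Cen1 a ≤ Cen1 c := fun c hc =>
    h.cen0 c3 h.rS h.rT (fun _ => h.ZT hc.1) (c1s.1 hc.2)
  have e1 := h.cs (cn _ e0)
  have e2 := h.cu _ (mul_mem (mul_mem h.sS (h.le e0.1.1)) (inv_mem h.sS)) (c1s.1 (e1 h.uS))
  have ur : s * r * s⁻¹ = s * s * u * (s * s)⁻¹ := by rw [← h.er]; group
  have v1 : s * r * s⁻¹ ∈ E := ur ▸ cmem s2.2 h.uE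
  have v2 : s * r * s⁻¹ ∉ E ⊓ conjS x E := fun c => h.u1 (cmem2 (nN s2) (ur ▸ c))
  have dS := cmem (h.m0 h.sS) (h.t0 (h.lt.le d0.1))
  have q1 : (s * d * s⁻¹)⁻¹ * (s * r * s⁻¹) * (s * d * s⁻¹)⁻¹⁻¹ =
      s * (d⁻¹ * (r * d * r⁻¹)) * s⁻¹ * (s * r * s⁻¹) := by group
  have dT : s * d * s⁻¹ ∈ S ⊓ Nor E := ⟨dS.1, (inv_mem_iff (H := Nor E)).1 ((mul_mem_cancel_right (H := Nor E) s2.2).1
    (h.inE (mul_mem (inv_mem dS.1) s2.1) (mem_of_eq (mul_mem e2 v1) (by rw [← q1, ur]; group))))⟩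
  have dE : s * d * s⁻¹ ∉ E := fun c => n (cc2 (h.ab _ v1 _ c))
  rw [h.mv (inv_mem dT) (fun c => dE (inv_mem_iff.1 c)) v1 v2, GW.c1.1 (h.ab _ v1 _ h.u0E.1),
    mul_left_inj] at q1
  have nT : ∀ v ∈ S ⊓ Nor E, r * v * r⁻¹ ∈ S ⊓ Nor E := fun v hv =>
    mem_of_eq (mul_mem (cm2 j h.rS (h.t0 hv)) hv) (by group)
  have uT := h.lt.le h.uE
  have tE : r * u * r⁻¹ ∉ E := fun c => h.rT ⟨h.rS.1, h.inE h.rS.1 c⟩
  have tE' : ∀ v ∈ E, v ∉ E ⊓ conjS x E → r * v * r⁻¹ ∉ E := fun v hv v1 c => tE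
    ((mul_mem_cancel_left c).1 (mem_of_eq (H := E) (cmem r0 (h.i2 v hv u h.uE v1 h.u1)).1 conj_mul.symm))
  have ri := inv_eq_of_mul_eq_one_right h.rr
  have ui := inv_eq_of_mul_eq_one_right h.uu
  have rr : ∀ y, r * (r * y) = y := fun y => by rw [← mul_assoc, h.rr, one_mul]
  have uu : ∀ y, u * (u * y) = y := fun y => by rw [← mul_assoc, h.uu, one_mul]
  have m1 := h.mv0 _ (nT u uT) tE
  have uz : u0 = z := (h.ZS (h.le h.u0E.1) (h.all (q1 ▸ e1) (c1'.2 (by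
    have m2 := h.mv (nT _ (h.lt.le v1)) (tE' _ v1 v2) v1 v2
    have v3 : (s * r * s⁻¹)⁻¹ = s * r * s⁻¹ := by conv_rhs => rw [← ri]
                                                  group
    calc _ = s * (u * (r * u * r⁻¹ * u * (r * u * r⁻¹)⁻¹)) * s⁻¹ := by rw [m1, uu]
      _ = s * u * s⁻¹ * (s * r * s⁻¹ * (s * u * s⁻¹) * (s * r * s⁻¹)⁻¹ * (s * u * s⁻¹) *
          (s * r * s⁻¹ * (s * u * s⁻¹) * (s * r * s⁻¹)⁻¹)⁻¹) := by group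
      _ = r * (s * r * s⁻¹) * r⁻¹ * (s * r * s⁻¹) * (r * (s * r * s⁻¹) * r⁻¹)⁻¹ * (s * r * s⁻¹)⁻¹ := by
        rw [h.er]; generalize s * r * s⁻¹ = v at *; simp only [mul_inv_rev, ri, v3, mul_assoc]
      _ = _ := by rw [m2, c1'.1 (h.ab _ v1 _ h.u0E.1)])))).resolve_left fun e => h.u0D (e ▸ one_mem _)
  subst uz
  have q2 : d⁻¹ * r * d = u0 * r := by
    rw [← h.mz.1 h.sS, mul_left_inj, mul_right_inj] at q1
    rw [q1]; group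
  refine ⟨rfl, q2, _, ?_, rfl⟩
  have a1 := h.i1 _ (mul_mem uT (nT u uT)) _ (mul_mem dT (inv_mem (h.lt.le d0.1)))
    (fun c => tE ((mul_mem_cancel_left h.uE).1 c)) fun c => dE ((mul_mem_cancel_right (E.inv_mem d0.1)).1 c)
  have a2 : u * (r * u * r⁻¹) * (s * d * s⁻¹ * d⁻¹) ∈ Cen1 r := c1'.2 (by
    have := c1'.1 (h.er ▸ cc1 (h.ab _ d0.1 _ h.uE) s :)
    calc _ = u * (r * u * r⁻¹) * (s * d * s⁻¹ * (d⁻¹ * r * d) * (s * d * s⁻¹)⁻¹) * (u * (r * u * r⁻¹))⁻¹ := by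
          group
      _ = u0 * (u * (r * u * r⁻¹ * u * (r * u * r⁻¹)⁻¹) * r) := by
          rw [q2, ← mul_assoc _ u0, zc dS.1, mul_assoc u0, mul_assoc u0, this, ← mul_assoc _ u0,
            zc (mul_mem uT (nT u uT)).1]
          simp only [mul_inv_rev, ri, ui, mul_assoc, rr, h.rr, mul_one]
      _ = _ := by rw [m1, uu, ← mul_assoc, ii h.oz, one_mul])
  have a3 : u * (r * u * r⁻¹) * (s * d * s⁻¹ * d⁻¹) ∈ E ⊓ conjS x E :=
    by_contra fun c => tE' _ a1 c ((c1'.1 (c1s.1 a2)).symm ▸ a1)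
  have a4 : s * (u * (r * u * r⁻¹) * (s * d * s⁻¹ * d⁻¹)) * s⁻¹ =
      (u * (r * u * r⁻¹) * (s * d * s⁻¹ * d⁻¹))⁻¹ := by
    have b1 : s * r * s⁻¹ * r * (s * r * s⁻¹)⁻¹ = u * r * u⁻¹ := by
      rw [ur]
      by_cases e : s * s ∈ E
      · rw [c1'.1 (h.ab _ e _ h.uE)]
      · rw [h.mv0 _ s2 e, mul_assoc u, ← zc h.rS.1]; group
    have b2 := c1'.1 (h.ZT a3 (inv_mem (mul_mem uT (nT u uT))))
    calc _ = s * u * s⁻¹ * (s * r * s⁻¹ * (s * u * s⁻¹) * (s * r * s⁻¹)⁻¹) *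
          (s * s * d * (s * s)⁻¹ * (s * d * s⁻¹)⁻¹) := by simp [mul_assoc]
      _ = _ := by
        rw [h.er, b1, c1'.1 (h.ZT d0 s2), ← b2]
        simp only [mul_inv_rev, ri, ui, mul_assoc, rr, uu, inv_inv]
  rcases h.uq h.rS h.rT a3 (c1s.1 a2) with (e | e) | e | e
  · exact Or.inl e
  · rw [e, h.sa, inv_eq_of_mul_eq_one_right h.aa] at a4
    exact absurd (mul_eq_left.1 a4) (ine h.oz)
  · exact Or.inr e
  · rw [e, ← conj_mul, h.sa, h.mz.1 h.sS, mul_assoc, ii h.oz, mul_one, eq_inv_iff_mul_eq_one,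
      ← mul_assoc, h.aa, one_mul] at a4
    exact absurd a4 (ine h.oz)

theorem false [Group.IsPerfect G] : False := by
  obtain ⟨Δ, eΔ⟩ : ∃ Δ, Δ = closure ({u, r} : Set G) := ⟨_, rfl⟩
  have uΔ : u ∈ Δ := eΔ ▸ subset_closure (by simp)
  have rΔ : r ∈ Δ := eΔ ▸ subset_closure (by simp)
  have le : ∀ {K : Subgroup G}, u ∈ K → r ∈ K → Δ ≤ K := fun h1 h2 =>
    eΔ ▸ (closure_le _).2 (by rintro _ (rfl | rfl) <;> assumption)
  have nr : ∀ {g}, g * u * g⁻¹ ∈ Δ → g * r * g⁻¹ ∈ Δ → g ∈ Nor Δ := fun {g} h1 h2 =>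
    (inv_mem_iff (H := Nor Δ)).1 (mem_normalizer_iff_conjS.2 (eq_of_le_of_card_ge (le (K := conjS g⁻¹ Δ)
      (mem_conjS.2 (by simpa using h1)) (mem_conjS.2 (by simpa using h2))) (card_conjS _ _).le).symm)
  have Δ0 := le h.uS h.rS
  have ΔS := Δ0.trans inf_le_left
  have rE : r ∉ E := fun c => h.rT (h.lt.le c)
  obtain ⟨y, hy, y1, y2, -⟩ := H7.exists_mem_normalizer_of_lt (h.two.to_le ΔS)
    (lt_of_le_of_ne (inf_le_left (a := Δ) (b := E)) fun e => rE (e.ge rΔ).2)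
  have yT : y ∈ S ⊓ Nor E := ⟨ΔS hy, h.inE (ΔS hy) (cmem y2 ⟨uΔ, h.uE⟩).2⟩
  have yE : y ∉ E := fun c => y1 ⟨hy, c⟩
  have u0Δ : u0 ∈ Δ := (mul_mem_cancel_left uΔ).1 (h.mv0 y yT yE ▸ (cmem y2 ⟨uΔ, h.uE⟩).1)
  have up : ∀ {M K : Subgroup G} {t : G}, (∀ g ∈ K, ∀ k ∈ K, g ∉ M → k ∉ M → g * k ∈ M) → t ∈ K → t ∉ M →
      t ∈ Δ → M ≤ Δ ⊔ D → K ≤ Δ ⊔ D := fun i h1 h2 h3 h4 g hg => (em _).elim (fun e => h4 e) fun e =>
    (mul_mem_cancel_right (mem_sup_left h3)).1 (h4 (i g hg _ h1 e h2))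
  have TK := up h.i1 yT yE hy (up h.i2 h.uE h.u1 uΔ (up h.i3 h.u0E h.u0D u0Δ le_sup_right))
  have DN : D ≤ Nor Δ := fun d hd => (inv_mem_iff (H := Nor Δ)).1 (nr
    (by rwa [c1'.1 (inv_mem (h.ab _ (h.DE hd).1 _ h.uE))]) (by
      by_cases e : r ∈ Cen1 d
      · rwa [c1'.1 (inv_mem (c1s.1 e))]
      · obtain ⟨e1, e2, -⟩ := h.hard hd e
        rw [inv_inv, e2]; exact mul_mem (e1 ▸ u0Δ) rΔ))
  have D0 : D ≤ S ⊓ Cen1 a := h.DE.trans (inf_le_left.trans (h.lt.le.trans h.t0))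
  have urΔ : zpowers (u * r) ≤ Δ := zpowers_le.2 (mul_mem uΔ rΔ)
  have cov : S ⊓ Cen1 a ≤ Δ ⊔ D := h.alt.elim (fun k => by_contra fun c => by
    obtain ⟨y, hy, y1, y2, -⟩ := H7.exists_mem_normalizer_of_lt (h.two.to_le inf_le_left)
      (lt_of_le_of_ne (sup_le Δ0 D0) fun e => c e.ge)
    obtain ⟨v, hv, b, hb, e⟩ := (mem_sup_of_le_normalizer_left DN).1 (cmem y2 (mem_sup_left uΔ))
    have bE := (h.DE hb).1
    have bc : S ⊓ Cen1 a ≤ Cen1 b := by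
      rcases k b hb with rfl | rfl
      exacts [fun g _ => GW.c1.2 (by group), inf_le_right]
    have y3 : ∀ w ∈ Δ, w * v * w⁻¹ ∈ E → False := fun w hw e' => y1 ((mul_mem_cancel_left
      (mem_sup_left hw)).1 (TK ⟨mul_mem (ΔS hw) hy.1, h.inE (mul_mem (ΔS hw) hy.1) (mem_of_eq
        (mul_mem e' bE) (by rw [← c1'.1 (bc (Δ0 hw)), conj_mul, e]; group))⟩))
    rcases dih h.uu h.rr (eΔ ▸ hv) with e1 | ⟨w, hw, e1 | e1⟩
    · refine y3 1 (one_mem _) (mem_of_eq (h.cu v (ΔS hv) (c1s.1 (c1'.2 ?_))) (by group))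
      rw [H9.conj_inv_of_mem_zpowers (H9.invol_conj_mul h.uu h.rr) e1, inv_eq_iff_mul_eq_one]
      have : v * b * (v * b) = 1 := by rw [e, conj_mul, h.uu]; group
      rw [mul_assoc, ← mul_assoc b, ← GW.c1.1 (bc (Δ0 hv)), mul_assoc, ← mul_assoc] at this
      rcases k b hb with rfl | rfl
      · simpa using this
      · rwa [h.aa, mul_one] at this
    · exact y3 w (urΔ hw) (e1 ▸ h.uE)
    · have w0 := mul_mem (Δ0 (urΔ hw)) hy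
      refine h.nT h.aD h.aa h.c0 (mul_mem (inv_mem h.sS) w0.1) (fun c => h.s0 ((inv_mem_iff
        (H := S ⊓ Cen1 a)).1 ((mul_mem_cancel_right w0).1 c))) (h.lt.le (mem_of_eq (mul_mem h.uE
          (show s⁻¹ * b * s⁻¹⁻¹ ∈ E from ?_)) ?_))
      · rcases k b hb with rfl | rfl
        · simpa using one_mem _
        · rcases h.pair h.aS h.aa h.c0 (inv_mem h.sS) with e | e <;> rw [e]
          exacts [bE, mul_mem bE h.zE]
      · calc _ = s⁻¹ * (s * u * s⁻¹ * b) * s := by group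
          _ = s⁻¹ * (w * (v * b) * w⁻¹) * s := by
            rw [h.er, ← conj_mul, e1, c1'.1 (bc (Δ0 (urΔ hw)))]
          _ = _ := by rw [e]; group)
    fun k => h.cen0 k.1 h.rS h.rT TK (mem_sup_left rΔ)
  have n0 := cov.trans (sup_le le_normalizer DN)
  have SN : S ≤ Nor Δ := h.all n0 (nr (h.er ▸ rΔ) (mem_of_eq (cmem (n0 h.ss) uΔ) (by rw [← h.er]; group)))
  have zΔ : z ∈ Δ := by
    obtain ⟨c, hc, c1, -, c2, -⟩ := H7.exists_step_up h.two ΔS SN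
      (bot_lt_iff_ne_bot.2 fun e => rE (mem_bot.1 (e.le rΔ) ▸ one_mem _))
    exact (h.ZS (ΔS hc) fun g hg => GW.c1.2 (commutatorElement_eq_one_iff_mul_comm.1
      (c2 g hg)).symm).resolve_left c1 ▸ hc
  have sD : ∀ d ∈ D, s ∈ NN Δ d := fun d hd => mem_NN.2 ⟨SN h.sS, by
    by_cases e : r ∈ Cen1 d
    · rcases h.uq1 h.rS h.rT hd e with rfl | rfl
      · simpa using one_mem _
      · rwa [h.sa, c1'.1 (h.cz.ge h.aS)]
    · obtain ⟨-, -, c, c1, c2⟩ := h.hard hd e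
      refine (mul_mem_cancel_left (mul_mem uΔ (mul_mem (mul_mem rΔ uΔ) (inv_mem rΔ)))).1 (c2 ▸ ?_)
      rcases c1 with rfl | rfl
      exacts [one_mem _, zΔ]⟩
  have sy : ∀ {g k : G}, k ∈ S → g ∈ NN Δ k → k ∈ NN Δ g := fun hk e =>
    mem_NN.2 ⟨SN hk, mem_of_eq (inv_mem (mem_NN.1 e).2) (by group)⟩
  have st : ∀ g ∈ S, D ≤ NN Δ g → s ∈ NN Δ g → S ≤ NN Δ g := fun g hg h1 h2 =>
    h.all (cov.trans (sup_le (fun v hv => mem_NN.2 ⟨le_normalizer hv, mem_of_eq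
      (mul_mem hv (cmem (SN hg) (inv_mem hv))) (by group)⟩) h1)) h2
  have cm : ∀ g ∈ S, S ≤ NN Δ g := fun g hg => st g hg
    (fun d hd => sy (D0 hd).1 (st d (D0 hd).1 (fun e he => NN_of (h.ab _ (h.DE he).1 _ (h.DE hd).1) (DN he))
      (sD d hd) hg))
    (sy h.sS (st s h.sS (fun d hd => sy (D0 hd).1 (sD d hd)) (NN_of (GW.c1.2 rfl) (SN h.sS)) hg))
  have zr : ∀ c ∈ Δ, S ⊓ Cen1 a ≤ Cen1 c → c ∈ zpowers (u * r) := fun c hc e =>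
    (dih h.uu h.rr (eΔ ▸ hc)).elim id fun ⟨w, hw, e1⟩ => absurd (h.cu r h.rS.1 (by
      rw [c1'.1 (e (Δ0 (urΔ hw)))] at e1
      rcases e1 with rfl | rfl
      exacts [e h.rS, c1s.1 (e h.uS)])) rE
  have aΔ : a ∉ Δ := fun c => h.zD (inv_uniq (zr a c inf_le_right) (zr z zΔ (inf_le_left.trans h.cz.ge))
    (orderOf_eq_two' h.aa h.a1) h.oz ▸ h.aD)
  obtain ⟨M, ΔM, ⟨MS, aM⟩, mx⟩ := Finite.exists_le_maximal (p := fun M => M ≤ S ∧ a ∉ M) ⟨ΔS, aΔ⟩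
  have cM : ∀ g ∈ S, ∀ k ∈ S, g * k * g⁻¹ * k⁻¹ ∈ M := fun g hg k hk => ΔM (mem_NN.1 (cm k hk hg)).2
  obtain ⟨g, g1, g2⟩ := TW.gtr h.syl MS cM h.aS aM (h.aa ▸ one_mem _) (fun t ht t2 => (em _).imp_right fun e => by
    have := (mem_sup_zp t2 (mnor fun k hk => mem_of_eq (mul_mem (cM t ht k (MS hk)) hk) (by group))).1
      (by_contra fun c => e (mx ⟨sup_le MS (zpowers_le.2 ht), c⟩ le_sup_left (mem_sup_right (mem_zpowers t))))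
    exact mem_of_eq (inv_mem (this.resolve_left aM)) (by
      rw [mul_inv_rev, inv_eq_of_mul_eq_one_right t2, inv_eq_of_mul_eq_one_right h.aa]))
    h.aa (h.two.to_le inf_le_left) (P := S ⊓ Cen1 a) inf_le_right
  have c1 := card_le_of_le (show conjS g⁻¹ (S ⊓ Cen1 a) ≤ S ⊓ Cen1 (g⁻¹ * a * g) by
    rintro _ ⟨p, hp, rfl⟩; exact ⟨by simpa using g2 p hp, by simpa using cc1 hp.2 g⁻¹⟩)
  rw [card_conjS] at c1
  have xa := h.xa h.aD h.aa h.c0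
  obtain ⟨b1, b2⟩ := h.ext (MS g1) (by rw [mul_assoc, mul_assoc, mul_assoc g⁻¹ a, mul_inv_cancel_left, ← mul_assoc a, h.aa]; group)
    (h.c0.trans c1)
  rcases h.uq xa h.xT' b1 b2 with (e | e) | e | e
  · exact h.a1 (conj_eq_one_iff.1 (show g⁻¹ * a * g⁻¹⁻¹ = 1 by rwa [inv_inv]))
  · exact aM (e ▸ g1)
  · have e1 : conjS g S = Cen1 a := by rw [← h.cz, conj_c1, ← e]; group
    exact h.xT (le_normalizer (h.mx g (fun c => h.zD (by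
      rw [← h.mz.1 c, ← e]; simpa [mul_assoc] using h.aD)) (e1 ▸ (h.lt.le.trans h.t0).trans inf_le_right)
      (e1 ▸ xa)))
  · exact aM ((mul_mem_cancel_right (ΔM zΔ)).1 (e ▸ g1))

end Ca

/-- there is a self-centralizing four-group -/
theorem Es.four [Group.IsPerfect G] (h : Es S E z) :
    ∃ u ∈ S, orderOf u = 2 ∧ Nat.card ↥(S ⊓ Cen1 u) = 4 := by
  obtain ⟨x, h⟩ := h.ex
  obtain ⟨D, u, u0, h⟩ := h.caseI
  obtain rfl : D = ⊥ := by_contra fun c => let ⟨_, _, _, h⟩ := h.ca c; h.false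
  refine ⟨u, h.le h.uE, orderOf_eq_two' h.uu fun e => h.u1 (e ▸ one_mem _), ?_⟩
  rw [show S ⊓ Cen1 u = E from le_antisymm (fun g hg => h.cu g hg.1 hg.2)
    (le_inf h.le fun g hg => h.ab g hg u h.uE), h.k2, h.k3, card_bot]

end LN.MA
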