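import Cfsg.Agent.LN.Ch
import Cfsg.Agent.CK.H
import Cfsg.Agent.W.Cor

/-! Simple groups of length at most seven: the pieces. -/

set_option autoImplicit false

namespace LN

open Cfsg Subgroup FT H4 H5 GW
open H5.Dich (R3)

universe u

/-- the hypotheses -/
structure Hy (G : Type*) [Group G] : Prop where
  sim : IsSimpleGroup G
  hG : ¬ IsMulCommutative G
  l7 : L7 G

/-- piece A -/
def PA : Prop := ∀ (G : Type u) [Group G] [Finite G] (S : Sylow 2 G), Hy G →
  Nat.card S = 64 → Concl G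

/-- piece B -/
def PB : Prop := ∀ (G : Type u) [Group G] [Finite G] (S : Sylow 2 G), Hy G →
  Nat.card S ∣ 32 → ¬ R3 (S : Subgroup G) → IsMulCommutative S ∨ D2 G ∨ (∃ a b, SDS S 0 a b) ∨
    ∃ z v k a b s, CK.WR S z v k 0 a b s

/-- piece C -/
def PC : Prop := ∀ (G : Type u) [Group G] [Finite G] (S : Sylow 2 G), Hy G →
  Nat.card S ∣ 32 → R3 (S : Subgroup G) → IsMulCommutative S

/-- piece W -/
def PW : Prop := ∀ (G : Type u) [Group G] [Finite G] (S : Sylow 2 G) (z v k a b s : G), Hy G →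
  ¬ R3 (S : Subgroup G) → CK.WR S z v k 0 a b s → Concl G

/-- piece D1 -/
def PD1 : Prop := ∀ (G : Type u) [Group G] [Finite G] (S : Sylow 2 G) (a b : G), Hy G →
  SDS S 0 a b → Group.IsSolvable (Cen1 (a ^ 4)) → Concl G

/-- piece D2 -/
def PD2 : Prop := ∀ (G : Type u) [Group G] [Finite G] (S : Sylow 2 G) (a b : G), Hy G →
  SDS S 0 a b → ¬ Group.IsSolvable (Cen1 (a ^ 4)) → Concl G

/-- piece J -/
def PJ : Prop := ∀ (G : Type u) [Group G] [Finite G] (T N : Subgroup G) (t : G), Hy G →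
  W.AS T ⊤ → W.JR ⊤ T t N → Concl G

theorem glue (pa : PA.{u}) (pb : PB.{u}) (pc : PC.{u}) (pw : PW.{u}) (p1 : PD1.{u}) (p2 : PD2.{u})
    (pj : PJ.{u}) {G : Type u} [Group G] [Finite G] (h : Hy G) : Concl G := by
  have := h.sim
  obtain ⟨S⟩ : Nonempty (Sylow 2 G) := inferInstance
  have ab : IsMulCommutative S → Concl G := fun e => by
    have a := W.as_of_sylow S e
    rcases W.known_top _ G S rfl h.hG a with e | e | ⟨t, N, j⟩
    · obtain ⟨F, i, j, -, -, φ⟩ := W.l2_four h.hG a e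
      exact Or.inl ⟨F, i, j, φ⟩
    · obtain ⟨F, i, j, -, φ⟩ := W.l2_se h.hG a e
      exact Or.inl ⟨F, i, j, φ⟩
    · exact pj G S N t h a j
  have hS : (S : Subgroup G) ≠ ⊤ := fun c => h.hG (by
    have := (S.2.of_equiv ((MulEquiv.subgroupCongr c).trans topEquiv)).isNilpotent
    exact ⟨⟨IsSimpleGroup.comm_iff_isSolvable.2 inferInstance⟩⟩)
  obtain ⟨n, hn⟩ := S.2.exists_card_eq
  have n6 := h.l7.le6 hS (ht_pow Nat.prime_two S.2 (n := n) hn.symm.dvd)
  rcases n6.eq_or_lt with rfl | n5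
  · exact pa G S h hn
  have c : Nat.card S ∣ 32 := hn ▸ pow_dvd_pow 2 (show n ≤ 5 by omega)
  by_cases r : R3 (S : Subgroup G)
  · exact ab (pc G S h c r)
  rcases pb G S h c r with e | e | ⟨a, b, e⟩ | ⟨z, v, k, a, b, s, e⟩
  · exact ab e
  · rcases gwThm G h.hG e with ⟨F, i, j, -, -, φ⟩ | e
    · exact Or.inl ⟨F, i, j, φ⟩
    · exact Or.inr (Or.inr (Or.inl e))
  · by_cases s : Group.IsSolvable (Cen1 (a ^ 4))
    exacts [p1 G S a b h e s, p2 G S a b h e s]
  · exact pw G S z v k a b s h r e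

end LN
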