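import Cfsg.Agent.LN.A3
import Cfsg.Agent.LN.Stmt
import Cfsg.Agent.MX.D

/-! Length at most seven: Sylow 2-subgroups of order 64. -/

set_option autoImplicit false
set_option linter.unusedVariables false
set_option linter.unusedSectionVars false

namespace LN.MA

open Cfsg Subgroup FT GW H4
open H5 (IsSylowOf mem_of_eq)
open TW (idx2 idx2' half mem_sup_zp card_sup_zp)

variable {G : Type*} [Group G] [Finite G]

theorem es [IsSimpleGroup G] [Group.IsPerfect G] (S : Sylow 2 G) (hS : Nat.card S = 64)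
    (mx : ∀ M, (S : Subgroup G) < M → M = ⊤) : ∃ E z, Es (S : Subgroup G) E z := by
  have b : (S : Subgroup G) ≠ ⊥ := fun e => by rw [e, card_bot] at hS; omega
  obtain ⟨z, zS, z1, -, z2, z3, -⟩ :=
    H7.exists_step_up S.isPGroup' le_rfl le_normalizer (bot_lt_iff_ne_bot.2 b)
  have oz := orderOf_eq_two' (sq z ▸ mem_bot.1 z3) z1
  have n := H9.Cen_ne_top z1
  have cz : Cen1 z = S := ((show _ ≤ Cen1 z from fun g hg => c1.2
    (commutatorElement_eq_one_iff_mul_comm.1 (z2 g hg)).symm).eq_or_lt.resolve_right fun e => n (mx _ e)).symm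
  have nor : ∀ X ≤ (S : Subgroup G), X ≠ ⊥ → S ≤ Nor X → Nor X ≤ S := fun X h1 h2 h3 =>
    (h3.eq_or_lt.resolve_right fun e => n (top_le_iff.1 (((normalizer_eq_top_iff.1
      (mx _ e)).eq_bot_or_eq_top.resolve_left h2).ge.trans (h1.trans cz.ge)))).ge
  obtain ⟨g, g1, g2⟩ : ∃ g, Commute z (g * z * g⁻¹) ∧ g * z * g⁻¹ ≠ z := by
    by_contra! c
    refine n (eq_top_iff.2 fun g _ => c1.2 (H3.commute_of_isolated
      ((inferInstance : (pPrimeCore 2 G).Normal).eq_bot_or_eq_top.resolve_right fun e => ?_) oz c g))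
    simpa [oz] using coprime_orderOf_of_mem (coprime_card_pPrimeCore 2 G) (e.ge (mem_top z))
  obtain ⟨_, l, ⟨k, k1, rfl⟩, m⟩ := Finite.exists_le_maximal
    (p := fun E => ∃ k ∉ (S : Subgroup G), (S : Subgroup G) ⊓ conjS k S = E) ⟨g, fun c => g2 (c1'.1 (cz.ge c)), rfl⟩
  obtain ⟨ρ, r1, r2, r3, -⟩ := H7.exists_mem_normalizer_of_lt (S.isPGroup'.map _)
    (lt_of_le_of_ne (inf_le_right (a := (S : Subgroup G)) (b := conjS k S)) fun e => k1
      (nor _ le_rfl b le_normalizer (mem_normalizer_iff_conjS.2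
        (eq_of_le_of_card_ge (e.ge.trans inf_le_left) (card_conjS k _).ge))))
  exact ⟨_, z, H5.isSylowOf_top S, hS, nor, oz, cz, inf_le_left,
    l ⟨zS, by rw [← cz, conj_c1]; exact c1.2 g1⟩,
    fun g hg e => m ⟨g, hg, rfl⟩ (le_inf inf_le_left e), ρ, r3, fun c => r2 ⟨c, r1⟩⟩

end LN.MA

namespace LN

open Cfsg Subgroup FT GW H4

universe u

theorem d2_concl {G : Type u} [Group G] [Finite G] (h : Hy G) (e : D2 G) : Concl G := by
  have := h.sim
  rcases gwThm G h.hG e with ⟨F, i, j, -, -, φ⟩ | e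
  · exact Or.inl ⟨F, i, j, φ⟩
  · exact Or.inr (Or.inr (Or.inl e))

theorem four_cases {G : Type*} [Group G] [Finite G] (S : Sylow 2 G) {u : G}
    (uS : u ∈ (S : Subgroup G)) (ou : orderOf u = 2)
    (cu : Nat.card ↥((S : Subgroup G) ⊓ Cen1 u) = 4) :
    D2 G ∨ IsQuasiDihedral S ∨ Nat.card S = 4 :=
  (H2.dihedral_of_centralizer_four S.isPGroup' ⟨u, uS⟩ (by rwa [← orderOf_coe]) (by
    rw [← cu, ← card_map_of_injective (S : Subgroup G).subtype_injective]
    congr 2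
    ext g
    exact ⟨by rintro ⟨g, hg, rfl⟩; exact ⟨g.2, c1.2 (congrArg Subtype.val (c1.1 hg))⟩,
      fun hg => ⟨⟨g, hg.1⟩, c1.2 (Subtype.ext (c1.1 hg.2)), rfl⟩⟩)).imp_left
    fun ⟨_, ⟨e⟩⟩ => D2_of_dihedral S e

theorem pa : PA.{u} := by
  intro G _ _ S h hS
  have := h.sim
  have := H9.isPerfect_of_simple (G := G) fun c => h.hG ⟨⟨c⟩⟩
  have mx : ∀ M, (S : Subgroup G) < M → M = ⊤ := fun M hM => by_contra fun c =>
    hM.ne' (h.l7.max (ht_pow Nat.prime_two S.2 (n := 6) (hS ▸ dvd_rfl)) hM.le c)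
  obtain ⟨E, z, k⟩ := MA.es S hS mx
  obtain ⟨u, uS, ou, cu⟩ := k.four
  rcases four_cases S uS ou cu with e | e | e
  · exact d2_concl h e
  · exact (MX.not_sd mx e).elim
  · omega

end LN
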