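import Cfsg.Agent.LN.C0
import Cfsg.Agent.LN.A4
import Cfsg.Agent.Ly.T4

/-! Length at most seven, Sylow subgroups of rank two. -/

set_option autoImplicit false
set_option linter.unusedVariables false
set_option linter.unusedSectionVars false

namespace LN.B

open Cfsg Subgroup FT H4 H5 GW CK LN.C
open H5.Dich (R3)

variable {G : Type*} [Group G] [Finite G] {S : Sylow 2 G} {a b u v x y z : G}

theorem ts (h : C.Cx (S : Subgroup G)) (h3 : ¬ R3 (S : Subgroup G)) (hz : z ∈ (S : Subgroup G))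
    (oz : orderOf z = 2) (cz : (S : Subgroup G) ≤ Cen1 z)
    (uq : ∀ u ∈ (S : Subgroup G), orderOf u = 2 → (S : Subgroup G) ≤ Cen1 u → u = z) :
    ∃ v k, TS S z v k := by
  obtain ⟨v, ⟨⟨vS, vz⟩, cj⟩, mx⟩ := Set.exists_max_image
    {v | (v ∈ (S : Subgroup G) ∧ v ≠ z) ∧ IsConj z v}
    (fun v => Nat.card ↥((S : Subgroup G) ⊓ Cen1 v)) (Set.toFinite _) (by
      obtain ⟨v, a, b, c⟩ := h.iso hz (ii oz) (ine oz) cz
      exact ⟨v, ⟨a, b⟩, c⟩)
  have k : ∀ v ∈ (S : Subgroup G), v ≠ z → IsConj z v → F4 z v ∧ ¬ (S : Subgroup G) ≤ Cen1 v ∧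
      (∀ x, x ∈ V4 z v ↔ x ∈ (S : Subgroup G) ⊓ Cen1 v ∧ x * x = 1) ∧
      ∃ s ∈ (S : Subgroup G), s ∈ Nor ((S : Subgroup G) ⊓ Cen1 v) ∧ s * v * s⁻¹ = z * v :=
    fun v vS vz cj => by
    obtain ⟨g, rfl⟩ := isConj_iff.1 cj
    have f : F4 z (g * z * g⁻¹) := ⟨oz, iconj oz g, (c1.1 (cz vS)).symm, vz⟩
    have nc := fun e => vz (uq _ vS f.ha e)
    have mem : ∀ x, x ∈ V4 z (g * z * g⁻¹) ↔ x ∈ (S : Subgroup G) ⊓ Cen1 (g * z * g⁻¹) ∧ x * x = 1 :=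
      fun x => ⟨fun hx => ⟨V_le (mem_inf.2 ⟨hz, f.tH⟩) (mem_inf.2 ⟨vS, c1.2 rfl⟩) hx, by
        rcases f.mem_V.1 hx with e | e | e | e <;> simp [e, ii oz, ii f.ha, f.sq]⟩,
        fun hx => noE h3 f hz vS hx.1.1 hx.2 (cz hx.1.1) hx.1.2⟩
    obtain ⟨s, hs, s1⟩ := SetLike.exists_of_lt (lt_inf_normalizer_of_isPGroup S.2
      (lt_of_le_of_ne inf_le_left fun e => nc (e ▸ inf_le_right)))
    refine ⟨f, nc, mem, s, hs.1, hs.2, (f.fix_or (mem_normalizer_of_conjS_le ?_)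
      (cz hs.1)).resolve_left fun e => s1 ⟨hs.1, c1'.2 e⟩⟩
    rw [conj_V, c1'.1 (cz hs.1)]
    exact V_le (t_V _ _) ((mem _).2 ⟨cmem hs.2 ⟨vS, c1.2 rfl⟩, ii (iconj f.ha s)⟩)
  obtain ⟨f, nc, mem, s, sS, sN, e⟩ := k v vS vz cj
  obtain ⟨g, rfl⟩ := isConj_iff.1 cj
  obtain ⟨n, -, e1, e2⟩ := ext_conj cz le_top (mem_top g) S.2.to_inf_left le_top inf_le_right
  generalize g * z * g⁻¹ = v at *
  have m1 := e2 (conj_mem_conjS (x := z) ⟨hz, f.tH⟩)
  have ne : n * z * n⁻¹ ≠ z := fun e => vz (by simpa using e1.trans e.symm)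
  obtain ⟨f', -, -, s', s1, s2, e'⟩ := k _ m1 ne (isConj_iff.2 ⟨n, rfl⟩)
  have e3 : conjS n ((S : Subgroup G) ⊓ Cen1 v) = (S : Subgroup G) ⊓ Cen1 (n * z * n⁻¹) :=
    eq_of_le_of_card_ge
    (le_inf e2 (conj_c1 n z ▸ conjS_mono n (inf_le_left.trans cz)))
    (by rw [card_conjS]; exact mx _ ⟨⟨m1, ne⟩, isConj_iff.2 ⟨n, rfl⟩⟩)
  have r1 : n⁻¹ * s' * n ∈ Nor ((S : Subgroup G) ⊓ Cen1 v) := by
    rw [mem_normalizer_iff_conjS, ← conjS_conjS, ← conjS_conjS, e3, mem_normalizer_iff_conjS.1 s2,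
      ← e3, conjS_inv_conjS]
  have r2 : n⁻¹ * s' * n * z * (n⁻¹ * s' * n)⁻¹ = v * z := by
    calc _ = n⁻¹ * (s' * (n * z * n⁻¹) * s'⁻¹) * n := by group
      _ = n⁻¹ * z * n * z := by rw [e']; group
      _ = _ := by nth_rewrite 1 [← e1]; group
  have r3 : n⁻¹ * s' * n * v * (n⁻¹ * s' * n)⁻¹ = v := by
    calc _ = n⁻¹ * (s' * (n * v * n⁻¹) * s'⁻¹) * n := by group
      _ = _ := by rw [e1, c1'.1 (cz s1), ← e1]; group
  generalize n⁻¹ * s' * n = r at r1 r2 r3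
  have cj : ∀ x, s * r * x * (s * r)⁻¹ = s * (r * x * r⁻¹) * s⁻¹ := fun x => by group
  have k1 : s * r * z * (s * r)⁻¹ = v := by
    rw [cj, r2, ← conj_mul, e, c1'.1 (cz sS), mul_assoc, ← f.c, f.tta]
  have k2 : s * r * v * (s * r)⁻¹ = z * v := by rw [cj, r3, e]
  refine ⟨v, s * r, hz, vS, cz, f, ⟨S.2.to_inf_left, f.card_V, mem, fun u hu x hx => c1.1
    ((V_le (c1s.1 (cz hx.1)) (c1s.1 hx.2) : V4 z v ≤ Cen1 x) hu) |>.symm, mul_mem sN r1,
    fun x hx e0 => ?_⟩, k1, ?_, nc⟩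
  · rcases f.mem_V.1 hx with rfl | rfl | rfl | rfl
    · rfl
    · exact absurd (k1.symm.trans e0) vz
    · exact absurd (by simpa using k2.symm.trans e0) (ine oz)
    · rw [← conj_mul, k1, k2, f.ata] at e0
      exact absurd (by simpa using e0) (ine f.ha)
  · obtain ⟨P, hP, le⟩ := exists_isSylowOf_ge (K := Cen1 z ⊓ Cen1 v) (S.2.to_inf_left)
      (inf_le_inf_right _ cz)
    obtain ⟨c, hc, e⟩ := ((isSylowOf_top S).of_le cz le_top).exists_conj_le hP.isPGroup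
      (hP.le.trans inf_le_left)
    refine hP.of_card_le S.2.to_inf_left (inf_le_inf_right _ cz) ((card_conjS c P).ge.trans
      ((card_le_of_le (le_inf e (conj_c1 c v ▸ conjS_mono c (hP.le.trans inf_le_right)))).trans
        (mx _ ⟨⟨e (conj_mem_conjS (le ⟨vS, c1.2 rfl⟩)), fun e => vz ?_⟩,
          (isConj_iff.2 ⟨_, k1⟩).trans (isConj_iff.2 ⟨c, rfl⟩)⟩)))
    simpa using e.trans (c1'.1 hc).symm


theorem ex2 {C : Subgroup G} (M : Subgroup G) (l : M ≤ C) (i : M.relIndex C % 4 = 2) (hb : b ∈ C)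
    (bb : b * b = 1) (n : ∀ g ∈ C, g⁻¹ * b * g ∉ M) : ∃ N < C, C ≤ Nor N ∧ ∀ x ∈ C, x * x ∈ N := by
  by_contra c
  obtain ⟨g, hg⟩ := H5.Dich.exists_conj_mem (G := C) (t := ⟨b, hb⟩) (fun N hN e => c
    ⟨N.map C.subtype, lt_of_le_of_ne (map_subtype_le _) fun a => by
      have : N = ⊤ := eq_top_iff.2 fun x _ => by
        obtain ⟨y, hy, e⟩ := a.ge x.2
        exact Subtype.ext e ▸ hy
      rw [this, index_top] at e; omega, fun g hg => mnor (by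
        rintro _ ⟨y, hy, rfl⟩
        exact ⟨_, hN.conj_mem y hy ⟨g, hg⟩, rfl⟩), fun x hx =>
      ⟨_, mul_self_mem_of_index_two e ⟨x, hx⟩, rfl⟩⟩) (M.subgroupOf C) i (Subtype.ext bb)
  exact n g g.2 hg

theorem sd32 (h : C.Cx (S : Subgroup G)) (d : SDS S 1 a b) : False := by
  have oa : orderOf a = 16 := d.ha
  have pw : ∀ i : ℤ, a ^ i = 1 ↔ (16 : ℤ) ∣ i := fun i => by
    rw [← orderOf_dvd_iff_zpow_eq_one, oa]; rfl
  have eq : ∀ i j : ℤ, a ^ i = a ^ j ↔ (16 : ℤ) ∣ i - j := fun i j => by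
    rw [← pw, zpow_sub, mul_inv_eq_one]
  have ba : ∀ i : ℤ, b * a ^ i = a ^ (7 * i) * b := fun i => by
    rw [← mul_inv_eq_iff_eq_mul, ← conj_zpow, d.hab, zpow_mul]
    congr 1
    rw [inv_mul_eq_iff_eq_mul, ← zpow_one_add, ← zpow_natCast]; rfl
  have bb := d.hb2
  have sq : ∀ i : ℤ, a ^ i * b * (a ^ i * b) = a ^ (8 * i) := fun i => by
    rw [mul_assoc, ← mul_assoc b, ba, mul_assoc, bb, mul_one, ← zpow_add]; congr 1; ring
  have cj : ∀ i j k : ℤ, a ^ i * b * a ^ j * (a ^ i * b)⁻¹ = a ^ (7 * j) ∧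
      a ^ k * (a ^ i * b) * (a ^ k)⁻¹ = a ^ (i - 6 * k) * b := fun i j k =>
    ⟨by rw [mul_assoc _ b, ba]; group, by rw [mul_assoc, mul_assoc, ← zpow_neg, ba]; group⟩
  have nb : ∀ i j : ℤ, a ^ i * b ≠ a ^ j := fun i j e =>
    d.hb ⟨j - i, by simp only; rw [← inv_mul_eq_iff_eq_mul.2 e.symm]; group⟩
  -- the subgroups generated by `a ^ m` and `a ^ i * b`
  have sub : ∀ m i : ℤ, m ∣ 8 → ∃ M : Subgroup G, M ≤ S ∧ Nat.card M = 2 * orderOf (a ^ m) ∧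
      ∀ x, x ∈ M ↔ ∃ k : ℤ, x = a ^ (m * k) ∨ x = a ^ (m * k + i) * b := fun m i ⟨c, hc⟩ => by
    have n : a ^ i * b ∈ Nor (zpowers (a ^ m)) := mnor (by
      rintro _ ⟨k, rfl⟩
      exact ⟨7 * k, by simp only; rw [← zpow_mul, ← zpow_mul, (cj i _ 0).1]; congr 1; ring⟩)
    have s : a ^ i * b * (a ^ i * b) ∈ zpowers (a ^ m) :=
      ⟨c * i, by simp only; rw [sq, ← zpow_mul, hc, mul_assoc]⟩
    refine ⟨_, sup_le (zpowers_le.2 (zpow_mem d.haS m)) (zpowers_le.2 (mul_mem (zpow_mem d.haS i) d.hbS)),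
      by rw [SF.card_sup_zp n s (fun ⟨k, e⟩ => nb i (m * k) (by rw [zpow_mul]; exact e.symm)),
        Nat.card_zpowers], fun x => (SF.mem_sup_zp n s).trans ⟨?_, ?_⟩⟩
    · rintro (⟨k, e⟩ | ⟨k, e⟩)
      · exact ⟨k, .inl (by rw [zpow_mul]; exact e.symm)⟩
      · refine ⟨k - c * i, .inr (mul_right_cancel (b := a ^ i * b) (e.symm.trans ?_))⟩
        simp only
        rw [zpow_add a, mul_assoc (a ^ _), mul_assoc, sq, ← zpow_add, ← zpow_mul, hc]; congr 1; ring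
    · rintro ⟨k, rfl | rfl⟩
      · exact .inl ⟨k, by simp only; rw [zpow_mul]⟩
      · refine .inr ⟨k + c * i, ?_⟩
        simp only
        rw [zpow_add a, mul_assoc (a ^ _), mul_assoc, sq, ← zpow_add, ← zpow_mul, hc]; congr 1; ring
  have o2 : orderOf (a ^ (2 : ℤ)) = 8 := by
    rw [zpow_ofNat, orderOf_pow_of_dvd (by norm_num) (by rw [oa]; norm_num), oa]
  have cS : Nat.card (S : Subgroup G) = 32 := by
    obtain ⟨M, l, c, m⟩ := sub 1 0 (one_dvd _)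
    rw [← le_antisymm l fun x hx => (m x).2 (by simpa using d.hmem x hx), c, zpow_one, oa]
  have z1 : a ^ (8 : ℤ) ≠ 1 := by rw [Ne, pw]; decide
  have cz : (S : Subgroup G) ≤ Cen1 (a ^ (8 : ℤ)) := fun x hx => by
    obtain ⟨i, rfl | rfl⟩ := d.hmem x hx
    · exact c1.2 (zpow_mul_comm _ _ _)
    · rw [c1', (cj i _ 0).1, eq]; decide
  -- an element of order four outside the dihedral subgroup is fused into it
  obtain ⟨g, j, i, hj, hi, e⟩ : ∃ (g : G) (j i : ℤ), j % 2 = 1 ∧ i % 2 = 1 ∧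
      g * (a ^ j * b) * g⁻¹ = a ^ (4 * i) := by
    obtain ⟨M, l, c, m⟩ := sub 2 0 (by decide)
    have key : ∀ x ∈ (S : Subgroup G), x ∉ M → ∀ g, g * x * g⁻¹ ∈ M → ∃ (g : G) (j i : ℤ),
        j % 2 = 1 ∧ i % 2 = 1 ∧ g * (a ^ j * b) * g⁻¹ = a ^ (4 * i) := fun x hx xM g hg => by
      have p : ∀ n : ℤ, (g * x * g⁻¹) ^ n = 1 ↔ x ^ n = 1 := fun n => by
        rw [conj_zpow, conj_eq_one_iff]
      have s2 : ∀ i : ℤ, (a ^ i * b) ^ (2 : ℤ) = a ^ (8 * i) := fun i => by rw [zpow_two, sq]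
      have s4 : ∀ i n : ℤ, (a ^ i * b) ^ (2 * n) = a ^ (8 * i * n) := fun i n => by
        rw [zpow_mul, s2, ← zpow_mul]
      obtain ⟨k, e⟩ := (m _).1 hg
      obtain ⟨j, rfl | rfl⟩ := d.hmem x hx
      · have : j % 2 = 1 := by
          by_contra n
          exact xM ((m _).2 ⟨j / 2, .inl (by congr 1; omega)⟩)
        have q := p (2 * 4)
        rcases e with e | e <;> rw [e] at q
        · rw [← zpow_mul, ← zpow_mul, pw, pw] at q; omega
        · rw [s4, ← zpow_mul, pw, pw] at q; omega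
      · have : j % 2 = 1 := by
          by_contra n
          exact xM ((m _).2 ⟨j / 2, .inr (by congr 2; omega)⟩)
        have q := p (2 * 1)
        have q' := p (2 * 2)
        rcases e with e | e <;> rw [e] at q q'
        · rw [s4, ← zpow_mul, pw, pw] at q q'
          exact ⟨g, j, k / 2, this, by omega, e.trans (by congr 1; omega)⟩
        · rw [s4, s4, pw, pw] at q; omega
    by_contra n
    refine h.foc (lt_of_le_of_ne l fun e => by rw [e, o2] at c; omega) fun x hx g hg => ?_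
    by_cases e : x ∈ M <;> by_cases e' : g * x * g⁻¹ ∈ M
    exacts [mul_mem (inv_mem e) e', absurd (key _ hg e' g⁻¹ (by simpa [mul_assoc] using e)) n,
      absurd (key x hx e g e') n, i2' l (by omega) hx hg e e']
  -- extremal conjugation
  have o4 : orderOf (a ^ (4 : ℤ)) = 4 := by
    rw [zpow_ofNat, orderOf_pow_of_dvd (by norm_num) (by rw [oa]; norm_num), oa]
  have nA : ∀ x ∈ (S : Subgroup G), ∀ m : ℤ, x * a ^ m * x⁻¹ = a ^ m ∨ x * a ^ m * x⁻¹ = a ^ (7 * m) :=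
    fun x hx m => by
      obtain ⟨i, rfl | rfl⟩ := d.hmem x hx
      exacts [.inl (by group), .inr (cj _ _ 0).1]
  have QT : ∀ r : ℤ, ∃ Q T : Subgroup G, T ≤ S ∧ Q ≤ T ∧ Nat.card Q = 8 ∧ Nat.card T = 16 ∧
      (∀ x, x ∈ Q ↔ ∃ k : ℤ, x = a ^ (4 * k) ∨ x = a ^ (4 * k + r) * b) ∧
      ∀ x, x ∈ T ↔ ∃ k : ℤ, x = a ^ (2 * k) ∨ x = a ^ (2 * k + r) * b := fun r => by
    obtain ⟨Q, -, c, m⟩ := sub 4 r (by decide)
    obtain ⟨T, l, c', m'⟩ := sub 2 r (by decide)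
    refine ⟨Q, T, l, fun x hx => ?_, by rw [c, o4], by rw [c', o2], m, m'⟩
    obtain ⟨k, e⟩ := (m x).1 hx
    exact (m' x).2 ⟨2 * k, by rwa [← mul_assoc]⟩
  obtain ⟨Q, T0, l0, QT0, cQ, cT0, mQ, mT0⟩ := QT j
  have yQ : a ^ j * b ∈ Q := (mQ _).2 ⟨0, .inr (by simp)⟩
  have oy : Nat.card (zpowers (a ^ j * b)) = 4 := by
    rw [Nat.card_zpowers, orderOf_eq_prime_pow (p := 2) (n := 1) (by rw [pow_one, pow_two, sq, pw]; omega)
      (by rw [pow_succ, pow_mul, pow_one, pow_two, pow_two, sq, ← zpow_add, pw]; omega)]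
    rfl
  obtain ⟨n, hn, e1⟩ := (h.syl.of_le (H := Nor (zpowers (a ^ (4 * i)))) (fun x hx => mnor (by
      rintro _ ⟨k, rfl⟩
      simp only
      rw [← zpow_mul]
      rcases nA x hx (4 * i * k) with e | e <;> rw [e]
      exacts [⟨k, by simp only; rw [← zpow_mul]⟩, ⟨7 * k, by simp only; rw [← zpow_mul]; congr 1; ring⟩]))
      le_top).exists_conj_le (Q := conjS g Q) ((h.two.to_le (QT0.trans l0)).map _) (by
      rw [← e, ← W.conj_zp, ← AI.conj_nor]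
      exact conjS_mono g (n2 (zpowers_le.2 yQ) (by omega)))
  replace e1 := (conjS_conjS n g Q).ge.trans e1
  obtain ⟨k, ek⟩ := cmem hn (mem_zpowers _)
  have ey : n * g * (a ^ j * b) * (n * g)⁻¹ = a ^ (4 * (i * k)) := by
    rw [← mul_assoc 4, zpow_mul, show (a ^ (4 * i)) ^ k = _ from ek, ← e]; group
  generalize n * g = f at e1 ey
  generalize i * k = m at ey
  have fz : f ∈ Cen1 (a ^ (8 : ℤ)) := by
    have e8 : a ^ (8 * j) = a ^ (8 : ℤ) := by rw [eq]; omega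
    have := congrArg (fun x => x * x) ey
    rw [conj_mul, sq, e8, ← zpow_add] at this
    have n := cne z1 f
    rw [this, Ne, pw] at n
    rw [c1', this, eq]; omega
  have u2 : f * a ^ (4 : ℤ) * f⁻¹ * (f * a ^ (4 : ℤ) * f⁻¹) = a ^ (8 : ℤ) := by
    rw [conj_mul, ← zpow_add]; exact c1'.1 fz
  obtain ⟨r, eu⟩ : ∃ r : ℤ, f * a ^ (4 : ℤ) * f⁻¹ = a ^ r * b := by
    obtain ⟨r, e | e⟩ := d.hmem _ (e1 (conj_mem_conjS ((mQ (a ^ (4 : ℤ))).2 ⟨1, .inl (by simp)⟩)))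
    · have := congrArg (fun x => f * x * f⁻¹) (cj j 4 0).1
      rw [← conj_mul, ← conj_mul, ← conj_inv, ey, e, show (7 : ℤ) * 4 = 4 * 7 from rfl, zpow_mul a 4 7,
        ← conj_zpow (a := f), e, ← zpow_mul, ← zpow_neg, ← zpow_add, ← zpow_add, eq] at this
      rw [e, ← zpow_add, eq] at u2
      omega
    · exact ⟨r, e⟩
  rw [eu, sq, eq] at u2
  obtain ⟨Q', T, l, QT', cQ', cT, mQ', mT⟩ := QT r
  have uQ : a ^ r * b ∈ Q' := (mQ' _).2 ⟨0, .inr (by simp)⟩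
  have eQ : conjS f Q = Q' := eq_of_le_of_card_ge (by
    rintro _ ⟨x, hx, rfl⟩
    change f * x * f⁻¹ ∈ Q'
    obtain ⟨k, rfl | rfl⟩ := (mQ x).1 hx
    · rw [zpow_mul, ← conj_zpow, eu]; exact zpow_mem uQ k
    · rw [zpow_add, mul_assoc (a ^ _), ← conj_mul, ey, zpow_mul, ← conj_zpow, eu]
      exact mul_mem (zpow_mem uQ k) ((mQ' _).2 ⟨m, .inl rfl⟩)) (by rw [card_conjS]; omega)
  obtain ⟨N, lN, nN, sN⟩ := ex2 T (l.trans cz) (by
    have e1 := H6.card_mul_relIndex l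
    have e2 := relIndex_mul_relIndex T _ _ l cz
    have e3 := (h.syl.of_le cz le_top).not_dvd
    rw [cT, cS] at e1
    rw [← e2, show T.relIndex S = 2 by omega]; omega) (cz d.hbS) bb fun g hg c => by
      have s := csq bb g⁻¹
      rw [inv_inv] at s
      obtain ⟨k, e | e⟩ := (mT _).1 c <;> rw [e] at s
      · rw [← zpow_add, pw] at s
        obtain ⟨t, et⟩ : ∃ t, 2 * k = 8 * t := ⟨k / 4, by omega⟩
        rw [et] at e
        refine d.hb ⟨8 * t, ?_⟩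
        simp only
        rw [zpow_mul, ← c1'.1 hg, conj_zpow, ← zpow_mul, ← e]; group
      · rw [sq, pw] at s; omega
  have a2 : a ^ (2 : ℤ) ∈ N := by rw [zpow_two]; exact sN a (cz d.haS)
  have hN := cmem (nN fz) a2
  have TN : T ≤ N := fun x hx => by
    have : a ^ r * b ∈ N := by
      rw [← eu]; exact cmem (nN fz) (by have := zpow_mem a2 2; rwa [← zpow_mul] at this)
    obtain ⟨k, rfl | rfl⟩ := (mT x).1 hx
    · rw [zpow_mul]; exact zpow_mem a2 k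
    · rw [zpow_add, mul_assoc, zpow_mul]; exact mul_mem (zpow_mem a2 k) this
  have hQ : f * a ^ (2 : ℤ) * f⁻¹ ∈ Nor Q' := by
    rw [← eQ, ← AI.conj_nor]
    exact conj_mem_conjS (n2 QT0 (by omega) ((mT0 _).2 ⟨1, .inl (by simp)⟩))
  have ew : f * a ^ (2 : ℤ) * f⁻¹ * a ^ (4 * m) * (f * a ^ (2 : ℤ) * f⁻¹)⁻¹ = a ^ (r + 7 * (4 * m)) * b := by
    rw [← ey, conj_mul, conj_inv, conj_mul, (cj j 0 2).2,
      show a ^ (j - 6 * 2) = a ^ (4 : ℤ) * a ^ j by rw [← zpow_add, eq]; omega, mul_assoc (a ^ (4 : ℤ)),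
      ← conj_mul, eu, ey, mul_assoc, ba, ← mul_assoc, ← zpow_add]
  generalize f * a ^ (2 : ℤ) * f⁻¹ = w at hN hQ ew
  have l1 : T < Nor Q' ⊓ N := lt_of_le_of_ne (le_inf (n2 QT' (by omega)) TN) fun e => by
    rcases nA w (l (e ▸ ⟨hQ, hN⟩)) (4 * m) with e | e <;> exact nb _ _ (ew.symm.trans e)
  have l2 : Nor Q' ⊓ N < N := inf_lt_right.2 fun e => by
    have := cmem (e (cmem' (nN (cz d.haS)) hN)) ((mQ' _).2 ⟨m, .inl rfl⟩)
    rw [show a⁻¹ * w * a * a ^ (4 * m) * (a⁻¹ * w * a)⁻¹ =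
      a ^ (-1 : ℤ) * (w * a ^ (4 * m) * w⁻¹) * (a ^ (-1 : ℤ))⁻¹ by group, ew, (cj _ 0 _).2] at this
    obtain ⟨k, e | e⟩ := (mQ' _).1 this
    · exact nb _ _ e
    · have := (eq _ _).1 (mul_right_cancel e); omega
  exact h.hy.l7.not7 (h.cen1 z1) ((((ht_pow Nat.prime_two (h.two.to_le l) (n := 4)
    (by rw [cT]; norm_num)).succ l1).succ l2).succ lN)

end LN.B

namespace LN
open Cfsg Subgroup FT H4 H5 GW CK LN.C
universe u

theorem pb : PB.{u} := by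
  intro G _ _ S h c h3
  have x : C.Cx (S : Subgroup G) := ⟨h, isSylowOf_top S⟩
  have c' : Nat.card (S : Subgroup G) ≤ 32 := Nat.le_of_dvd (by norm_num) c
  refine or_iff_not_imp_left.2 fun na => ?_
  obtain ⟨z, hz, zz, z1, cz⟩ := H5.Dich.exists_central x.two fun e =>
    na ⟨⟨fun a b => Subtype.ext (by
      have : (a : G) = 1 := mem_bot.1 (e ▸ a.2)
      simp [this])⟩⟩
  have oz : orderOf z = 2 := orderOf_eq_prime (by rw [pow_two, zz]) z1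
  obtain ⟨v, k, t⟩ := B.ts x h3 hz oz cz fun u hu ou cu => by
    by_contra e
    have f : F4 z u := ⟨oz, ou, (c1.1 (cz hu)).symm, e⟩
    have cV : ∀ y ∈ V4 z u, (S : Subgroup G) ≤ Cen1 y := fun y hy =>
      cen_iff_le.1 ((V_le (cen_iff_le.2 cz) (cen_iff_le.2 cu) : V4 z u ≤ Cen S) hy)
    have mem : ∀ y, y ∈ V4 z u ↔ y ∈ (S : Subgroup G) ∧ y * y = 1 := fun y =>
      ⟨fun hy => ⟨V_le hz hu hy, by
        rcases f.mem_V.1 hy with e | e | e | e <;> simp [e, zz, ii ou, f.sq]⟩,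
        fun hy => noE h3 f hz hu hy.1 hy.2 (cz hy.1) (cu hy.1)⟩
    obtain ⟨v, hv, n, cj⟩ := x.iso hz zz z1 cz
    obtain ⟨g, eg⟩ := isConj_iff.1 cj
    obtain ⟨m, hm, -, e⟩ := DD.burn x.syl cz (cV v ((mem v).2 ⟨hv, eg ▸ csq zz g⟩)) hz cj
    rcases Ly.ab_or_u34 x.syl f.card_V mem (fun y hy s hs => c1.1 (cV y hy hs)) hm (fun a => n (by
      rw [← e, GW.cen.1 a z (t_V z u), mul_inv_cancel_right])) with a | a
    · exact na a
    · have := a.card; omega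
  by_cases e : ∃ c ∈ (S : Subgroup G) ⊓ Cen1 v, c * c = v
  · obtain ⟨c, hc, e⟩ := e
    obtain ⟨n, a, b, s, w⟩ := t.wr hc e
    have bS : b ∈ (S : Subgroup G) := w.sa ▸ cmem (le_normalizer w.sS) w.aS
    have := cinf (zpowers_le.2 w.aS) (zpowers_le.2 bS)
    rw [show zpowers a ⊓ zpowers b = ⊥ from eq_bot_iff.2 (by
      rintro _ ⟨⟨i, rfl⟩, j, e⟩
      exact w.ind i j e.symm), card_bot, Nat.card_zpowers, Nat.card_zpowers, ← w.sa, oconj, w.oa] at this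
    obtain rfl : n = 0 := by
      by_contra n0
      have : 2 ^ 3 ≤ 2 ^ (n + 2) := Nat.pow_le_pow_right (by norm_num) (by omega)
      nlinarith
    exact .inr (.inr ⟨z, v, k, a, b, s, w⟩)
  have eT : V4 z v = (S : Subgroup G) ⊓ Cen1 v := le_antisymm (fun y hy => ((t.t3.mem y).1 hy).1)
    fun y hy => (t.t3.mem y).2 ⟨hy, by
      by_contra n
      obtain ⟨j, hj⟩ := L.exists_involution_mem_zpowers (h := y * y) fun hr =>
        n (L.eq_one_of_PElt_Reg (L.PElt_of_mem S.2 (mul_mem hy.1 hy.1)) hr)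
      obtain ⟨i, rfl⟩ := mem_powers_iff_mem_zpowers.2 hj.1
      obtain ⟨y', hy', -, e'⟩ := t.rot hy (j := 2 * i) (by rw [pow_mul, pow_two]; exact hj.2)
      exact e ⟨y' ^ i, pow_mem hy' i, by rw [← pow_add, ← two_mul, e']⟩⟩
  rcases four_cases S t.vS t.f4.ha (eT ▸ t.f4.card_V) with a | a | a
  · exact .inl a
  · obtain ⟨m, a, b, d⟩ := exists_SDS S a
    have := lt2' (zpowers_le.2 d.haS) d.hbS d.hb
    rw [Nat.card_zpowers, d.ha] at this
    rcases m with _ | _ | m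
    · exact .inr (.inl ⟨a, b, d⟩)
    · exact (B.sd32 x d).elim
    · have : 2 ^ 5 ≤ 2 ^ (m + 1 + 1 + 3) := Nat.pow_le_pow_right (by norm_num) (by omega)
      omega
  · exact absurd (eq_of_le_of_card_ge (inf_le_left : (S : Subgroup G) ⊓ Cen1 v ≤ S)
      (by rw [← eT, t.f4.card_V, a])).ge fun e => t.nc (e.trans inf_le_right)

end LN
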