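import Cfsg.Agent.LN.Stmt
import Cfsg.Agent.AI.Alp
import Cfsg.Agent.DD.D
import Cfsg.Agent.SF.C
import Cfsg.Agent.H6.Basic

/-! Length at most seven, Sylow subgroups of rank at least three: tools. -/

set_option autoImplicit false
set_option linter.unusedVariables false
set_option linter.unusedSectionVars false

namespace LN.C

open Cfsg Subgroup FT H4 H5 GW

variable {G : Type*} [Group G] [Finite G] {S T M A B E P Y Z K H X : Subgroup G}
  {a b c f g n t u v x y z ρ : G}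

theorem i2 (l : M ≤ S) (c : Nat.card S ≤ 2 * Nat.card M) (hx : x ∈ S) (hy : y ∈ S) (x1 : x ∉ M)
    (y1 : y ∉ M) : x * y ∈ M := by
  have e := H6.card_mul_relIndex l
  have p : 0 < Nat.card M := Nat.card_pos
  have q : 0 < Nat.card S := Nat.card_pos
  have i : M.relIndex S = 2 := by
    have : M.relIndex S ≠ 1 := fun h => x1 (relIndex_eq_one.1 h hx)
    have : M.relIndex S ≤ 2 := by nlinarith
    have : M.relIndex S ≠ 0 := fun h => by rw [h] at e; omega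
    omega
  exact mem_subgroupOf.1 ((mul_mem_iff_of_index_two (H := M.subgroupOf S) i
    (a := ⟨x, hx⟩) (b := ⟨y, hy⟩)).2 (iff_of_false x1 y1))

theorem i2' (l : M ≤ S) (c : Nat.card S ≤ 2 * Nat.card M) (hx : x ∈ S) (hy : y ∈ S) (x1 : x ∉ M)
    (y1 : y ∉ M) : x⁻¹ * y ∈ M := i2 l c (inv_mem hx) hy (fun h => x1 (inv_mem_iff.1 h)) y1

theorem n2 (l : M ≤ S) (c : Nat.card S ≤ 2 * Nat.card M) : S ≤ Nor M := fun g hg => by
  by_cases e : g ∈ M
  · exact le_normalizer e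
  · exact mnor fun k hk => i2 l c (mul_mem hg (l hk)) (inv_mem hg)
      (fun h => e ((mul_mem_cancel_right hk).1 h)) fun h => e (inv_mem_iff.1 h)

theorem sq2 (l : M ≤ S) (c : Nat.card S ≤ 2 * Nat.card M) (hx : x ∈ S) : x * x ∈ M := by
  by_cases e : x ∈ M
  exacts [mul_mem e e, i2 l c hx hx e e]

/-- generation over a subgroup of index two -/
theorem g2 (l : M ≤ S) (c : Nat.card S ≤ 2 * Nat.card M) (hx : x ∈ S) (x1 : x ∉ M) (h1 : M ≤ K)
    (h2 : x ∈ K) : S ≤ K := fun y hy => by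
  by_cases e : y ∈ M
  · exact h1 e
  · exact (mul_mem_cancel_left h2).1 (h1 (i2 l c hx hy x1 e))

theorem lt2 (h : A < B) : 2 * Nat.card A ≤ Nat.card B := by
  obtain ⟨k, hk⟩ := card_dvd_of_le h.le
  have := card_lt_of_lt h
  have : k ≠ 0 := by rintro rfl; omega
  have : k ≠ 1 := by rintro rfl; omega
  rw [hk]; nlinarith [show 2 ≤ k by omega]

theorem lt2' (l : A ≤ B) (hx : x ∈ B) (x1 : x ∉ A) : 2 * Nat.card A ≤ Nat.card B :=
  lt2 (lt_of_le_of_ne l fun e => x1 (e ▸ hx))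

theorem cinf (h1 : A ≤ S) (h2 : K ≤ S) :
    Nat.card A * Nat.card K ≤ Nat.card (A ⊓ K : Subgroup G) * Nat.card S :=
  (H6.card_mul_card_le A K).trans (Nat.mul_le_mul_left _ (card_le_of_le (sup_le h1 h2)))

theorem d32 {n : ℕ} (h : n ∣ 32) : n = 1 ∨ n = 2 ∨ n = 4 ∨ n = 8 ∨ n = 16 ∨ n = 32 := by
  have := Nat.le_of_dvd (by norm_num) h
  interval_cases n <;> simp_all

theorem exn (h : Nat.card A < Nat.card B) : ∃ x ∈ B, x ∉ A := by
  by_contra c
  push Not at c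
  exact absurd (card_le_of_le (show B ≤ A from c)) (by omega)

theorem ex1 (h : 1 < Nat.card B) : ∃ x ∈ B, x ≠ 1 := by
  obtain ⟨x, hx, e⟩ := exn (A := ⊥) (B := B) (by simpa using h)
  exact ⟨x, hx, fun c => e (c ▸ one_mem _)⟩

theorem inv2 (h : a * a = 1) : a⁻¹ = a := inv_eq_of_mul_eq_one_right h

theorem m2 (h : a * a = 1) : x ∈ zpowers a ↔ x = 1 ∨ x = a := by
  have := SF.mem_sup_zp (N := ⊥) (x := a) (g := x) (mnor (by simp)) (by simp [h])
  rw [bot_sup_eq, mem_bot, mem_bot, mul_eq_one_iff_eq_inv, inv2 h] at this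
  exact this

theorem c2 (h : a * a = 1) (a1 : a ≠ 1) : Nat.card (zpowers a) = 2 := by
  have := SF.card_sup_zp (N := ⊥) (x := a) (mnor (by simp)) (by simp [h]) (by simpa using a1)
  simpa using this

theorem csq (h : a * a = 1) (g : G) : g * a * g⁻¹ * (g * a * g⁻¹) = 1 := by
  rw [conj_mul, h]; simp

theorem cne (h : a ≠ 1) (g : G) : g * a * g⁻¹ ≠ 1 := fun e => h (conj_eq_one_iff.1 e)

theorem cinj (h : g * a * g⁻¹ = g * b * g⁻¹) : a = b := mul_left_cancel (mul_right_cancel h)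

/-- elementary abelian -/
def El (A : Subgroup G) : Prop := ∀ a ∈ A, a * a = 1

theorem El.cm (h : El A) (ha : a ∈ A) (hb : b ∈ A) : a * b = b * a := by
  rw [← inv2 (h _ (mul_mem ha hb)), mul_inv_rev, inv2 (h a ha), inv2 (h b hb)]

theorem El.cen (h : El A) : A ≤ Cen A := fun a ha => GW.cen.2 fun b hb => h.cm ha hb

theorem El.mono (h : El A) (l : B ≤ A) : El B := fun a ha => h a (l ha)

theorem El.conj (h : El A) (g : G) : El (conjS g A) := by
  rintro _ ⟨a, ha, rfl⟩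
  exact csq (h a ha) g

theorem fixE (h : El B) (ht : t ∈ Nor B) (t2 : t * t ∈ Cen B) :
    Nat.card B ≤ Nat.card (B ⊓ Cen1 t : Subgroup G) * Nat.card (B ⊓ Cen1 t : Subgroup G) := by
  let φ : B →* G := MonoidHom.mk' (fun b => b * (t * b * t⁻¹)) fun a b => by
    have e := h.cm b.2 (cmem ht a.2)
    calc _ = a * (b * (t * a * t⁻¹)) * (t * b * t⁻¹) := by push_cast; group
      _ = _ := by rw [e]; group
  have hk : φ.ker = (Cen1 t).subgroupOf B := by
    ext b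
    rw [MonoidHom.mem_ker, mem_subgroupOf, c1s, c1']
    exact mul_eq_one_iff_inv_eq.trans (by rw [inv2 (h _ b.2), eq_comm])
  rw [card_eq_card_im_mul hk le_rfl]
  refine Nat.mul_le_mul_right _ (card_le_of_le ?_)
  rintro _ ⟨b, -, rfl⟩
  refine ⟨mul_mem b.2 (cmem ht b.2), c1s.1 (c1'.2 ?_)⟩
  change t * (b * (t * b * t⁻¹)) * t⁻¹ = b * (t * b * t⁻¹)
  rw [h.cm b.2 (cmem ht b.2)]
  calc _ = t * t * b * (t * t)⁻¹ * (t * b * t⁻¹) := by group
    _ = _ := by rw [cen.1 t2 b b.2, mul_inv_cancel_right, h.cm b.2 (cmem ht b.2)]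

/-- a centre of index at most four: a unique commutator -/
theorem uc (l : Z ≤ T) (hZ : T ≤ Cen Z) (hc : Nat.card T ≤ 4 * Nat.card Z) (na : ¬ T ≤ Cen T) :
    ∃ c ∈ T, c ≠ 1 ∧ c * c = 1 ∧ Nor T ≤ Cen1 c ∧
      ∀ x ∈ T, ∀ y ∈ T, x * y = y * x ∨ x * y * x⁻¹ * y⁻¹ = c := by
  obtain ⟨a, ha, n⟩ := SetLike.not_le_iff_exists.1 na
  rw [cen] at n
  push Not at n
  obtain ⟨b, hb, n⟩ := n
  have zc : ∀ x ∈ T, Z ≤ T ⊓ Cen1 x := fun x hx => le_inf l (cen_iff_le.1 (hZ hx))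
  have nz : ∀ x ∈ T, ∀ y ∈ T, x * y ≠ y * x → x ∉ Z := fun x hx y hy e c =>
    e (c1.1 (zc y hy c).2)
  have p : ∀ x ∈ T, ∀ y ∈ T, ∀ y' ∈ T, x * y ≠ y * x → x * y' ≠ y' * x →
      x * y * x⁻¹ * y⁻¹ = x * y' * x⁻¹ * y'⁻¹ := fun x hx y hy y' hy' e e' => by
    have := lt2' (zc x hx) ⟨hx, c1.2 rfl⟩ (nz x hx y hy e)
    have := c1.1 (i2' (M := T ⊓ Cen1 x) inf_le_left (by omega) hy hy'
      (fun c => e (c1.1 c.2).symm) fun c => e' (c1.1 c.2).symm).2
    calc _ = x * y * (y⁻¹ * y' * x⁻¹ * (y⁻¹ * y')⁻¹) * y⁻¹ := by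
          rw [(show Commute (y⁻¹ * y') x from this).inv_right.eq]; group
      _ = _ := by group
  have q1 : ∀ x ∈ T, ∀ y ∈ T, x * y ≠ y * x → x * a ≠ a * x →
      x * y * x⁻¹ * y⁻¹ = (a * b * a⁻¹ * b⁻¹)⁻¹ := fun x hx y hy e e' => by
    rw [p x hx y hy a ha e e', p a ha b hb x hx n e'.symm]; group
  have q2 : ∀ x ∈ T, ∀ y ∈ T, x * y ≠ y * x → x * b ≠ b * x →
      x * y * x⁻¹ * y⁻¹ = a * b * a⁻¹ * b⁻¹ := fun x hx y hy e e' => by
    rw [p x hx y hy b hb e e', ← inv_inj]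
    calc _ = b * x * b⁻¹ * x⁻¹ := by group
      _ = _ := by rw [p b hb x hx a ha e'.symm n.symm]; group
  have e1 : a * b * a ≠ a * (a * b) := fun c => n (by
    rw [mul_assoc] at c; exact (mul_left_cancel c).symm)
  have e2 : a * b * b ≠ b * (a * b) := fun c => n (by
    rw [← mul_assoc] at c; exact mul_right_cancel c)
  have i := (q1 _ (mul_mem ha hb) a ha e1 e1).symm.trans (q2 _ (mul_mem ha hb) a ha e1 e2)
  have q : ∀ x ∈ T, ∀ y ∈ T, x * y = y * x ∨ x * y * x⁻¹ * y⁻¹ = a * b * a⁻¹ * b⁻¹ :=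
    fun x hx y hy => by
      refine or_iff_not_imp_left.2 fun e => ?_
      by_cases f1 : x * a = a * x
      · refine q2 x hx y hy e fun f2 => n ?_
        have := lt2' (inf_le_left : T ⊓ Cen1 a ≤ T) hb fun c => n (c1.1 c.2).symm
        have m := i2 (zc a ha) (by omega) ⟨ha, c1.2 rfl⟩ ⟨hx, c1.2 f1⟩ (nz a ha b hb n)
          (nz x hx y hy e)
        exact c1.1 ((mul_mem_cancel_right (c1.2 f2)).1 (zc b hb m).2)
      · rw [q1 x hx y hy e f1, i]
  refine ⟨_, mul_mem (mul_mem (mul_mem ha hb) (inv_mem ha)) (inv_mem hb),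
    fun c => n (by rw [mul_inv_eq_one, mul_inv_eq_iff_eq_mul] at c; exact c),
    inv_eq_iff_mul_eq_one.1 i, fun g hg => c1'.2 ?_, q⟩
  rcases q _ (cmem hg ha) _ (cmem hg hb) with e | e
  · rw [conj_mul, conj_mul] at e
    exact absurd (cinj e) n
  · exact Eq.trans (by group) e

theorem odd1 (o : Odd (orderOf ρ)) (two : IsPGroup 2 Y) (hc : ρ ∈ Cen Y)
    (h : ∀ x ∈ P, x⁻¹ * (ρ * x * ρ⁻¹) ∈ Y) : ρ ∈ Cen P := cen.2 fun x hx => by
  obtain ⟨k, hk⟩ := L.PElt_of_mem two (h x hx)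
  have := fix_of_odd (y := x) o hk (cen.1 hc _ (h x hx)) (by group)
  rw [inv_mul_eq_one] at this
  exact mul_inv_eq_iff_eq_mul.1 this.symm

theorem odd2 (o : Odd (orderOf ρ)) (two : IsPGroup 2 P) (l : Y ≤ P)
    (c : Nat.card P ≤ 2 * Nat.card Y) (hn : ρ ∈ Nor P) (hc : ρ ∈ Cen Y) : ρ ∈ Cen P :=
  odd1 o (two.to_le l) hc fun x hx => by
    by_cases e : x ∈ Y
    · exact mul_mem (inv_mem e) (cmem (mcnor hc) e)
    · exact i2' l c hx (cmem hn hx) e fun f => e (by simpa [mul_assoc] using cmem' (mcnor hc) f)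

/-- the context -/
structure Cx (S : Subgroup G) : Prop where
  hy : Hy G
  syl : IsSylowOf 2 S ⊤

namespace Cx
variable (h : Cx S)
include h

theorem two : IsPGroup 2 S := h.syl.isPGroup

theorem perf : Group.IsPerfect G := by
  have := h.hy.sim
  exact ⟨(IsSimpleGroup.eq_bot_or_eq_top_of_normal (_root_.commutator G) inferInstance).resolve_left fun e =>
    h.hy.hG ⟨⟨fun a b => commutatorElement_eq_one_iff_mul_comm.1 (mem_bot.1 (e ▸
      commutator_mem_commutator (mem_top a) (mem_top b)))⟩⟩⟩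

theorem iso (hc : c ∈ S) (cc : c * c = 1) (c1 : c ≠ 1) (cz : S ≤ Cen1 c) :
    ∃ v ∈ S, v ≠ c ∧ IsConj c v := by
  by_contra n
  have := h.hy.sim
  have oz : orderOf c = 2 := orderOf_eq_prime (by rw [pow_two, cc]) c1
  exact h.hy.hG ⟨⟨H3.comm_of_isolated oz (H3.isolated_of_weaklyClosed (L.PElt_of_orderOf (k := 1) oz)
    (h.syl.of_le cz le_top) fun g hg => by
      by_contra e; exact n ⟨_, hg, e, isConj_iff.2 ⟨g, rfl⟩⟩)⟩⟩

theorem tho (l : M ≤ S) (c : Nat.card S = 2 * Nat.card M) (tt : t * t = 1) :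
    ∃ v ∈ M, IsConj t v := by
  have := h.perf
  have e := H6.card_mul_relIndex l
  have p : 0 < Nat.card M := Nat.card_pos
  have i : M.relIndex S = 2 := Nat.eq_of_mul_eq_mul_left p (by omega)
  have j := relIndex_mul_index l
  have o := h.syl.not_dvd
  rw [relIndex_top_right] at o
  obtain ⟨g, hg⟩ := H9.thompson_transfer M (by rw [← j, i]; omega) t (by rw [pow_two, tt])
  exact ⟨_, hg, isConj_iff.2 ⟨g⁻¹, by simp⟩⟩

theorem foc (l : M < S) (e : ∀ x ∈ S, ∀ g, g * x * g⁻¹ ∈ S → x⁻¹ * (g * x * g⁻¹) ∈ M) : False := by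
  obtain ⟨P, rfl⟩ := h.syl.exists_sylow_top
  have := h.hy.sim
  obtain ⟨K, n, k1, k2⟩ := H7.exists_normal_of_focal_lt P (lt_of_le_of_lt (by
    rw [focalSubgroup_def, closure_le]
    rintro _ ⟨h1, x, hx, u, rfl⟩
    have := e x⁻¹ (inv_mem hx) u (by
      simpa [commutatorElement_def, mul_assoc] using mul_mem (inv_mem hx) h1)
    simpa [commutatorElement_def, mul_assoc] using this) l)
  rcases n.eq_bot_or_eq_top with rfl | rfl
  · have : IsPGroup 2 G := fun g => k2 g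
    have := this.isNilpotent
    exact h.hy.hG ⟨⟨IsSimpleGroup.comm_iff_isSolvable.2 inferInstance⟩⟩
  · exact k1 rfl

/-- extremal conjugation -/
theorem ext (cz : S ≤ Cen1 c) (e : IsConj c t) (hA : IsPGroup 2 A) (l : A ≤ Cen1 t) :
    ∃ n, n * t * n⁻¹ = c ∧ conjS n A ≤ S := by
  obtain ⟨P, rfl⟩ := h.syl.exists_sylow_top
  obtain ⟨g, rfl⟩ := isConj_iff.1 e
  obtain ⟨n, -, e⟩ := CK.ext_conj cz le_top (mem_top g) hA le_top l
  exact ⟨n, e⟩

theorem nor (l : X ≤ S) (n : X ≠ ⊥) : Nor X ≠ ⊤ := fun e => by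
  have := h.hy.sim
  rcases (normalizer_eq_top_iff.1 e).eq_bot_or_eq_top with c | c
  · exact n c
  · have := ((h.two.to_le l).of_equiv ((MulEquiv.subgroupCongr c).trans topEquiv)).isNilpotent
    exact h.hy.hG ⟨⟨IsSimpleGroup.comm_iff_isSolvable.2 inferInstance⟩⟩

theorem cen1 (z1 : z ≠ 1) : Cen1 z ≠ ⊤ := fun e => by
  have := h.hy.sim
  have zc : z ∈ center G := mem_center_iff.2 fun g => c1.1 (e ▸ mem_top g)
  rcases (inferInstance : (center G).Normal).eq_bot_or_eq_top with c | c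
  · exact z1 (mem_bot.1 (c ▸ zc))
  · exact h.hy.hG ⟨⟨fun a b => (mem_center_iff.1 (c ▸ mem_top b) a)⟩⟩

variable (c5 : Nat.card S = 32)
include c5

theorem h5 : Ht S 5 := ht_pow Nat.prime_two h.two (by rw [c5]; norm_num)

theorem mx2 (l : S < H) (e : H ≤ K) (n : K ≠ ⊤) : K = H := h.hy.l7.max ((h.h5 c5).succ l) e n

theorem mx1 (l : S ≤ K) (e : K ≤ H) (n : H ≠ ⊤) : K ≤ S ∨ H ≤ K :=
  l.eq_or_lt.imp (fun e => e.ge) fun l => (h.mx2 c5 l e n).le

theorem dv (l : A ≤ S) : Nat.card A = 1 ∨ Nat.card A = 2 ∨ Nat.card A = 4 ∨ Nat.card A = 8 ∨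
    Nat.card A = 16 ∨ Nat.card A = 32 := d32 (c5 ▸ card_dvd_of_le l)

end Cx

end LN.C
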