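import Cfsg.Agent.LN.C0

/-! Three central involutions; Sylow subgroups of order 16. -/

set_option autoImplicit false
set_option linter.unusedVariables false
set_option linter.unusedSectionVars false

namespace LN.C

open Cfsg Subgroup FT H4 H5 GW

variable {G : Type*} [Group G] [Finite G] {S T M A B E P Y Z K H X : Subgroup G}
  {a b c f g n q r s t u v x y z ρ : G}

/-- a central four-group with a distinguished involution -/
structure Z3 (S : Subgroup G) (c f : G) : Prop extends Cx S where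
  cS : c ∈ S
  fS : f ∈ S
  cc : c * c = 1
  ff : f * f = 1
  c1 : c ≠ 1
  f1 : f ≠ 1
  fc : f ≠ c
  zf : S ≤ Cen1 f
  nc : Nor S ≤ Cen1 c

namespace Z3
variable (h : Z3 S c f)
include h

theorem zc : S ≤ Cen1 c := le_normalizer.trans h.nc

theorem sw : Z3 S c (f * c) :=
  { h with
    fS := mul_mem h.fS h.cS
    ff := by
      rw [mul_assoc, ← mul_assoc c, GW.c1.1 (h.zf h.cS), mul_assoc, h.cc, mul_one, h.ff]
    f1 := fun e => h.fc (mul_right_cancel (e.trans h.cc.symm))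
    fc := fun e => h.f1 (mul_eq_right.1 e)
    zf := fun g hg => c1c.2 ((c1c.1 (h.zf hg)).mul_right (c1c.1 (h.zc hg))) }

theorem n1 : ¬ IsConj c f := fun e => by
  obtain ⟨n, hn, -, e⟩ := DD.burn h.syl h.zc h.zf h.cS e
  exact h.fc (e.symm.trans (c1'.1 (h.nc hn)))

theorem n2 : ¬ IsConj c (f * c) := h.sw.n1

theorem n3 : ¬ IsConj f (f * c) := fun e => by
  obtain ⟨n, hn, o, e⟩ := DD.burn h.syl h.zf h.sw.zf h.fS e
  exact h.c1 (fix_of_odd (k := 1) o (by simpa [pow_two] using h.cc) (GW.c1.1 (h.nc hn)) e)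

theorem ph (hh : ∀ x ∈ S, x * x = 1 → x = 1 ∨ x = c ∨ x = f ∨ x = f * c ∨ IsConj u x ∨ IsConj v x) :
    False := by
  have k : ∀ z ∈ S, z * z = 1 → z ≠ 1 → S ≤ Cen1 z → (IsConj z c → z = c) → (IsConj z f → z = f) →
      (IsConj z (f * c) → z = f * c) → IsConj u z ∨ IsConj v z := fun z hz zz z1 cz e1 e2 e3 => by
    obtain ⟨x, hx, n, e⟩ := h.iso hz zz z1 cz
    obtain ⟨g, rfl⟩ := isConj_iff.1 e
    rcases hh _ hx (csq zz g) with a | a | a | a | a | a
    exacts [absurd a (cne z1 g), absurd (a.trans (e1 (a ▸ e)).symm) n,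
      absurd (a.trans (e2 (a ▸ e)).symm) n, absurd (a.trans (e3 (a ▸ e)).symm) n,
      .inl (a.trans e.symm), .inr (a.trans e.symm)]
  have k1 := k c h.cS h.cc h.c1 h.zc (fun _ => rfl) (fun e => absurd e h.n1) fun e => absurd e h.n2
  have k2 := k f h.fS h.ff h.f1 h.zf (fun e => absurd e.symm h.n1) (fun _ => rfl)
    fun e => absurd e h.n3
  have k3 := k _ h.sw.fS h.sw.ff h.sw.f1 h.sw.zf (fun e => absurd e.symm h.n2)
    (fun e => absurd e.symm h.n3) fun _ => rfl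
  rcases k1 with a | a <;> rcases k2 with b | b <;> rcases k3 with d | d <;>
    first | exact h.n1 (a.symm.trans b) | exact h.n2 (a.symm.trans d) | exact h.n3 (b.symm.trans d)

theorem tw (l : M ≤ S) (e : Nat.card S = 2 * Nat.card M)
    (hh : ∀ x ∈ M, x * x = 1 → x = 1 ∨ x = c ∨ IsConj u x ∨ IsConj v x) :
    ¬ IsConj c u ∧ ¬ IsConj c v := by
  have k : ∀ z, z * z = 1 → z ≠ 1 → ¬ IsConj c z → IsConj u z ∨ IsConj v z := fun z zz z1 n => by
    obtain ⟨x, hx, e⟩ := h.tho l e zz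
    obtain ⟨g, rfl⟩ := isConj_iff.1 e
    rcases hh _ hx (csq zz g) with a | a | a | a
    exacts [absurd a (cne z1 g), absurd (a ▸ e).symm n, .inl (a.trans e.symm), .inr (a.trans e.symm)]
  rcases k f h.ff h.f1 h.n1 with a | a <;> rcases k _ h.sw.ff h.sw.f1 h.n2 with b | b
  exacts [absurd (a.symm.trans b) h.n3, ⟨fun e => h.n1 (e.trans a), fun e => h.n2 (e.trans b)⟩,
    ⟨fun e => h.n2 (e.trans b), fun e => h.n1 (e.trans a)⟩, absurd (a.symm.trans b) h.n3]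

end Z3

theorem dm (rr : r * r = 1) (e : r * s * r⁻¹ = s⁻¹) (hx : x * r ∈ zpowers s) :
    IsConj r x ∨ IsConj (s * r) x := by
  obtain ⟨k, hk⟩ := hx
  have ex : x = s ^ k * r := by
    simp only at hk
    rw [hk, mul_assoc, rr, mul_one]
  have p : ∀ j : ℤ, r * (s ^ j)⁻¹ = s ^ j * r := fun j => by
    rw [← inv_zpow, ← e, conj_zpow, ← mul_assoc, ← mul_assoc, rr, one_mul, inv2 rr]
  rcases Int.even_or_odd' k with ⟨j, rfl | rfl⟩
  · exact .inl (isConj_iff.2 ⟨s ^ j, by rw [ex, mul_assoc, p, two_mul, zpow_add, mul_assoc]⟩)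
  · refine .inr (isConj_iff.2 ⟨s ^ j, ?_⟩)
    rw [ex, mul_assoc, mul_assoc, p]; group

/-- `S` is not a direct product of a group of order two with a dihedral group -/
theorem Z3.dz (h : Z3 S c f) (hs : s ∈ S) (hr : r ∈ S) (rr : r * r = 1) (e : r * s * r⁻¹ = s⁻¹)
    (ss : s * s ≠ 1) (hc : ∀ x ∈ zpowers s, x * x = 1 → x = 1 ∨ x = c)
    (cd : Nat.card S = 4 * Nat.card (zpowers s)) : False := by
  have ni : ∀ y, y * s * y⁻¹ = s⁻¹ → y ∉ Cen1 s := fun y a b =>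
    ss (by rw [c1'.1 b] at a; exact mul_eq_one_iff_eq_inv.2 a)
  have cs : zpowers s ≤ Cen1 s := zpowers_le.2 (GW.c1.2 rfl)
  have k : ∀ r ∈ S, r * r = 1 → r * s * r⁻¹ = s⁻¹ → ∃ M ≤ S, Nat.card S = 2 * Nat.card M ∧
      (∀ x, x ∈ M ↔ x ∈ zpowers s ∨ x * r ∈ zpowers s) ∧ ¬ IsConj c r ∧ ¬ IsConj c (s * r) :=
    fun r hr rr e => by
      have n : r ∈ Nor (zpowers s) := mnor (by
        rintro _ ⟨k, rfl⟩
        exact ⟨-k, by simp only; rw [← conj_zpow, e, inv_zpow']⟩)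
      have m := fun x => SF.mem_sup_zp (g := x) n (rr ▸ one_mem _)
      have l : zpowers s ⊔ zpowers r ≤ S := sup_le (zpowers_le.2 hs) (zpowers_le.2 hr)
      have cM : Nat.card S = 2 * Nat.card (zpowers s ⊔ zpowers r : Subgroup G) := by
        rw [SF.card_sup_zp n (rr ▸ one_mem _) fun a => ni r e (cs a), cd]; ring
      refine ⟨_, l, cM, m, h.tw l cM fun x hx xx => ?_⟩
      rcases (m x).1 hx with a | a
      · exact (hc x a xx).imp_right .inl
      · exact .inr (.inr (dm rr e a))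
  have cf : ∀ g ∈ S, f * g = g * f := fun g hg => (GW.c1.1 (h.zf hg)).symm
  have r2 : f * r * (f * r) = 1 := by
    rw [mul_assoc, ← mul_assoc r, ← cf r hr, mul_assoc, rr, mul_one, h.ff]
  have e2 : f * r * s * (f * r)⁻¹ = s⁻¹ := by
    calc _ = f * (r * s * r⁻¹) * f⁻¹ := by group
      _ = _ := by rw [e, cf _ (inv_mem hs), mul_inv_cancel_right]
  obtain ⟨M, l, cM, m, a1, a2⟩ := k r hr rr e
  obtain ⟨-, -, -, -, a3, a4⟩ := k _ (mul_mem h.fS hr) r2 e2
  have fM : f ∉ M := fun a => by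
    rcases (m f).1 a with a | a
    · exact (hc f a h.ff).elim h.f1 h.fc
    · exact ni _ e2 (cs a)
  obtain ⟨x, hx, n, ex⟩ := h.iso h.cS h.cc h.c1 h.zc
  obtain ⟨g, eg⟩ := isConj_iff.1 ex
  have xx : x * x = 1 := eg ▸ csq h.cc g
  by_cases hM : x ∈ M
  · rcases (m x).1 hM with a | a
    · exact (hc x a xx).elim (eg ▸ cne h.c1 g) n
    · exact (dm rr e a).elim (fun b => a1 (ex.trans b.symm)) fun b => a2 (ex.trans b.symm)
  rcases (m _).1 (i2 l cM.le h.fS hx fM hM) with a | a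
  · rcases hc _ a (by rw [mul_assoc, ← mul_assoc x, ← cf x hx, mul_assoc, xx, mul_one, h.ff]) with b | b
    · exact h.n1 (by rwa [mul_left_cancel (b.trans h.ff.symm)] at ex)
    · exact h.n2 (by rwa [show f * c = x by rw [← b, ← mul_assoc, h.ff, one_mul]])
  · rw [cf x hx, mul_assoc] at a
    exact (dm r2 e2 a).elim (fun b => a3 (ex.trans b.symm)) fun b => a4 (ex.trans b.symm)

theorem mul_sq (e : x * y = y * x) (hx : x * x = 1) (hy : y * y = 1) : x * y * (x * y) = 1 := by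
  rw [mul_assoc, ← mul_assoc y, ← e, mul_assoc, hy, mul_one, hx]

theorem cm_of_sq (hx : x * x = 1) (hy : y * y = 1) (e : x * y * (x * y) = 1) : x * y = y * x := by
  rw [← inv2 e, mul_inv_rev, inv2 hx, inv2 hy]

/-- a nonabelian group of order 16 with an elementary abelian subgroup of order 8 -/
structure T16 (T E : Subgroup G) (c f a : G) : Prop where
  le : E ≤ T
  el : El E
  cE : Nat.card E = 8
  cT : Nat.card T = 16
  cm : c ∈ E
  fm : f ∈ E
  am : a ∈ E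
  c1 : c ≠ 1
  f1 : f ≠ 1
  fc : f ≠ c
  zf : T ≤ Cen1 f
  nc : Nor T ≤ Cen1 c
  ta : ∀ t ∈ T, t ∉ E → t * a * t⁻¹ = a * c
  mE : ∀ x ∈ E, (x = 1 ∨ x = c ∨ x = f ∨ x = f * c) ∨ ∃ y, (y = 1 ∨ y = c ∨ y = f ∨ y = f * c) ∧
    x = a * y
  cmt : ∀ x ∈ T, ∀ y ∈ T, x * y = y * x ∨ x * y * x⁻¹ * y⁻¹ = c

theorem t16 (l : E ≤ T) (el : El E) (cE : Nat.card E = 8) (cT : Nat.card T = 16)
    (na : ¬ T ≤ Cen T) : ∃ c f a, T16 T E c f a := by
  obtain ⟨t, ht, tE⟩ := exn (A := E) (B := T) (by omega)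
  have nE := n2 l (by omega)
  have c4 := fixE el (nE ht) (el.cen (sq2 l (by omega) ht))
  have gen : ∀ K, E ≤ K → t ∈ K → T ≤ K := fun K => g2 l (by omega) ht tE
  have zc : T ≤ Cen (E ⊓ Cen1 t : Subgroup G) :=
    gen _ (el.cen.trans (centralizer_anti inf_le_left)) (cen_iff_le.2 inf_le_right)
  obtain ⟨a, ha, a1⟩ : ∃ a ∈ E, a ∉ Cen1 t := SetLike.not_le_iff_exists.1 fun e => na
    (gen _ (le_cen_symm (gen _ el.cen (cen_iff_le.2 e)))
      (cen_iff_le.2 (gen _ e (c1.2 rfl))))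
  have c5 := lt2' (inf_le_left : E ⊓ Cen1 t ≤ E) ha fun e => a1 e.2
  have c6 : Nat.card (E ⊓ Cen1 t : Subgroup G) = 4 := by
    have := d32 ((card_dvd_of_le (inf_le_left : E ⊓ Cen1 t ≤ E)).trans (by rw [cE]; norm_num))
    rcases this with e | e | e | e | e | e <;> rw [e] at c4 c5 ⊢ <;> omega
  obtain ⟨c, -, c1, cc, nc, cmt⟩ := uc (inf_le_left.trans l) zc (by omega) na
  have ta : ∀ t' ∈ T, t' ∉ E → t' * a * t'⁻¹ = a * c := fun t' ht' tE' => by
    rcases cmt t' ht' a (l ha) with e | e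
    · exact absurd (c1s.1 (g2 l (by omega) ht' tE' (cen_iff_le.1 (el.cen ha)) (GW.c1.2 e) ht)) a1
    · rw [GW.c1.1 (nc (le_normalizer (l ha))), ← e]; group
  have cE' : c ∈ E := by
    have := cmem (nE ht) ha
    rw [ta t ht tE] at this
    exact (mul_mem_cancel_left ha).1 this
  have cZ : zpowers c ≤ E ⊓ Cen1 t := zpowers_le.2 ⟨cE', c1s.1 (nc (le_normalizer ht))⟩
  obtain ⟨f, hf, fc⟩ := exn (A := zpowers c) (B := E ⊓ Cen1 t) (by rw [c2 cc c1]; omega)
  have mZ : ∀ x ∈ E ⊓ Cen1 t, x = 1 ∨ x = c ∨ x = f ∨ x = f * c := fun x hx => by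
    by_cases e : x ∈ zpowers c
    · exact ((m2 cc).1 e).imp_right .inl
    · rcases (m2 cc).1 (i2' cZ (by rw [c2 cc c1]; omega) hf hx fc e) with e | e
      · exact .inr (.inr (.inl (inv_mul_eq_one.1 e).symm))
      · exact .inr (.inr (.inr (inv_mul_eq_iff_eq_mul.1 e)))
  rw [m2 cc, not_or] at fc
  refine ⟨c, f, a, l, el, cE, cT, cE', hf.1, ha, c1, fc.1, fc.2,
    fun g hg => GW.c1.2 (GW.cen.1 (zc hg) f hf), nc, ta, fun x hx => ?_, cmt⟩
  by_cases e : x ∈ E ⊓ Cen1 t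
  · exact .inl (mZ x e)
  · exact .inr ⟨_, mZ _ (i2' inf_le_left (by omega) ha hx (fun e => a1 e.2) e), by group⟩

namespace T16
variable (h : T16 T E c f a)
include h

theorem cc : c * c = 1 := h.el c h.cm
theorem ff : f * f = 1 := h.el f h.fm
theorem aa : a * a = 1 := h.el a h.am
theorem zc : T ≤ Cen1 c := le_normalizer.trans h.nc

theorem cls (hx : x ∈ E) : x = 1 ∨ x = c ∨ x = f ∨ x = f * c ∨ IsConj a x ∨ IsConj (a * f) x := by
  obtain ⟨t, ht, tE⟩ := exn (A := E) (B := T) (by rw [h.cE, h.cT]; omega)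
  rcases h.mE x hx with e | ⟨y, e | e | e | e, rfl⟩
  · tauto
  all_goals subst e
  · exact .inr (.inr (.inr (.inr (.inl (by rw [mul_one])))))
  · exact .inr (.inr (.inr (.inr (.inl (isConj_iff.2 ⟨t, h.ta t ht tE⟩)))))
  · exact .inr (.inr (.inr (.inr (.inr (IsConj.refl _)))))
  · refine .inr (.inr (.inr (.inr (.inr (isConj_iff.2 ⟨t, ?_⟩)))))
    rw [← conj_mul, h.ta t ht tE, c1'.1 (h.zf ht), mul_assoc, h.el.cm h.cm h.fm]

/-- the product of `a` with an involution outside `E` -/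
theorem ab (hb : b ∈ T) (b1 : b ∉ E) (bb : b * b = 1) : a * b * (a * b) = c ∧
    (∀ x ∈ zpowers (a * b), x * x = 1 → x = 1 ∨ x = c) ∧ Nat.card (zpowers (a * b)) = 4 := by
  have e : a * b * (a * b) = c := by
    have := h.ta b hb b1
    rw [inv2 bb] at this
    rw [mul_assoc, ← mul_assoc b, this, ← mul_assoc, h.aa, one_mul]
  have n : a * b ∈ Nor (zpowers c) := mzp (h.zc (mul_mem (h.le h.am) hb))
  have m : a * b * (a * b) ∈ zpowers c := e ▸ mem_zpowers c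
  have nE : a * b ∉ E := fun e => b1 ((mul_mem_cancel_left h.am).1 e)
  have z : zpowers (a * b) = zpowers c ⊔ zpowers (a * b) :=
    (sup_eq_right.2 (zpowers_le.2 (e ▸ mul_mem (mem_zpowers _) (mem_zpowers _)))).symm
  refine ⟨e, fun x hx xx => ?_, by
    rw [z, SF.card_sup_zp n m fun e => nE (zpowers_le.2 h.cm e), c2 h.cc h.c1]⟩
  rw [z, SF.mem_sup_zp n m, m2 h.cc, m2 h.cc] at hx
  rcases hx with k | k | k
  · exact k
  · rw [mul_eq_one_iff_eq_inv.1 k, ← mul_inv_rev, e, inv_eq_one] at xx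
    exact absurd xx h.c1
  · rw [mul_right_cancel (k.trans e.symm), e] at xx
    exact absurd xx h.c1

end T16

theorem Cx.c16 (h : Cx S) (l : E ≤ S) (el : El E) (cE : Nat.card E = 8) (cS : Nat.card S = 16) :
    S ≤ Cen S := by
  by_contra na
  obtain ⟨c, f, a, k⟩ := t16 l el cE cS na
  have z : Z3 S c f := ⟨h, l k.cm, l k.fm, k.cc, k.ff, k.c1, k.f1, k.fc, k.zf, k.nc⟩
  by_cases e : ∃ b ∈ S, b ∉ E ∧ b * b = 1
  · obtain ⟨b, hb, b1, bb⟩ := e
    obtain ⟨e1, e2, e3⟩ := k.ab hb b1 bb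
    refine z.dz (mul_mem (l k.am) hb) (l k.am) k.aa ?_ (e1 ▸ k.c1) e2 (by omega)
    rw [← mul_assoc, k.aa, one_mul, mul_inv_rev, inv2 bb]
  · exact z.ph fun x hx xx => k.cls (by_contra fun n => e ⟨x, hx, n, xx⟩)

end LN.C
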