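import Cfsg.Agent.LN.C1

/-! A non-normal elementary abelian subgroup of order 8 with nonabelian normalizer. -/

set_option autoImplicit false
set_option linter.unusedVariables false
set_option linter.unusedSectionVars false

namespace LN.C

open Cfsg Subgroup FT H4 H5 GW

variable {G : Type*} [Group G] [Finite G] {S T M A B E P Y Z K H X : Subgroup G}
  {a b c f g n q r s t u v x y z ρ : G}

theorem o8 (cc : c * c = 1) (c1 : c ≠ 1) (e : s * s * (s * s) = c) :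
    Nat.card (zpowers s) = 8 ∧ ∀ x ∈ zpowers s, x * x = 1 → x = 1 ∨ x = c := by
  have e4 : s ^ 2 ^ 2 = c := by
    rw [← e, show 2 ^ 2 = 2 * 2 from rfl, pow_mul, pow_two, pow_two]
  refine ⟨?_, fun x hx xx => or_iff_not_imp_left.2 fun x1 => inv_uniq hx
    (e4 ▸ npow_mem_zpowers _ _) (orderOf_eq_prime (by rw [pow_two, xx]) x1)
      (orderOf_eq_prime (by rw [pow_two, cc]) c1)⟩
  rw [Nat.card_zpowers, orderOf_eq_prime_pow (p := 2) (n := 2) (e4 ▸ c1)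
    (by rw [pow_succ, pow_mul, e4, pow_two, cc])]
  rfl

/-- Thompson's lemma in a semidihedral subgroup -/
theorem Cx.sd (h : Cx S) (c5 : Nat.card S = 32) (hs : s ∈ S) (hr : r ∈ S) (rr : r * r = 1)
    (e : r * s * r⁻¹ = s * s * s) (cc : c * c = 1) (c1 : c ≠ 1) (e4 : s * s * (s * s) = c)
    (tt : t * t = 1) (t1 : t ≠ 1) (n : ¬ IsConj c t) : IsConj r t := by
  obtain ⟨c8, iu⟩ := o8 cc c1 e4
  have p : ∀ j : ℤ, r * s ^ j = s ^ (3 * j) * r := fun j => by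
    rw [← mul_inv_eq_iff_eq_mul, ← conj_zpow, e, zpow_mul, zpow_ofNat, pow_succ, pow_two]
  have nr : r ∈ Nor (zpowers s) := mnor (by
    rintro _ ⟨k, rfl⟩
    exact ⟨3 * k, by simp only; rw [p, mul_inv_cancel_right]⟩)
  have rs : r ∉ zpowers s := fun a => c1 (by
    rw [c1'.1 (zpowers_le.2 (GW.c1.2 rfl) a), mul_assoc, eq_comm, mul_eq_left] at e
    rw [← e4, e, one_mul])
  obtain ⟨x, hx, ex⟩ := h.tho (sup_le (zpowers_le.2 hs) (zpowers_le.2 hr))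
    (by rw [SF.card_sup_zp nr (rr ▸ one_mem _) rs, c8, c5]) tt
  obtain ⟨g, eg⟩ := isConj_iff.1 ex
  have xx : x * x = 1 := eg ▸ csq tt g
  rcases (SF.mem_sup_zp nr (rr ▸ one_mem _)).1 hx with a | ⟨k, hk⟩
  · exact (iu x a xx).elim (fun b => absurd b (eg ▸ cne t1 g)) fun b => absurd (b ▸ ex).symm n
  have e1 : x = s ^ k * r := by
    simp only at hk
    rw [hk, mul_assoc, rr, mul_one]
  rcases Int.even_or_odd' k with ⟨j, rfl | rfl⟩
  · refine (isConj_iff.2 ⟨s ^ (-j), ?_⟩ : IsConj r x).trans ex.symm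
    rw [e1, mul_assoc, ← zpow_neg, p]; group
  · exfalso
    rw [e1, mul_assoc, ← mul_assoc r, p, mul_assoc, rr, mul_one, ← zpow_add,
      show 2 * j + 1 + 3 * (2 * j + 1) = 4 * (2 * j) + 4 by ring, zpow_add, zpow_mul,
      show s ^ (4 : ℤ) = c by rw [← e4, zpow_ofNat, show 4 = 2 * 2 from rfl, pow_mul, pow_two, pow_two],
      zpow_mul, zpow_two, cc, one_zpow, one_mul] at xx
    exact c1 xx

namespace T16
variable (h : T16 T E c f a)
include h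

theorem z4 (hy : y = 1 ∨ y = c ∨ y = f ∨ y = f * c) : y ∈ E ∧ T ≤ Cen1 y := by
  rcases hy with rfl | rfl | rfl | rfl
  exacts [⟨one_mem _, fun g _ => GW.c1.2 (by simp)⟩, ⟨h.cm, h.zc⟩, ⟨h.fm, h.zf⟩, ⟨mul_mem h.fm h.cm,
    fun g hg => c1c.2 ((c1c.1 (h.zf hg)).mul_right (c1c.1 (h.zc hg)))⟩]

theorem zE (hy : y ∈ E) (ht : t ∈ T) (t1 : t ∉ E) (e : t ∈ Cen1 y) :
    y = 1 ∨ y = c ∨ y = f ∨ y = f * c := by
  refine (h.mE y hy).resolve_right ?_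
  rintro ⟨x, hx, rfl⟩
  rw [c1', ← conj_mul, h.ta t ht t1, c1'.1 ((h.z4 hx).2 ht)] at e
  exact h.c1 (mul_eq_left.1 (mul_right_cancel e))

theorem zT (hy : y ∈ T) (e : T ≤ Cen1 y) : y = 1 ∨ y = c ∨ y = f ∨ y = f * c := by
  obtain ⟨t, ht, tE⟩ := exn (A := E) (B := T) (by rw [h.cE, h.cT]; omega)
  refine h.zE (by_contra fun n => ?_) ht tE (e ht)
  have := h.ta y hy n
  rw [c1'.1 (c1s.1 (e (h.le h.am)))] at this
  exact h.c1 (mul_eq_left.1 this.symm)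

theorem cz (hx : x ∈ Nor T) (hy : y = 1 ∨ y = c ∨ y = f ∨ y = f * c) :
    x * y * x⁻¹ = 1 ∨ x * y * x⁻¹ = c ∨ x * y * x⁻¹ = f ∨ x * y * x⁻¹ = f * c :=
  h.zT (cmem hx (h.le (h.z4 hy).1)) fun g hg => by
    rw [← conj_c1, mem_conjS]; exact (h.z4 hy).2 (cmem' hx hg)

theorem cls2 (hy : y = 1 ∨ y = c ∨ y = f ∨ y = f * c) :
    IsConj a (a * y) ∨ IsConj (a * f) (a * y) := by
  obtain ⟨t, ht, tE⟩ := exn (A := E) (B := T) (by rw [h.cE, h.cT]; omega)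
  have := h.cls (mul_mem h.am (h.z4 hy).1)
  rw [← or_assoc, ← or_assoc, ← or_assoc] at this
  refine this.resolve_left fun e => ?_
  have e := (h.z4 (by tauto : a * y = 1 ∨ a * y = c ∨ a * y = f ∨ a * y = f * c)).2 ht
  rw [c1', ← conj_mul, h.ta t ht tE, c1'.1 ((h.z4 hy).2 ht)] at e
  exact h.c1 (mul_eq_left.1 (mul_right_cancel e))

theorem sqT (hb : b ∈ T) (b1 : b ∉ E) (bb : b * b = 1) (ht : t ∈ T) : t * t = 1 ∨ t * t = c := by
  by_cases e : t ∈ E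
  · exact .inl (h.el t e)
  have m := i2 h.le (by rw [h.cE, h.cT]) hb ht b1 e
  have : t = b * (b * t) := by rw [← mul_assoc, bb, one_mul]
  generalize b * t = y at m this
  rw [this]
  refine (h.cmt b hb y (h.le m)).imp (fun e => mul_sq e bb (h.el y m)) fun e => ?_
  rw [← e, inv2 bb, inv2 (h.el y m)]; group

end T16

structure Dd (S T E : Subgroup G) (c f a : G) : Prop extends T16 T E c f a where
  cx : Cx S
  c5 : Nat.card S = 32
  TS : T ≤ S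
  nn : ∀ x ∈ S, x ∉ T → x ∉ Nor E

namespace Dd
variable (h : Dd S T E c f a)
include h

theorem c2 : Nat.card S ≤ 2 * Nat.card T := by rw [h.c5, h.cT]
theorem nT : S ≤ Nor T := n2 h.TS h.c2
theorem aS : a ∈ S := h.TS (h.le h.am)
theorem cS : S ≤ Cen1 c := h.nT.trans h.nc

theorem bE (hx : x ∈ S) (x1 : x ∉ T) : x * a * x⁻¹ ∉ E := fun e => h.nn x hx x1 (mnor fun y hy => by
  rcases h.mE y hy with k | ⟨z, k, rfl⟩
  · exact (h.z4 (h.cz (h.nT hx) k)).1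
  · rw [← conj_mul]; exact mul_mem e (h.z4 (h.cz (h.nT hx) k)).1)

theorem ww (hx : x ∈ S) (x1 : x ∉ T) : a * (x * a * x⁻¹) * (a * (x * a * x⁻¹)) = c :=
  (h.ab (cmem (h.nT hx) (h.le h.am)) (h.bE hx x1) (csq h.aa x)).1

theorem ba (hx : x ∈ S) (x1 : x ∉ T) : x * a * x⁻¹ * a = a * (x * a * x⁻¹) * c := by
  have e := h.ww hx x1
  have : (a * (x * a * x⁻¹))⁻¹ = x * a * x⁻¹ * a := by
    rw [mul_inv_rev, inv2 h.aa, inv2 (csq h.aa x)]
  rw [← this, inv_eq_iff_mul_eq_one, ← mul_assoc, e, h.cc]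

theorem s4 (hs : s ∈ S) (s1 : s ∉ T) (s2 : s * s ∉ E) : s * s * (s * s) = c ∧
    ∃ y, (y = 1 ∨ y = c ∨ y = f ∨ y = f * c) ∧ s ∈ Cen1 y ∧ s * s = a * (s * a * s⁻¹) * y := by
  have q := sq2 h.TS h.c2 hs
  have bT := cmem (h.nT hs) (h.le h.am)
  have wT := mul_mem (h.le h.am) bT
  have wE : a * (s * a * s⁻¹) ∉ E := fun e => h.bE hs s1 ((mul_mem_cancel_left h.am).1 e)
  have e : Commute s (a * (s * a * s⁻¹)) := c1c.1 (c1'.2 (by
    calc _ = s * a * s⁻¹ * (s * s * a * (s * s)⁻¹) := by group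
      _ = _ := by rw [h.ta _ q s2, ← mul_assoc, h.ba hs s1, mul_assoc, h.cc, mul_one]))
  have k := h.zE (i2' h.le (by rw [h.cE, h.cT]) wT q wE s2) wT wE
    (c1c.2 ((Commute.refl _).inv_right.mul_right (e.symm.mul_right e.symm)))
  refine ⟨?_, _, k, c1c.2 (e.inv_right.mul_right ((Commute.refl _).mul_right (Commute.refl _))),
    by group⟩
  obtain ⟨k1, k2⟩ := h.z4 k
  have : s * s = a * (s * a * s⁻¹) * ((a * (s * a * s⁻¹))⁻¹ * (s * s)) := by group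
  generalize (a * (s * a * s⁻¹))⁻¹ * (s * s) = y at k1 k2 this
  rw [this, mul_assoc, ← mul_assoc y, ← GW.c1.1 (k2 wT), mul_assoc _ y, h.el y k1, mul_one,
    h.ww hs s1]

theorem xa (hx : x ∈ S) (x1 : x ∉ T) (x2 : x * x ∈ E) :
    x * a ∈ S ∧ x * a ∉ T ∧ x * a * (x * a) ∉ E :=
  ⟨mul_mem hx h.aS, fun e => x1 ((mul_mem_cancel_right (h.le h.am)).1 e), fun e => h.bE hx x1 (by
    rwa [show x * a * (x * a) = x * a * x⁻¹ * (x * x * a) by group,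
      mul_mem_cancel_right (mul_mem x2 h.am)] at e)⟩

theorem exs : ∃ s ∈ S, s ∉ T ∧ s * s ∉ E := by
  obtain ⟨x, hx, x1⟩ := exn (A := T) (B := S) (by rw [h.c5, h.cT]; omega)
  by_cases e : x * x ∈ E
  exacts [⟨_, h.xa hx x1 e⟩, ⟨x, hx, x1, e⟩]

theorem nc' : Nor S ≤ Cen1 c := fun n hn => by
  obtain ⟨s, hs, s1, s2⟩ := h.exs
  have e := (h.s4 hs s1 s2).1
  rcases h.sqT (cmem (h.nT hs) (h.le h.am)) (h.bE hs s1) (csq h.aa s)
    (sq2 h.TS h.c2 (cmem hn hs)) with k | k <;> rw [conj_mul, conj_mul, e] at k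
  · exact absurd k (cne h.c1 n)
  · exact c1'.2 k

theorem inT (hx : x ∈ T) (xx : x * x = 1) :
    x = 1 ∨ x = c ∨ x = f ∨ x = f * c ∨ IsConj a x ∨ IsConj (a * f) x := by
  by_cases e : x ∈ E
  · exact h.cls e
  obtain ⟨s, hs, s1, -⟩ := h.exs
  have bT := cmem (h.nT hs) (h.le h.am)
  have bb := csq h.aa s
  have m := i2 h.le (by rw [h.cE, h.cT]) bT hx (h.bE hs s1) e
  have k := h.cls2 (h.cz (h.nT (inv_mem hs)) (h.zE m bT (h.bE hs s1)
    (c1c.2 ((Commute.refl _).mul_right (cm_of_sq bb xx (h.el _ m))))))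
  have : IsConj (a * (s⁻¹ * (s * a * s⁻¹ * x) * s⁻¹⁻¹)) x := isConj_iff.2 ⟨s, by
    calc _ = s * a * s⁻¹ * (s * a * s⁻¹) * x := by group
      _ = _ := by rw [bb, one_mul]⟩
  exact .inr (.inr (.inr (.inr (k.imp (·.trans this) (·.trans this)))))

theorem d1 (zf : S ≤ Cen1 f) : False := by
  have z : Z3 S c f := ⟨h.cx, h.TS (h.le h.cm), h.TS (h.le h.fm), h.cc, h.ff, h.c1, h.f1, h.fc, zf, h.nc'⟩
  by_cases e : ∃ u ∈ S, u ∉ T ∧ u * u = 1
  · obtain ⟨u, hu, u1, uu⟩ := e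
    obtain ⟨k1, k2, k3⟩ := h.xa hu u1 (uu ▸ one_mem _)
    obtain ⟨c8, iu⟩ := o8 h.cc h.c1 (h.s4 k1 k2 k3).1
    refine z.dz k1 h.aS h.aa ?_ (fun e => k3 (e ▸ one_mem _)) iu (by rw [c8, h.c5])
    rw [← mul_assoc, mul_inv_cancel_right, mul_inv_rev, inv2 h.aa, inv2 uu]
  · exact z.ph fun x hx xx => h.inT (by_contra fun n => e ⟨x, hx, n, xx⟩) xx

section d2
variable (hf : ∀ s ∈ S, s ∉ T → s * f * s⁻¹ = f * c)
include hf

theorem nf (hs : s ∈ S) (s1 : s ∉ T) (k : y = 1 ∨ y = c ∨ y = f ∨ y = f * c) (e : s ∈ Cen1 y) :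
    y = 1 ∨ y = c := by
  rw [c1'] at e
  rcases k with k | k | rfl | rfl
  exacts [.inl k, .inr k, absurd (mul_eq_left.1 ((hf s hs s1).symm.trans e)) h.c1, by
    rw [← conj_mul, hf s hs s1, c1'.1 (h.cS hs)] at e
    exact absurd (mul_eq_left.1 e) h.c1]

theorem nsq (hy : y ∈ S) (yt : y ∈ Cen1 t) (yy : y * y = c) (tc : t ≠ c) : ¬ IsConj c t := fun e => by
  obtain ⟨n, e1, e2⟩ := h.cx.ext h.cS e (h.cx.two.to_le (zpowers_le.2 hy)) (zpowers_le.2 yt)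
  have hg := e2 (conj_mem_conjS (mem_zpowers y))
  have g2 : n * y * n⁻¹ * (n * y * n⁻¹) = n * c * n⁻¹ := by rw [conj_mul, yy]
  have g4 := csq h.cc n
  rw [← g2] at g4
  have : n * y * n⁻¹ * (n * y * n⁻¹) = 1 ∨ n * y * n⁻¹ * (n * y * n⁻¹) = c := by
    generalize n * y * n⁻¹ = g at hg g4
    obtain ⟨s, hs, s1, -⟩ := h.exs
    by_cases gT : g ∈ T
    · exact h.sqT (cmem (h.nT hs) (h.le h.am)) (h.bE hs s1) (csq h.aa s) gT
    by_cases gE : g * g ∈ E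
    swap
    · exact absurd ((h.s4 hg gT gE).1.symm.trans g4) h.c1
    have cg : g ∈ Cen1 (g * g) := GW.c1.2 (mul_assoc _ _ _).symm
    refine h.nf hf hg gT ((h.mE _ gE).resolve_right ?_) cg
    rintro ⟨z, k, e⟩
    rw [← c1'.1 cg, e, ← conj_mul, mul_mem_cancel_right (h.z4 (h.cz (h.nT hg) k)).1] at gE
    exact h.bE hg gT gE
  rw [g2] at this
  exact this.elim (cne h.c1 n) fun k => tc (cinj (e1.trans k.symm))

theorem sf (hs : s ∈ S) (s1 : s ∉ T) : s * f * (s * f) = s * s * c := by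
  have := hf _ (inv_mem hs) fun e => s1 (inv_mem_iff.1 e)
  calc _ = s * s * (s⁻¹ * f * s⁻¹⁻¹ * f) := by group
    _ = _ := by rw [this, mul_assoc f, h.el.cm h.cm h.fm, ← mul_assoc f, h.ff, one_mul]

theorem d2 : False := by
  have fT := h.le h.fm
  have aT := h.le h.am
  obtain ⟨s, hs, s1, e⟩ : ∃ s ∈ S, s ∉ T ∧ s * s = a * (s * a * s⁻¹) := by
    obtain ⟨s, hs, s1, s2⟩ := h.exs
    obtain ⟨-, y, k, e1, e2⟩ := h.s4 hs s1 s2
    rcases h.nf hf hs s1 k e1 with rfl | k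
    · exact ⟨s, hs, s1, by rw [e2, mul_one]⟩
    · refine ⟨s * f, mul_mem hs (h.TS fT), fun e => s1 ((mul_mem_cancel_right fT).1 e), ?_⟩
      rw [h.sf hf hs s1, e2, k, mul_assoc, h.cc, mul_one, mul_assoc s f, h.el.cm h.fm h.am]; group
  have wS := mul_mem h.aS (h.TS (cmem (h.nT hs) aT))
  have wT := mul_mem aT (cmem (h.nT hs) aT)
  have n1 : ¬ IsConj c f := h.nsq hf wS (h.zf wT) (h.ww hs s1) h.fc
  have e4 : s * s * (s * s) = c := by rw [e, h.ww hs s1]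
  have e3 : a * s * a⁻¹ = s * s * s := by rw [e, inv2 h.aa]; group
  have n2 := h.cx.sd h.c5 hs h.aS h.aa e3 h.cc h.c1 e4 h.ff h.f1 n1
  have cs := GW.c1.1 (h.cS hs)
  have n3 := h.cx.sd h.c5 (mul_mem hs (h.TS fT)) (mul_mem h.aS (h.TS fT))
    (h.el _ (mul_mem h.am h.fm)) (by
      rw [h.sf hf hs s1]
      calc _ = a * (f * (s * f * s⁻¹) * s * f⁻¹) * a⁻¹ := by group
        _ = a * c * a⁻¹ * (a * s * a⁻¹) * (a * f * a⁻¹) := by
          rw [hf s hs s1, inv2 h.ff, ← mul_assoc f, h.ff]; group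
        _ = _ := by
          rw [e3, c1'.1 (h.zc aT), c1'.1 (h.zf aT), ← mul_assoc c, ← mul_assoc c, ← cs,
            mul_assoc s c, ← cs]; group) h.cc h.c1 (by
      rw [h.sf hf hs s1, mul_assoc, ← mul_assoc c, ← GW.c1.1 (h.cS (mul_mem hs hs)), mul_assoc _ c,
        h.cc, mul_one, e4]) h.ff h.f1 n1
  obtain ⟨x, hx, n, ex⟩ := h.cx.iso (h.TS (h.le h.cm)) h.cc h.c1 h.cS
  obtain ⟨g, eg⟩ := isConj_iff.1 ex
  have xx : x * x = 1 := eg ▸ csq h.cc g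
  by_cases xT : x ∈ T
  · rcases h.inT xT xx with k | k | k | k | k | k
    exacts [(eg ▸ cne h.c1 g) k, n k, n1 (k ▸ ex),
      n1 ((k ▸ ex).trans (isConj_iff.2 ⟨s, hf s hs s1⟩).symm), n1 ((ex.trans k.symm).trans n2),
      n1 ((ex.trans k.symm).trans n3)]
  have w2 := mul_mem aT (cmem (h.nT hx) aT)
  refine h.nsq hf (mul_mem (h.TS w2) (h.TS fT)) (c1s.1 (c1'.2 ?_)) ?_ n ex
  · calc _ = x * a * x⁻¹ * (x * x * a * (x * x)⁻¹) * (x * f * x⁻¹) := by group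
      _ = _ := by
        rw [xx, hf x hx xT, one_mul, inv_one, mul_one, h.ba hx xT, mul_assoc _ c,
          h.el.cm h.fm h.cm, ← mul_assoc c, h.cc, one_mul]
  · rw [mul_assoc, ← mul_assoc f, ← GW.c1.1 (h.zf w2), mul_assoc _ f, h.ff, mul_one, h.ww hx xT]

end d2

theorem false : False := by
  by_cases zf : S ≤ Cen1 f
  · exact h.d1 zf
  refine h.d2 fun s hs s1 => ?_
  rcases h.cz (h.nT hs) (.inr (.inr (.inl rfl))) with k | k | k | k
  exacts [absurd k (cne h.f1 s), absurd (cinj (k.trans (c1'.1 (h.cS hs)).symm)) h.fc,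
    absurd (g2 h.TS h.c2 hs s1 h.zf (c1'.2 k)) zf, k]

end Dd

theorem Cx.cT (h : Cx S) (c5 : Nat.card S = 32) (l : E ≤ S) (cE : Nat.card E = 8)
    (nn : ¬ S ≤ Nor E) : Nat.card (S ⊓ Nor E : Subgroup G) = 16 := by
  have l1 := lt2 (B := S ⊓ Nor E) (lt_inf_normalizer_of_isPGroup h.two (lt_of_le_of_ne l fun e => by
    rw [e] at cE; omega))
  have l2 := lt2 (inf_lt_left.2 nn)
  omega

theorem Cx.cd (h : Cx S) (c5 : Nat.card S = 32) (l : E ≤ S) (el : El E) (cE : Nat.card E = 8)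
    (nn : ¬ S ≤ Nor E) : S ⊓ Nor E ≤ Cen (S ⊓ Nor E : Subgroup G) := by
  by_contra na
  obtain ⟨c, f, a, k⟩ := t16 (le_inf l le_normalizer) el cE (h.cT c5 l cE nn) na
  exact Dd.false ⟨k, h, c5, inf_le_left, fun x hx x1 e => x1 ⟨hx, e⟩⟩

end LN.C
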