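import Cfsg.Agent.LN.C2

/-! Alperin's theorem: the essential subgroups have index two. -/

set_option autoImplicit false
set_option linter.unusedVariables false
set_option linter.unusedSectionVars false

namespace LN.C

open Cfsg Subgroup FT H4 H5 GW
open AI (Iv iv_cen)
open MW (Om mem_Om Om_nor Om_le Om_el Om_cen)
open scoped commutatorElement

variable {G : Type*} [Group G] [Finite G] {S T M A B E P Q Y Z K H X : Subgroup G}
  {a b c d f g k n q s t u v x y z ρ : G} {w : G → Prop}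

theorem Cx.exB (h : Cx S) (c5 : Nat.card S = 32) (l : A ≤ S) (el : El A) (c : 8 ≤ Nat.card A) :
    ∃ B ≤ S, El B ∧ 8 ≤ Nat.card B ∧ S ≤ Nor B := by
  by_cases e : S ≤ Nor A
  · exact ⟨A, l, el, c, e⟩
  have cA : Nat.card A = 8 := by
    have := h.dv c5 l
    have : ¬ 32 ≤ 2 * Nat.card A := fun c => e (n2 l (c5 ▸ c))
    omega
  have ab := h.cd c5 l el cA e
  have AT : A ≤ S ⊓ Nor A := le_inf l le_normalizer
  exact ⟨Om (S ⊓ Nor A), Om_le.trans inf_le_left, Om_el,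
    c.trans (card_le_of_le fun a ha => mem_Om.2 ⟨AT ha, el a ha, ab (AT ha)⟩),
    (n2 inf_le_left (by rw [h.cT c5 l cA e, c5])).trans Om_nor⟩

/-- radical subgroups -/
def Rad (S P : Subgroup G) : Prop :=
  ∀ L ≤ Nor P, Nor P ≤ Nor L → (∀ ρ ∈ L, Odd (orderOf ρ) → ρ ∈ Cen P) → S ⊓ L ≤ P

theorem alpR (hS : IsSylowOf 2 S ⊤) (h1 : ∀ n ∈ Nor S, Iv w S n)
    (h2 : ∀ P < S, Rad S P → ∀ n ∈ Nor P, Iv w P n) (hx : x ∈ S) (hg : g * x * g⁻¹ ∈ S) :
    w x ↔ w (g * x * g⁻¹) := by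
  refine AI.alp hS (fun P PS sy ih n hn => ?_) (zpowers x) g (zpowers_le.2 hx)
    (by rw [W.conj_zp]; exact zpowers_le.2 hg) x (mem_zpowers x)
  rcases PS.eq_or_lt with rfl | lt
  · exact h1 n hn
  by_cases r : Rad S P
  · exact h2 P lt r n hn
  simp only [Rad, not_forall] at r
  obtain ⟨L, l, nL, o, e⟩ := r
  have s0 := sy.inf_of_le_normalizer l (inf_le_right.trans nL)
  obtain ⟨c, hc, m⟩ := s0.frattini (nL hn)
  have m' := mul_mem (inv_mem (l hc)) hn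
  have RS : P ⊔ S ⊓ Nor P ⊓ L ≤ S := sup_le PS (inf_le_left.trans inf_le_left)
  rw [show n = c * (c⁻¹ * n) by simp]
  refine ((ih _ _ (card_lt_of_lt (left_lt_sup.2 fun c => e (le_trans (le_inf (inf_le_inf_left _ l)
    inf_le_right) c))) RS
    ((mem_normalizer_iff_conjS.1 (msup m' m)).le.trans RS)).mono le_sup_left).mul m' ?_
  obtain ⟨a, ha, t, ht, rfl⟩ := (mem_sup_of_le_normalizer_left ((inf_le_left.trans inf_le_right).trans
    fun _ => mcen)).1 (M4.le_of_odd s0 le_sup_right (fun y hy p => mem_sup_left (o y hy p)) hc)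
  exact ((h1 t (le_normalizer ht.1.1)).mono PS).mul ht.1.2 (iv_cen ha)

theorem odd3 (o : Odd (orderOf ρ)) (two : IsPGroup 2 P) (c : Nat.card P ≤ 8) (hn : ρ ∈ Nor P)
    (hz : z ∈ P) (zz : z * z = 1) (z1 : z ≠ 1) (cz : ρ ∈ Cen1 z) (hy : y ∈ P) (y1 : y ∉ zpowers z)
    (e : y⁻¹ * (ρ * y * ρ⁻¹) ∈ zpowers z) : ρ ∈ Cen P := by
  have e1 : y ∈ Cen1 ρ := by
    rcases (m2 zz).1 e with e | e
    · exact c1s.1 (c1'.2 (inv_mul_eq_one.1 e).symm)
    · exact absurd (fix_of_odd (k := 1) o (by simpa [pow_two] using zz) (GW.c1.1 cz)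
        (inv_mul_eq_iff_eq_mul.1 e)) z1
  have := lt2' (B := P ⊓ Cen1 ρ) (zpowers_le.2 ⟨hz, c1s.1 cz⟩) ⟨hy, e1⟩ y1
  rw [c2 zz z1] at this
  exact odd2 o two (Y := P ⊓ Cen1 ρ) inf_le_left (by omega) hn (cen_iff_le.2 inf_le_right)

namespace Rad
variable (r : Rad S P)
include r

theorem cen : S ⊓ Cen P ≤ P := r _ (cnor le_rfl) (ncen le_rfl) fun _ h _ => h

theorem two (hQ : IsPGroup 2 Q) (l : Q ≤ Nor P) (n : Nor P ≤ Nor Q) : S ⊓ Q ≤ P :=
  r Q l n fun ρ h o => by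
    obtain ⟨k, hk⟩ := L.PElt_of_mem hQ h
    rw [orderOf_eq_one_iff.1 (((odd_iff_cop.1 o).pow_right k).eq_one_of_dvd
      (orderOf_dvd_of_pow_eq_one hk))]
    exact one_mem _

theorem all (hS : IsPGroup 2 S) (lt : P < S) (o : ∀ ρ ∈ Nor P, Odd (orderOf ρ) → ρ ∈ Cen P) :
    False := (lt_inf_normalizer_of_isPGroup hS lt).not_ge (r _ le_rfl le_normalizer o)

theorem tv (zz : z * z = 1) (hz : Nor P ≤ Cen1 z) (hy : y ∈ S) (yn : y ∈ Nor P)
    (e : ∀ x ∈ P, x⁻¹ * (y * x * y⁻¹) ∈ zpowers z) : y ∈ P := by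
  refine r (Nor P ⊓ cMod P (zpowers z)) inf_le_left (ninf le_normalizer
    ((le_inf le_rfl (nzp hz)).trans normalizer_le_normalizer_cMod)) (fun ρ h o => ?_)
    ⟨hy, yn, mzp (hz yn), fun x hx => by simpa [commutatorElement_def, mul_assoc] using e _ (inv_mem hx)⟩
  exact odd1 o (isPGroup_zpowers_of_pow (k := 1) (by simpa [pow_two] using zz))
    (cen_zp z ▸ hz h.1) fun x hx => by
      simpa [commutatorElement_def, mul_assoc] using h.2.2 _ (inv_mem hx)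

theorem c4 (hS : IsPGroup 2 S) (PS : P ≤ S) (l : B ≤ S) (el : El B) (cB : 8 ≤ Nat.card B)
    (nB : S ≤ Nor B) (c : Nat.card P ≤ 4) : False := by
  obtain ⟨z, hz, z1, zz, cz⟩ := H7.exists_fixed_order_p (hS.to_le l) hS nB
    (fun e => by rw [e, card_bot] at cB; omega)
  rw [pow_two] at zz
  have zS : S ≤ Cen1 z := fun g hg => GW.c1.2 (cz g (mem_sup_right hg))
  have zP : zpowers z ≤ P := zpowers_le.2 (r.cen ⟨l hz, cen_iff_le.2 (PS.trans zS)⟩)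
  have nB' : ¬ B ≤ P := fun e => by have := card_le_of_le e; omega
  by_cases e : P ≤ zpowers z
  · exact nB' fun b hb => r.cen ⟨l hb, centralizer_anti e ((cen_zp z).ge (zS (l hb)))⟩
  obtain ⟨u, hu, u1⟩ := SetLike.not_le_iff_exists.1 e
  have c' : Nat.card P ≤ 2 * Nat.card (zpowers z) := by rw [c2 zz z1]; omega
  have k : B ⊓ Cen1 u ≤ P := fun b hb => r.cen ⟨l hb.1, cen_iff_le.2
    (g2 zP c' hu u1 (zpowers_le.2 (c1s.1 (zS (l hb.1)))) (c1s.1 hb.2))⟩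
  by_cases uB : u ∈ B
  · exact nB' fun b hb => k ⟨hb, GW.c1.2 (el.cm hb uB)⟩
  have h1 := fixE el (nB (PS hu)) (el.cen (zpowers_le.2 hz (sq2 zP c' hu)))
  have h2 := lt2' k hu fun e => uB e.1
  nlinarith

theorem c8n (hS : IsPGroup 2 S) (lt : P < S) (l : B ≤ S) (el : El B) (cB : 8 ≤ Nat.card B)
    (nB : S ≤ Nor B) (c : Nat.card P = 8) : El P := by
  by_contra ne
  have PS := lt.le
  have two := hS.to_le PS
  have OP : Om P < P := lt_of_le_of_ne Om_le fun e => ne (e ▸ Om_el)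
  have cO := lt2 OP
  by_cases c4 : Nat.card P ≤ 2 * Nat.card (Om P)
  · obtain ⟨x, hx, x1⟩ := SetLike.exists_of_lt OP
    have xx : x * x ≠ 1 := fun e => x1 (mem_Om.2 ⟨hx, e, cen_iff_le.2
      (g2 Om_le c4 hx x1 (cen_iff_le.1 (le_cen_symm Om_cen hx)) (GW.c1.2 rfl))⟩)
    have zO := sq2 Om_le c4 hx
    refine r.all hS lt fun ρ hn o => odd2 o two Om_le c4 hn (odd2 o (two.to_le Om_le)
      (zpowers_le.2 zO) (by rw [c2 (Om_el _ zO) xx]; omega) (Om_nor hn) ((cen_zp _).ge (c1'.2 ?_)))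
    have m := i2' Om_le c4 hx (cmem hn hx) x1 fun e => x1 (by
      simpa [mul_assoc] using cmem' (Om_nor hn) e)
    rw [← conj_mul, show ρ * x * ρ⁻¹ = x * (x⁻¹ * (ρ * x * ρ⁻¹)) by group, mul_assoc,
      ← mul_assoc _ x, GW.cen.1 (Om_cen m) x hx, mul_assoc, Om_el _ m, mul_one]
  obtain ⟨z, hz, zz, z1, cz⟩ := H5.Dich.exists_central two (fun e => by rw [e, card_bot] at c; omega)
  have eO : zpowers z = Om P := eq_of_le_of_card_ge
    (zpowers_le.2 (mem_Om.2 ⟨hz, zz, cen_iff_le.2 cz⟩)) (by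
      have := d32 ((card_dvd_of_le (Om_le (A := P))).trans (by rw [c]; norm_num))
      rw [c2 zz z1]; omega)
  have nz : Nor P ≤ Cen1 z := fun n hn => c1'.2
    (((m2 zz).1 (eO ▸ cmem (Om_nor hn) (eO ▸ mem_zpowers z))).resolve_left (cne z1 n))
  obtain ⟨g, hg, g1⟩ := SetLike.exists_of_lt (lt_inf_normalizer_of_isPGroup
    (hS.to_le (sup_le l PS)) (right_lt_sup.2 fun e => ne
      ((eq_of_le_of_card_ge e (by omega)) ▸ el)))
  obtain ⟨v, hv, p, hp, rfl⟩ := (mem_sup_of_le_normalizer_left (PS.trans nB)).1 hg.1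
  have vn : v ∈ Nor P := (mul_mem_cancel_right (le_normalizer hp)).1 hg.2
  have := mt (r.tv zz nz (l hv) vn) fun e => g1 (mul_mem e hp)
  push Not at this
  obtain ⟨x, hx, d1⟩ := this
  have dP := mul_mem (inv_mem hx) (cmem vn hx)
  have dd : x⁻¹ * (v * x * v⁻¹) * (x⁻¹ * (v * x * v⁻¹)) = 1 := el _ (by
    simpa [mul_assoc] using mul_mem (cmem' (nB (PS hx)) hv) (inv_mem hv))
  generalize x⁻¹ * (v * x * v⁻¹) = d at d1 dP dd
  have V : ∀ e ∈ P, e * e = 1 → e ∉ zpowers z → Nat.card P ≤ 2 * Nat.card (P ⊓ Cen1 e : Subgroup G) ∧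
      El (P ⊓ Cen1 e) ∧ ∀ y ∈ P ⊓ Cen1 e, y ∉ zpowers z → e⁻¹ * y ∈ zpowers z := fun e he ee e1 => by
    have zV : zpowers z ≤ P ⊓ Cen1 e := zpowers_le.2 ⟨hz, c1s.1 (cz he)⟩
    have h1 := lt2' zV ⟨he, GW.c1.2 rfl⟩ e1
    have h2 := lt2 (inf_lt_left.2 fun a => e1 (eO ▸ mem_Om.2 ⟨he, ee, cen_iff_le.2 a⟩) :
      P ⊓ Cen1 e < P)
    have k : ∀ y ∈ P ⊓ Cen1 e, y ∉ zpowers z → e⁻¹ * y ∈ zpowers z := fun y hy y1 =>
      i2' zV (by rw [c2 zz z1]; omega) ⟨he, GW.c1.2 rfl⟩ hy e1 y1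
    rw [c2 zz z1] at h1
    refine ⟨by omega, fun y hy => ?_, k⟩
    by_cases y1 : y ∈ zpowers z
    · exact Om_el _ (eO ▸ y1)
    · have m := eO ▸ k y hy y1
      rw [show y = e * (e⁻¹ * y) by group]
      exact mul_sq (GW.cen.1 (Om_cen m) e he).symm ee (Om_el _ m)
  refine r.all hS lt fun ρ hn o => ?_
  have d2 : ρ * d * ρ⁻¹ ∉ zpowers z := fun e => d1 (by simpa [mul_assoc] using cmem' (mzp (nz hn)) e)
  obtain ⟨a1, a2, a3⟩ := V d dP dd d1
  obtain ⟨b1, b2, b3⟩ := V _ (cmem hn dP) (csq dd ρ) d2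
  by_cases e : ρ * d * ρ⁻¹ ∈ Cen1 d
  · exact odd3 o two c.le hn hz zz z1 (nz hn) dP d1 (a3 _ ⟨cmem hn dP, e⟩ d2)
  have yP := mul_mem dP (cmem hn dP)
  have yy : d * (ρ * d * ρ⁻¹) * (d * (ρ * d * ρ⁻¹)) ≠ 1 := fun a =>
    e (GW.c1.2 (cm_of_sq dd (csq dd ρ) a).symm)
  generalize d * (ρ * d * ρ⁻¹) = y at yP yy
  have yy' : ρ * y * ρ⁻¹ * (ρ * y * ρ⁻¹) ≠ 1 := by rw [conj_mul]; exact cne yy ρ
  have m1 := i2' inf_le_left a1 yP (cmem hn yP) (fun a => yy (a2 _ a)) fun a => yy' (a2 _ a)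
  have m2 := i2' inf_le_left b1 yP (cmem hn yP) (fun a => yy (b2 _ a)) fun a => yy' (b2 _ a)
  refine odd3 o two c.le hn hz zz z1 (nz hn) yP (fun a => yy (Om_el _ (eO ▸ a))) (by_contra fun a => ?_)
  have m3 := c1s.1 (cz (cmem hn dP))
  have := (Cen1 _).mul_mem m2.2 ((Cen1 _).inv_mem (zpowers_le.2 m3 (a3 _ m1 a)))
  exact e (c1s.1 (by simpa [mul_assoc] using this))

variable (h : Cx S) (c5 : Nat.card S = 32) (lt : P < S) (nP : S ≤ Nor P) (p1 : P ≠ ⊥)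
include h c5 lt nP p1

theorem ns : ¬ Nor P ≤ Nor S := fun e => lt.not_ge (by simpa using r.two h.two nP e)

theorem qq (l : P < Q) (l' : Q ≤ S) (c : 16 ≤ Nat.card Q) (hk : k ∈ Nor P)
    (e : conjS k⁻¹ Q ≤ S) : k ∈ S := by
  have n := h.nor lt.le p1
  rcases h.mx1 c5 (le_inf nP (n2 l' (by omega))) inf_le_left n with a | a
  · have := conjS_mono k (n2 e (by rw [card_conjS]; omega))
    rw [AI.conj_nor, conjS_conjS_inv] at this
    have m := mem_normalizer_of_conjS_le ((le_inf ((conjS_mono k nP).trans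
      (conjS_eq_of_mem hk).le) this).trans a)
    exact ((h.mx1 c5 (le_inf nP le_normalizer) inf_le_left n).resolve_right
      fun b => r.ns h c5 lt nP p1 (b.trans inf_le_right)) ⟨hk, m⟩
  · exact absurd ((le_inf l' le_rfl).trans (r.two (h.two.to_le l') (l'.trans nP)
      (a.trans inf_le_right))) l.not_ge

omit p1 in
theorem c8e (el : El P) (c : Nat.card P = 8) : False := by
  have p1 : P ≠ ⊥ := fun e => by rw [e, card_bot] at c; omega
  have PS := lt.le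
  obtain ⟨y, hy, y1, ym, yy⟩ := H7.exists_central_mod (N := P) h.two le_rfl le_normalizer lt.not_ge
  rw [pow_two] at yy
  have yn := nP hy
  have c4 := fixE el yn (el.cen yy)
  obtain ⟨b, hb, b1⟩ : ∃ b ∈ P, b ∉ Cen1 y :=
    SetLike.not_le_iff_exists.1 fun e => y1 (r.cen ⟨hy, cen_iff_le.2 e⟩)
  have cU : Nat.card P ≤ 2 * Nat.card (P ⊓ Cen1 y : Subgroup G) := by
    rcases h.dv c5 (inf_le_left.trans PS : P ⊓ Cen1 y ≤ S) with e | e | e | e | e | e <;>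
      rw [e] at c4 ⊢ <;> omega
  have zP := mul_mem (inv_mem hb) (cmem yn hb)
  have yb : ∀ x ∈ P, x ∉ Cen1 y → y * x * y⁻¹ = x * (b⁻¹ * (y * b * y⁻¹)) := fun x hx x1 => by
    have m := i2' inf_le_left cU hb hx (fun e => b1 e.2) fun e => x1 e.2
    calc _ = y * b * y⁻¹ * (y * (b⁻¹ * x) * y⁻¹) := by group
      _ = _ := by rw [c1'.1 (c1s.1 m.2), el.cm hx zP, el.cm (inv_mem hb) (cmem yn hb)]; group
  have z1 : b⁻¹ * (y * b * y⁻¹) ≠ 1 := fun e => b1 (c1s.1 (c1'.2 (inv_mul_eq_one.1 e).symm))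
  generalize b⁻¹ * (y * b * y⁻¹) = z at zP yb z1
  have zS : S ≤ Cen1 z := fun s hs => by
    have m := ym s hs
    have sb := cmem (nP hs) hb
    have e : ∀ x ∈ P, s * y * s⁻¹ * x * (s * y * s⁻¹)⁻¹ = y * x * y⁻¹ := fun x hx => by
      calc _ = ⁅y, s⁆⁻¹ * (y * x * y⁻¹) * ⁅y, s⁆ := by simp only [commutatorElement_def]; group
        _ = _ := by rw [el.cm (inv_mem m) (cmem yn hx), inv_mul_cancel_right]
    have e' := e _ sb
    rw [conj_mul, conj_inv, conj_mul, yb b hb b1] at e'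
    have n : s * b * s⁻¹ ∉ Cen1 y := fun a => z1 (by
      rw [c1'.1 (c1s.1 a)] at e'
      exact mul_eq_left.1 (cinj e'))
    rw [yb _ sb n, ← conj_mul] at e'
    exact c1'.2 (mul_left_cancel e')
  by_cases cz : Nor P ≤ Cen1 z
  · refine y1 (r.tv (el z zP) cz hy yn fun x hx => ?_)
    by_cases e : x ∈ Cen1 y
    · rw [c1'.1 (c1s.1 e), inv_mul_cancel]; exact one_mem _
    · rw [yb x hx e, inv_mul_cancel_left]; exact mem_zpowers z
  have cH : Nor P ⊓ Cen1 z ≤ S := (h.mx1 c5 (le_inf nP zS) inf_le_left (h.nor PS p1)).resolve_right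
    fun e => cz (e.trans inf_le_right)
  have K : ∀ k ∈ Nor P, k ∉ S → S ⊓ Cen1 (k * z * k⁻¹) ≤ P := fun k hk k1 => by
    by_contra n
    have l : P < S ⊓ Cen1 (k * z * k⁻¹) :=
      lt_of_le_not_ge (le_inf PS (cen_iff_le.1 (el.cen (cmem hk zP)))) n
    refine k1 (r.qq h c5 lt nP p1 l inf_le_left (by have := lt2 l; omega) hk (le_trans ?_ cH))
    refine le_inf ((conjS_mono _ (inf_le_left.trans nP)).trans (conjS_eq_of_mem (inv_mem hk)).le) ?_
    have := conjS_mono k⁻¹ (inf_le_right : S ⊓ Cen1 (k * z * k⁻¹) ≤ _)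
    rwa [conj_c1, show k⁻¹ * (k * z * k⁻¹) * k⁻¹⁻¹ = z by group] at this
  have K1 : ∀ k ∈ Nor P, k ∉ S → k * z * k⁻¹ ∉ Cen1 y := fun k hk k1 e =>
    y1 (K k hk k1 ⟨hy, c1s.1 e⟩)
  obtain ⟨k, hk, k1⟩ := SetLike.not_le_iff_exists.1 cz
  have k2 : k ∉ S := fun e => k1 (zS e)
  obtain ⟨s, hs, s1⟩ := exn (A := P ⊔ zpowers y) (B := S) (by rw [SF.card_sup_zp yn yy y1]; omega)
  have s2 : s ∉ P := fun e => s1 (mem_sup_left e)
  have hsk := mul_mem (nP hs) hk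
  have m := i2' inf_le_left cU (cmem hk zP) (cmem hsk zP) (fun e => K1 k hk k2 e.2)
    fun e => K1 _ hsk (fun a => k2 ((mul_mem_cancel_left hs).1 a)) e.2
  have hj := mul_mem (inv_mem hk) hsk
  have j1 : k⁻¹ * (s * k) ∉ S := fun e => s2 (K k hk k2 ⟨hs, c1'.2 (by
    calc _ = k * (k⁻¹ * (s * k) * z * (k⁻¹ * (s * k))⁻¹) * k⁻¹ := by group
      _ = _ := by rw [c1'.1 (zS e)])⟩)
  have e := yb _ (cmem hj zP) (K1 _ hj j1)
  have hi := mul_mem hk (mul_mem yn hj)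
  have e2 : (k * z * k⁻¹)⁻¹ * (s * k * z * (s * k)⁻¹) =
      k * (y * (k⁻¹ * (s * k))) * z * (k * (y * (k⁻¹ * (s * k))))⁻¹ := by
    calc _ = k * (z⁻¹ * (k⁻¹ * (s * k) * z * (k⁻¹ * (s * k))⁻¹)) * k⁻¹ := by group
      _ = _ := by rw [inv2 (el z zP), el.cm zP (cmem hj zP), ← e]; group
  by_cases i1 : k * (y * (k⁻¹ * (s * k))) ∈ S
  · rw [c1'.1 (zS i1), inv_mul_eq_iff_eq_mul, ← yb _ (cmem hk zP) (K1 k hk k2)] at e2
    refine s1 (((P ⊔ zpowers y).mul_mem_cancel_left ((P ⊔ zpowers y).inv_mem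
      (mem_sup_right (mem_zpowers y)))).1 (mem_sup_left
      (K k hk k2 ⟨S.mul_mem (S.inv_mem hy) hs, c1'.2 ?_⟩)))
    calc _ = y⁻¹ * (s * k * z * (s * k)⁻¹) * y := by group
      _ = _ := by rw [e2]; group
  · exact K1 _ hi i1 (e2 ▸ m.2)

end Rad

/-- active subgroups of index two -/
structure Act (S E : Subgroup G) : Prop where
  le : E ≤ S
  cd : Nat.card E = 16
  cn : S ⊓ Cen E ≤ E
  ns : ¬ Nor E ≤ Nor S
  od : ∃ ρ ∈ Nor E, Odd (orderOf ρ) ∧ ρ ∉ Cen E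

theorem Rad.act (r : Rad S P) (h : Cx S) (c5 : Nat.card S = 32) (lt : P < S) (l : B ≤ S) (el : El B)
    (cB : 8 ≤ Nat.card B) (nB : S ≤ Nor B) : Act S P := by
  have c1 := lt2 lt
  have c2 := mt (r.c4 h.two lt.le l el cB nB) id
  have c3 : Nat.card P ≠ 8 := fun c => by
    have e := r.c8n h.two lt l el cB nB c
    by_cases n : S ≤ Nor P
    · exact r.c8e h c5 lt n e c
    · exact (lt_inf_normalizer_of_isPGroup h.two lt).not_ge (le_trans (le_inf inf_le_left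
        ((h.cd c5 lt.le e c n).trans (centralizer_anti (le_inf lt.le le_normalizer)))) r.cen)
  have c : Nat.card P = 16 := by have := h.dv c5 lt.le; omega
  refine ⟨lt.le, c, r.cen, r.ns h c5 lt (n2 lt.le (by omega))
    fun e => by rw [e, card_bot] at c; omega, ?_⟩
  by_contra n
  push Not at n
  exact r.all h.two lt n

end LN.C
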