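import Cfsg.Agent.LN.C3

/-! There is no active subgroup. -/

set_option autoImplicit false
set_option linter.unusedVariables false
set_option linter.unusedSectionVars false

namespace LN.C

open Cfsg Subgroup FT H4 H5 GW
open AI (Iv iv_cen)
open MW (Om mem_Om Om_nor Om_le Om_el Om_cen)

variable {G : Type*} [Group G] [Finite G] {S T M A B D E F P Q Y Z K H X : Subgroup G}
  {a b c d f g k n q s t u v x y z ρ : G} {w : G → Prop}

theorem z4c (na : ¬ T ≤ Cen T) : 4 * Nat.card (T ⊓ Cen T : Subgroup G) ≤ Nat.card T := by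
  obtain ⟨a, ha, n⟩ := SetLike.not_le_iff_exists.1 na
  have h1 := lt2' (A := T ⊓ Cen T) (B := T ⊓ Cen1 a)
    (le_inf inf_le_left fun x hx => GW.c1.2 (GW.cen.1 hx.2 a ha)) ⟨ha, GW.c1.2 rfl⟩ fun e => n e.2
  have h2 := lt2 (inf_lt_left.2 fun e => n (cen_iff_le.2 e) : T ⊓ Cen1 a < T)
  omega

theorem omsq (c : Nat.card P ≤ 2 * Nat.card (Om P)) (ne : ¬ El P) :
    ∃ z ∈ P, z ≠ 1 ∧ Nor P ≤ Cen1 z := by
  obtain ⟨x, hx, x1⟩ := SetLike.exists_of_lt (lt_of_le_of_ne Om_le fun e => ne (e ▸ Om_el) : Om P < P)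
  refine ⟨x * x, mul_mem hx hx, fun e => x1 (mem_Om.2 ⟨hx, e, cen_iff_le.2
    (g2 Om_le c hx x1 (cen_iff_le.1 (le_cen_symm Om_cen hx)) (GW.c1.2 rfl))⟩), fun ρ hn => c1'.2 ?_⟩
  have m := i2' Om_le c hx (cmem hn hx) x1 fun e => x1 (by
    simpa [mul_assoc] using cmem' (Om_nor hn) e)
  rw [← conj_mul, show ρ * x * ρ⁻¹ = x * (x⁻¹ * (ρ * x * ρ⁻¹)) by group, mul_assoc,
    ← mul_assoc _ x, GW.cen.1 (Om_cen m) x hx, mul_assoc, Om_el _ m, mul_one]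

theorem T16.odd (h : T16 T D c f a) (two : IsPGroup 2 T) (zf : Nor T ≤ Cen1 f) (hn : ρ ∈ Nor T)
    (o : Odd (orderOf ρ)) : ρ ∈ Cen T := by
  have z : ∀ σ ∈ Nor T, ∀ y, (y = 1 ∨ y = c ∨ y = f ∨ y = f * c) → σ ∈ Cen1 y := fun σ hs y hy => by
    rcases hy with rfl | rfl | rfl | rfl
    exacts [GW.c1.2 (by simp), h.nc hs, zf hs, c1c.2 ((c1c.1 (zf hs)).mul_right (c1c.1 (h.nc hs)))]
  obtain ⟨t, ht, tE⟩ := exn (A := D) (B := T) (by rw [h.cE, h.cT]; omega)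
  have fx : ∀ σ ∈ Nor T, Odd (orderOf σ) → σ * a * σ⁻¹ ∈ D → σ ∈ Cen1 a := fun σ hs o e => by
    rcases h.mE _ e with k | ⟨y, k, e⟩
    · have := c1'.1 (z _ (inv_mem hs) _ k)
      rw [show σ⁻¹ * (σ * a * σ⁻¹) * σ⁻¹⁻¹ = a by group] at this
      exact c1'.2 this.symm
    · rw [fix_of_odd (k := 1) o (by simpa [pow_two] using h.el y (h.z4 k).1) (GW.c1.1 (z σ hs y k)) e,
        mul_one] at e
      exact c1'.2 e
  by_cases e : ρ * a * ρ⁻¹ ∈ D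
  · refine odd2 o two h.le (by rw [h.cE, h.cT]) hn (GW.cen.2 fun x hx => GW.c1.1 ?_)
    rcases h.mE x hx with k | ⟨y, k, rfl⟩
    exacts [z ρ hn x k, c1c.2 ((c1c.1 (fx ρ hn o e)).mul_right (c1c.1 (z ρ hn y k)))]
  exfalso
  have a1 := cmem hn (h.le h.am)
  by_cases e' : ρ * (ρ * a * ρ⁻¹) * ρ⁻¹ ∈ D
  · refine e ?_
    rw [c1'.1 (GW.mem_of_sq_mem o (fx _ (mul_mem hn hn) (o.of_dvd_nat (by
      rw [← pow_two]; exact orderOf_pow_dvd 2)) (by simpa [mul_assoc] using e')))]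
    exact h.am
  have m := i2 h.le (by rw [h.cE, h.cT]) a1 (cmem hn a1) e e'
  have k := h.zE m a1 e (c1c.2 ((Commute.refl _).mul_right
    (cm_of_sq (csq h.aa ρ) (csq (csq h.aa ρ) ρ) (h.el _ m))))
  rw [← c1'.1 (z _ (inv_mem hn) _ k)] at m
  exact e ((mul_mem_cancel_left h.am).1 (by simpa [mul_assoc] using m))

namespace Act
variable (h : Cx S) (c5 : Nat.card S = 32) (p : Act S E)
include h c5 p

theorem ix : Nat.card S ≤ 2 * Nat.card E := by rw [c5, p.cd]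
theorem nE : S ≤ Nor E := n2 p.le (p.ix h c5)
theorem nt : Nor E ≠ ⊤ := h.nor p.le fun e => by have := p.cd; rw [e, card_bot] at this; omega
theorem lt : S < Nor E := lt_of_le_not_ge (p.nE h c5) fun e => p.ns (e.trans le_normalizer)

theorem ns' (hk : k ∈ Nor E) (e : conjS k S ≤ S) : k ∈ S :=
  ((h.mx1 c5 (le_inf (p.nE h c5) le_normalizer) inf_le_left (p.nt h c5)).resolve_right
    fun b => p.ns (b.trans inf_le_right)) ⟨hk, mem_normalizer_of_conjS_le e⟩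

theorem cE (hk : k ∈ Nor E) : conjS k S ≤ Nor E :=
  (conjS_mono k (p.nE h c5)).trans (conjS_eq_of_mem hk).le

theorem zE : S ⊓ Cen S ≤ E := (inf_le_inf_left _ (centralizer_anti p.le)).trans p.cn

theorem fixH (hk : k ∈ Nor E) (k1 : k ∉ S) (hz : z ∈ S ⊓ Cen S ⊓ conjS k (S ⊓ Cen S)) :
    Nor E ≤ Cen1 z := by
  refine ((h.mx1 c5 (le_inf (p.nE h c5) (cen_iff_le.1 hz.1.2)) inf_le_left (p.nt h c5)).resolve_left
    fun e => k1 (p.ns' h c5 hk (le_trans (le_inf (p.cE h c5 hk) ?_) e))).trans inf_le_right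
  have := conjS_mono k inf_le_right hz.2
  rw [conjS_centralizer] at this
  exact cen_iff_le.1 this

theorem com (p' : Act S F) (z1 : z ≠ 1) (h1 : Nor E ≤ Cen1 z) (h2 : Nor F ≤ Cen1 z) : E = F := by
  by_contra n
  have e := (h.mx2 c5 (p.lt h c5) h1 (h.cen1 z1)).symm.trans (h.mx2 c5 (p'.lt h c5) h2 (h.cen1 z1))
  obtain ⟨x, hx, x1⟩ : ∃ x ∈ F, x ∉ E := SetLike.not_le_iff_exists.1 fun c =>
    n (eq_of_le_of_card_ge c (by rw [p.cd, p'.cd])).symm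
  have : E ⊔ F = S := le_antisymm (sup_le p.le p'.le)
    (g2 p.le (p.ix h c5) (p'.le hx) x1 le_sup_left (mem_sup_right hx))
  exact p.ns (this ▸ nsup le_rfl e.le)

theorem tyA (hz : z ∈ S ⊓ Cen S) (n : ¬ Nor E ≤ Cen1 z) : E ≤ Cen E := by
  by_contra na
  obtain ⟨k, hk, k1⟩ := SetLike.not_le_iff_exists.1 n
  have k2 : k ∉ S := fun e => k1 (cen_iff_le.1 hz.2 e)
  have l : S ⊓ Cen S ≤ E ⊓ Cen E := le_inf (p.zE h c5) (inf_le_right.trans (centralizer_anti p.le))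
  have z1 : z ≠ 1 := fun e => n fun g _ => GW.c1.2 (by simp [e])
  have c1 := lt2' l (cmem (minf hk (mcen hk)) (l hz)) fun e => k1 (by
    have := p.fixH h c5 hk k2 ⟨e, conj_mem_conjS hz⟩ (inv_mem hk)
    rw [c1', show k⁻¹ * (k * z * k⁻¹) * k⁻¹⁻¹ = z by group] at this
    exact c1'.2 this.symm)
  have c2 := lt2' bot_le hz z1
  have c3 := z4c na
  rw [card_bot] at c2
  obtain ⟨c, hc, c4, -, nc, -⟩ := uc (Z := E ⊓ Cen E) inf_le_left (le_cen_symm inf_le_right)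
    (by rw [p.cd]; omega) na
  have := i2' bot_le (by rw [card_bot]; rw [p.cd] at c3; omega) hz
    ⟨p.le hc, cen_iff_le.2 ((p.nE h c5).trans nc)⟩ z1 c4
  exact n (inv_mul_eq_one.1 this ▸ nc)

variable (na : ¬ S ≤ Cen S)
include na

theorem AA (p' : Act S F) (a1 : E ≤ Cen E) (a2 : F ≤ Cen F) : E = F := by
  by_contra n
  obtain ⟨x, hx, x1⟩ : ∃ x ∈ F, x ∉ E := SetLike.not_le_iff_exists.1 fun c =>
    n (eq_of_le_of_card_ge c (by rw [p.cd, p'.cd])).symm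
  have c1 := cinf p.le p'.le
  have c2 := card_le_of_le (show E ⊓ F ≤ S ⊓ Cen S from fun y hy => ⟨p.le hy.1, cen_iff_le.2
    (g2 p.le (p.ix h c5) (p'.le hx) x1 (cen_iff_le.1 (a1 hy.1)) (cen_iff_le.1 (a2 hy.2) hx))⟩)
  have c3 := z4c na
  rw [p.cd, p'.cd, c5] at c1
  have W : ∀ E, Act S E → ∃ W ≤ S ⊓ Cen S, 4 ≤ Nat.card W ∧ ∀ z ∈ W, Nor E ≤ Cen1 z := fun E p => by
    obtain ⟨k, hk, k1⟩ := SetLike.exists_of_lt (p.lt h c5)
    have := cinf (p.zE h c5) ((conjS_mono k (p.zE h c5)).trans (mem_normalizer_iff_conjS.1 hk).le)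
    rw [card_conjS, p.cd] at this
    exact ⟨_, inf_le_left, by nlinarith, fun z hz => p.fixH h c5 hk k1 hz⟩
  obtain ⟨W1, l1, d1, e1⟩ := W E p
  obtain ⟨W2, l2, d2, e2⟩ := W F p'
  have := cinf l1 l2
  obtain ⟨z, hz, z1⟩ := ex1 (B := W1 ⊓ W2) (by nlinarith)
  exact n (p.com h c5 p' z1 (e1 z hz.1) (e2 z hz.2))

variable (l : B ≤ S) (el : El B) (cB : 8 ≤ Nat.card B)
include l el cB

theorem AC (p' : Act S F) (a1 : E ≤ Cen E) (a2 : ∀ z ∈ S ⊓ Cen S, Nor F ≤ Cen1 z) : E = F := by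
  by_contra n
  have nf : ∀ z ∈ S ⊓ Cen S, Nor E ≤ Cen1 z → z = 1 := fun z hz e =>
    by_contra fun z1 => n (p.com h c5 p' z1 e (a2 z hz))
  have om : ∀ X ≤ E, El X → X ≤ Om E := fun X l e x hx => mem_Om.2 ⟨l hx, e x hx, a1 (l hx)⟩
  have eE : El E := by
    by_cases e : B ≤ E
    · by_contra ne
      obtain ⟨z, hz, z1, e⟩ := omsq (by have := card_le_of_le (om B e el); rw [p.cd]; omega) ne
      exact z1 (nf z ⟨p.le hz, cen_iff_le.2 ((p.nE h c5).trans e)⟩ e)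
    obtain ⟨s, hs, s1⟩ := SetLike.not_le_iff_exists.1 e
    obtain ⟨k, hk, k1⟩ := SetLike.exists_of_lt (p.lt h c5)
    have d0 : B ⊓ E ≤ S ⊓ Cen S := fun y hy => ⟨l hy.1, cen_iff_le.2 (g2 p.le (p.ix h c5) (l hs) s1
      (cen_iff_le.1 (a1 hy.2)) (GW.c1.2 (el.cm hs hy.1)))⟩
    have c1 := cinf l p.le
    have c2 := cinf (om _ inf_le_right (el.mono inf_le_left)) (om _ ((conjS_mono k
      (inf_le_right : B ⊓ E ≤ E)).trans (mem_normalizer_iff_conjS.1 hk).le)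
      ((el.mono inf_le_left).conj k))
    rw [show B ⊓ E ⊓ conjS k (B ⊓ E) = ⊥ from eq_bot_iff.2 fun z hz => nf z (d0 hz.1)
      (p.fixH h c5 hk k1 ⟨d0 hz.1, conjS_mono k d0 hz.2⟩), card_bot, card_conjS] at c2
    rw [p.cd, c5] at c1
    exact eq_of_le_of_card_ge (Om_le (A := E)) (by rw [p.cd]; nlinarith) ▸ Om_el
  obtain ⟨x, hx, x1⟩ : ∃ x ∈ F, x ∉ E := SetLike.not_le_iff_exists.1 fun c =>
    n (eq_of_le_of_card_ge c (by rw [p.cd, p'.cd])).symm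
  have c1 := cinf p.le p'.le
  have c2 := lt2' (inf_le_right : E ⊓ F ≤ F) hx fun e => x1 e.1
  rw [p.cd, p'.cd, c5] at c1
  obtain ⟨c, f, a, k⟩ := t16 inf_le_right (eE.mono inf_le_left) (by rw [p'.cd] at c2; omega) p'.cd
    fun e => n (p.AA h c5 na p' a1 e)
  obtain ⟨ρ, hn, o, e⟩ := p'.od
  exact e (k.odd (h.two.to_le p'.le) (a2 f ⟨p.le k.fm.1, cen_iff_le.2 (g2 p.le (p.ix h c5) (p'.le hx) x1
    (cen_iff_le.1 (a1 k.fm.1)) (k.zf hx))⟩) hn o)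

theorem uq (p' : Act S F) : E = F := by
  by_cases e1 : ∀ z ∈ S ⊓ Cen S, Nor E ≤ Cen1 z <;> by_cases e2 : ∀ z ∈ S ⊓ Cen S, Nor F ≤ Cen1 z
  · obtain ⟨z, hz, -, z1, cz⟩ := H5.Dich.exists_central h.two
      (fun e => by rw [e, card_bot] at c5; omega)
    exact p.com h c5 p' z1 (e1 z ⟨hz, cen_iff_le.2 cz⟩) (e2 z ⟨hz, cen_iff_le.2 cz⟩)
  · push Not at e2
    obtain ⟨z, hz, e⟩ := e2
    exact (p'.AC h c5 na l el cB p (p'.tyA h c5 hz e) e1).symm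
  · push Not at e1
    obtain ⟨z, hz, e⟩ := e1
    exact p.AC h c5 na l el cB p' (p.tyA h c5 hz e) e2
  · push Not at e1 e2
    obtain ⟨z, hz, e⟩ := e1
    obtain ⟨z', hz', e'⟩ := e2
    exact p.AA h c5 na p' (p.tyA h c5 hz e) (p'.tyA h c5 hz' e')

omit h c5 na l el cB in
theorem conj (hn : n ∈ Nor S) : Act S (conjS n E) := by
  have e := mem_normalizer_iff_conjS.1 hn
  obtain ⟨ρ, h1, o, h2⟩ := p.od
  refine ⟨(conjS_mono n p.le).trans e.le, by rw [card_conjS, p.cd], ?_, fun c => p.ns ?_,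
    n * ρ * n⁻¹, AI.conj_nor n E ▸ conj_mem_conjS h1, by rwa [oconj], fun c => h2 ?_⟩
  · have := conjS_mono n p.cn
    rwa [conjS_inf, e, conjS_centralizer] at this
  · rwa [← AI.conj_nor, ← e, ← AI.conj_nor, conjS_le_conjS_iff] at c
  · change _ ∈ centralizer _ at c
    rwa [← conjS_centralizer, conj_mem_conjS_iff] at c

theorem false (nB : S ≤ Nor B) : False := by
  have iv : ∀ n ∈ Nor E, ∀ P, Iv (· ∈ E) P n := fun n hn P x _ =>
    ⟨cmem hn, fun e => by simpa [mul_assoc] using cmem' hn e⟩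
  refine h.foc (lt_of_le_of_ne p.le fun e => by have := p.cd; rw [e] at this; omega)
    fun x hx g hg => ?_
  have := alpR (w := (· ∈ E)) h.syl (fun n hn => iv n (mem_normalizer_iff_conjS.2
    (p.uq h c5 na l el cB (p.conj hn)).symm) _) (fun P lt r n hn => iv n
      (p.uq h c5 na l el cB (r.act h c5 lt l el cB nB) ▸ hn) _) hx hg
  by_cases e : x ∈ E
  exacts [mul_mem (inv_mem e) (this.1 e), i2' p.le (p.ix h c5) hx hg e (mt this.2 e)]

end Act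

end LN.C
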