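import Cfsg.Agent.LN.C4

/-! The normalizer of a Sylow subgroup does not control fusion; piece C. -/

set_option autoImplicit false
set_option linter.unusedVariables false
set_option linter.unusedSectionVars false

namespace LN.C

open Cfsg Subgroup FT H4 H5 GW
open MW (Om mem_Om Om_nor Om_le Om_el Om_cen Ym mem_Ym Ym_nor)
open scoped commutatorElement

variable {G : Type*} [Group G] [Finite G] {S M A B K : Subgroup G} {a b g n u x y z σ : G}

/-- the normalizer controls fusion -/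
structure Ct (S : Subgroup G) : Prop extends Cx S where
  c5 : Nat.card S = 32
  na : ¬ S ≤ Cen S
  ct : ∀ x ∈ S, ∀ g, g * x * g⁻¹ ∈ S → ∃ n ∈ Nor S, n * x * n⁻¹ = g * x * g⁻¹

namespace Ct
variable (h : Ct S)
include h

theorem nz (hz : z ∈ S) (zz : z * z = 1) (z1 : z ≠ 1) : ¬ Nor S ≤ Cen1 z := fun e => by
  obtain ⟨v, hv, n, c⟩ := h.iso hz zz z1 (le_normalizer.trans e)
  obtain ⟨g, rfl⟩ := isConj_iff.1 c
  obtain ⟨m, hm, a⟩ := h.ct z hz g hv
  exact n (a.symm.trans (c1'.1 (e hm)))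

theorem nb : S ≠ ⊥ := fun e => by have := h.c5; rw [e, card_bot] at this; omega

variable (hs : σ ∈ Nor S) (s1 : σ ∉ S)
include hs s1

theorem gen (l : S ≤ K) (e : σ ∈ K) : Nor S ≤ K :=
  ((h.mx1 h.c5 (le_inf le_normalizer l) inf_le_left (h.nor le_rfl h.nb)).resolve_left
    fun c => s1 (c ⟨hs, e⟩)).trans inf_le_right

theorem nfoc (l : M ≤ S) (h1 : ∀ x ∈ S, ∀ y ∈ S, ⁅x, y⁆ ∈ M) (h2 : ∀ x ∈ S, ⁅x, σ⁆ ∈ M) : S ≤ M := by
  by_contra c
  have k : ∀ g, (∀ x ∈ S, ⁅x, g⁆ ∈ M) → g ∈ cMod S M := fun g e => ⟨mnor fun m hm => by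
    simpa [commutatorElement_def, mul_assoc] using mul_mem hm (e _ (l (inv_mem hm))), e⟩
  refine h.foc (lt_of_le_not_ge l c) fun x hx g hg => ?_
  obtain ⟨n, hn, e⟩ := h.ct x hx g hg
  rw [← e]
  simpa [commutatorElement_def, mul_assoc] using (h.gen hs s1
    (fun y hy => k y fun x hx => h1 x hx y hy) (k σ h2) hn).2 _ (inv_mem hx)

theorem n2i (l : M ≤ S) (c : 16 ≤ Nat.card M) (e : σ ∈ Nor M) : S ≤ M := by
  have c' : Nat.card S ≤ 2 * Nat.card M := by rw [h.c5]; omega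
  have k : ∀ g ∈ Nor S, g ∈ Nor M → ∀ x ∈ S, ⁅x, g⁆ ∈ M := fun g a b x hx => by
    rw [commutatorElement_def, mul_assoc, mul_assoc, ← mul_assoc g]
    by_cases e : x ∈ M
    · exact mul_mem e (cmem b (inv_mem e))
    · exact i2 l c' hx (cmem a (inv_mem hx)) e fun f => e (by simpa [mul_assoc] using cmem' b f)
  exact h.nfoc hs s1 l (fun x hx y hy => k y (le_normalizer hy) (n2 l c' hy) x hx) (k σ hs e)

theorem norm (s3 : σ ^ 3 = 1) (hu : u ∈ S) (uu : u * u = 1) (cu : σ ∈ Cen1 u) : u ∈ ⁅S, S⁆ := by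
  let τ : S →* S := MonoidHom.mk' (fun x => ⟨σ * x * σ⁻¹, cmem hs x.2⟩) fun x y =>
    Subtype.ext (by push_cast; group)
  let φ := Abelianization.of (G := S)
  let ν : S →* Abelianization S := φ * φ.comp τ * φ.comp (τ.comp τ)
  have t3 : ∀ x, τ (τ (τ x)) = x := fun x => Subtype.ext (by
    change σ * (σ * (σ * x * σ⁻¹) * σ⁻¹) * σ⁻¹ = x
    calc _ = σ ^ 3 * x * (σ ^ 3)⁻¹ := by simp only [pow_succ, pow_zero]; group
      _ = _ := by rw [s3]; group)
  have nv : ∀ x, ν x = φ x * φ (τ x) * φ (τ (τ x)) := fun x => rfl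
  obtain ⟨v, hv, e⟩ := h.nfoc hs s1 (M := ν.ker.map S.subtype) (map_subtype_le _)
    (fun x hx y hy => ⟨⁅(⟨x, hx⟩ : S), ⟨y, hy⟩⁆, by
      rw [SetLike.mem_coe, MonoidHom.mem_ker, map_commutatorElement,
        commutatorElement_eq_one_iff_mul_comm, mul_comm], rfl⟩)
    (fun x hx => ⟨⟨x, hx⟩ * τ ⟨x, hx⟩⁻¹, by
      rw [SetLike.mem_coe, MonoidHom.mem_ker, map_mul, nv (τ _), t3, mul_comm _ (φ _),
        ← mul_assoc (φ _), ← nv, ← map_mul, mul_inv_cancel, map_one],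
      by change x * (σ * x⁻¹ * σ⁻¹) = _; rw [commutatorElement_def]; group⟩) hu
  obtain rfl : v = ⟨u, hu⟩ := Subtype.ext e
  have tu : τ ⟨u, hu⟩ = ⟨u, hu⟩ := Subtype.ext (c1'.1 cu)
  rw [SetLike.mem_coe, MonoidHom.mem_ker, nv, tu, tu, ← map_mul, ← map_mul,
    show (⟨u, hu⟩ : S) * ⟨u, hu⟩ = 1 from Subtype.ext uu, one_mul, ← MonoidHom.mem_ker,
    Abelianization.ker_of] at hv
  exact (commutator_le.2 fun a _ b _ => commutator_mem_commutator a.2 b.2 :
    ⁅(⊤ : Subgroup S), ⊤⁆ ≤ ⁅S, S⁆.subgroupOf S) hv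

omit hs s1 in
theorem false : False := by
  have two := h.two
  have c5 := h.c5
  have DS : ⁅S, S⁆ ≤ S := commutator_le.2 fun a ha b hb =>
    mul_mem (mul_mem (mul_mem ha hb) (inv_mem ha)) (inv_mem hb)
  have nD : Nor S ≤ Nor ⁅S, S⁆ := ncom le_rfl le_rfl
  obtain ⟨z, zD, z1, zz, cz⟩ := H7.exists_fixed_order_p (two.to_le DS) two (le_normalizer.trans nD)
    fun e => h.na (commutator_eq_bot_iff_le_centralizer.1 e)
  rw [pow_two] at zz
  have zW : z ∈ Om S := mem_Om.2 ⟨DS zD, zz, GW.cen.2 fun g hg => (cz g (mem_sup_right hg)).symm⟩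
  have cW : Nat.card (Om S) ≤ 4 := by
    by_contra n
    obtain ⟨c, hc, c1, cc, nc, -⟩ := uc Om_le (le_cen_symm Om_cen)
      (by have := h.dv c5 (Om_le (A := S)); omega) h.na
    exact h.nz hc cc c1 nc
  obtain ⟨σ, hs, o, sz⟩ : ∃ σ ∈ Nor S, Odd (orderOf σ) ∧ σ ∉ Cen1 z := by
    by_contra n
    push Not at n
    exact h.nz (DS zD) zz z1 (M4.le_of_odd (h.syl.of_le le_normalizer le_top)
      (cen_iff_le.1 (Om_cen zW)) n)
  have s1 : σ ∉ S := fun e => sz (cen_iff_le.1 (Om_cen zW) e)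
  have nf : ∀ w ∈ Om S, w ≠ 1 → σ ∉ Cen1 w := fun w hw w1 e =>
    h.nz (Om_le hw) (Om_el w hw) w1 (h.gen hs s1 (cen_iff_le.1 (Om_cen hw)) e)
  have zW' := cmem (Om_nor hs) zW
  have n1 : σ * z * σ⁻¹ ∉ zpowers z := fun e => ((m2 zz).1 e).elim (cne z1 σ) fun e => sz (c1'.2 e)
  have zl : zpowers z ≤ Om S := zpowers_le.2 zW
  have c2' : Nat.card (Om S) ≤ 2 * Nat.card (zpowers z) := by rw [c2 zz z1]; omega
  have WD : Om S ≤ ⁅S, S⁆ := g2 zl c2' zW' n1 (zpowers_le.2 zD) (cmem (nD hs) zD)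
  have e3 : σ * (σ * z * σ⁻¹) * σ⁻¹ = σ * z * σ⁻¹ * z := by
    refine inv_mul_eq_iff_eq_mul.1 (((m2 zz).1 (i2' zl c2' zW' (cmem (Om_nor hs) zW') n1 fun e =>
      ((m2 zz).1 e).elim (cne (cne z1 σ) σ) fun e => sz (c1'.2 (DD.fix2 o e)))).resolve_left fun e =>
        nf _ zW' (cne z1 σ) (c1'.2 (inv_mul_eq_one.1 e).symm))
  have s3 : σ ^ 3 = 1 := by
    have m : σ ^ 3 ∈ S := ((h.mx1 c5 (le_inf le_normalizer (cen_iff_le.1 (Om_cen zW))) inf_le_left
      (h.nor le_rfl h.nb)).resolve_right fun e => sz (e hs).2) ⟨pow_mem hs 3, c1'.2 (by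
        calc _ = σ * (σ * (σ * z * σ⁻¹) * σ⁻¹) * σ⁻¹ := by simp only [pow_succ, pow_zero]; group
          _ = _ := by
            rw [e3, ← conj_mul, e3, mul_assoc, GW.cen.1 (Om_cen zW) _ (Om_le zW'), ← mul_assoc,
              csq zz σ, one_mul])⟩
    obtain ⟨k, hk⟩ := L.PElt_of_mem two m
    exact orderOf_eq_one_iff.1 (((odd_iff_cop.1 (o.of_dvd_nat (orderOf_pow_dvd 3))).pow_right
      k).eq_one_of_dvd (orderOf_dvd_of_pow_eq_one hk))
  obtain ⟨u, hu, uu, u1, -⟩ := H5.Dich.exists_central (two.to_inf_left (K := Cen1 σ)) fun e => by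
    have := H3.card_modEq_inf_centralizer Nat.prime_three s3 S fun x hx => cmem hs hx
    rw [c5, show S ⊓ centralizer {σ} = ⊥ from e, card_bot] at this
    exact absurd this (by decide)
  have su := c1s.1 hu.2
  have uW : u ∉ Om S := fun e => nf u e u1 su
  have uD := h.norm hs s1 s3 hu.1 uu su
  have cD : Nat.card (⁅S, S⁆ : Subgroup G) ≤ 2 * Nat.card (Om S) := by
    have a := lt2' zl zW' n1
    have b := mt (fun c => h.n2i hs s1 DS c (nD hs))
      (H7.commutator_lt_of_pgroup two two le_normalizer h.nb).not_ge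
    have := h.dv c5 DS
    rw [c2 zz z1] at a
    omega
  have Du : ⁅S, S⁆ ≤ S ⊓ Cen1 u := le_inf DS (g2 WD cD uD uW
    (fun w hw => c1s.1 (cen_iff_le.1 (Om_cen hw) hu.1)) (GW.c1.2 rfl))
  have c8 := lt2' WD uD uW
  have c4 := lt2' zl zW' n1
  rw [c2 zz z1] at c4
  have eD : ⁅S, S⁆ = S ⊓ Cen1 u := eq_of_le_of_card_ge Du (by
    have b := mt (fun c => h.n2i hs s1 (inf_le_left : S ⊓ Cen1 u ≤ S) c (minf hs (mc1 su)))
      fun e => uW (mem_Om.2 ⟨hu.1, uu, cen_iff_le.2 (e.trans inf_le_right)⟩)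
    have := h.dv c5 (inf_le_left : S ⊓ Cen1 u ≤ S)
    omega)
  have cm : ∀ x ∈ S, ∀ y ∈ S, x * y * x⁻¹ * y⁻¹ ∈ ⁅S, S⁆ := fun x hx y hy =>
    commutator_mem_commutator hx hy
  obtain ⟨y, hy, y1, -, yy⟩ := H7.exists_central_mod (N := ⁅S, S⁆) two le_rfl le_normalizer
    (H7.commutator_lt_of_pgroup two two le_normalizer h.nb).not_ge
  have sq := h.n2i hs s1 (M := Ym S ⁅S, S⁆ (le_normalizer.trans nD)) (fun x hx => (mem_Ym.1 hx).1)
    (by
      have := lt2' (A := ⁅S, S⁆) (fun x hx => mem_Ym.2 ⟨DS hx, mul_mem hx hx, cm x (DS hx)⟩)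
        (mem_Ym (h := le_normalizer.trans nD).2 ⟨hy, pow_two y ▸ yy, cm y hy⟩) y1
      omega) (Ym_nor _ hs (nD hs))
  have uc : ∀ w ∈ Om S, u * w * (u * w) = 1 := fun w hw =>
    mul_sq (GW.cen.1 (Om_cen hw) u hu.1).symm uu (Om_el w hw)
  have sW : ∀ x ∈ S, x * x ∈ Om S := fun x hx => by
    by_contra n
    have m := i2 WD cD uD (mem_Ym.1 (sq hx)).2.1 uW n
    have xD : x ∈ ⁅S, S⁆ := eD ▸ ⟨hx, c1c.2 (by
      simpa only [mul_inv_cancel_right] using (c1c.1 (cen_iff_le.1 (Om_cen m) hx)).mul_right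
        ((Commute.refl x).mul_right (Commute.refl x)).inv_right)⟩
    by_cases e : x ∈ Om S
    · exact n (mul_mem e e)
    · have := uc _ (i2' WD cD uD xD uW e)
      rw [mul_inv_cancel_left] at this
      exact n (this ▸ one_mem _)
  refine uW (commutator_le.2 (fun a ha b hb => ?_) uD)
  have e : ⁅a, b⁆ = a * b * (a * b) * (b⁻¹ * (a * a)⁻¹ * b) * (b * b)⁻¹ := by
    rw [commutatorElement_def]; group
  rw [e]
  exact mul_mem (mul_mem (sW _ (mul_mem ha hb)) (cmem' (Om_nor (le_normalizer hb))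
    (inv_mem (sW a ha)))) (inv_mem (sW b hb))

end Ct

theorem Cx.c32 (h : Cx S) (c5 : Nat.card S = 32) (l : A ≤ S) (el : El A) (c : 8 ≤ Nat.card A) :
    S ≤ Cen S := by
  by_contra na
  obtain ⟨B, l, el, cB, nB⟩ := h.exB c5 l el c
  refine Ct.false ⟨h, c5, na, fun x hx g hg => ?_⟩
  refine (alpR (w := fun y => ∃ n ∈ Nor S, n * x * n⁻¹ = y) h.syl (fun n hn y _ => ⟨?_, ?_⟩)
    (fun P lt r => ((r.act h c5 lt l el cB nB).false h c5 na l el cB nB).elim) hx hg).1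
    ⟨1, one_mem _, by simp⟩
  · rintro ⟨m, hm, rfl⟩
    exact ⟨n * m, mul_mem hn hm, by group⟩
  · rintro ⟨m, hm, e⟩
    exact ⟨n⁻¹ * m, mul_mem (inv_mem hn) hm, cinj (g := n) (by rw [← e]; group)⟩

end LN.C

namespace LN
open Cfsg Subgroup FT H5 C
universe u

theorem pc : PC.{u} := by
  rintro G _ _ S h c ⟨A, l, e, cA⟩
  have x : Cx (S : Subgroup G) := ⟨h, isSylowOf_top S⟩
  have el : El A := fun a ha => by rw [← pow_two]; exact e.2 a ha
  have c1 := card_le_of_le l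
  have : (S : Subgroup G) ≤ Cen S := by
    have c8 : Nat.card (S : Subgroup G) ≤ Nat.card A → (S : Subgroup G) ≤ Cen S := fun c =>
      (eq_of_le_of_card_ge l c ▸ el).cen
    have c' : Nat.card (S : Subgroup G) ∣ 32 := c
    rcases d32 c' with k | k | k | k | k | k
    · omega
    · omega
    · omega
    · exact c8 (by omega)
    · rcases d32 ((card_dvd_of_le l).trans c') with j | j | j | j | j | j
      exacts [by omega, by omega, by omega, x.c16 l el j k, c8 (by omega), by omega]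
    · exact x.c32 k l el cA
  exact ⟨⟨fun a b => Subtype.ext (GW.cen.1 (this a.2) b b.2)⟩⟩

end LN
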