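import Cfsg.Agent.LN.Stmt
import Cfsg.Agent.CK.K
import Cfsg.Agent.TW.Tow1
import Cfsg.Agent.H2.TwoB

/-! Semidihedral Sylow subgroup of order sixteen, solvable centralizer: the quotient. -/

set_option autoImplicit false
set_option linter.unusedVariables false
set_option linter.unusedSectionVars false

namespace LN.D1

open Cfsg Subgroup FT H4 H5 GW CK
open TW (mem_sup_zp)

universe u

variable {G : Type u} [Group G] [Finite G] {S : Sylow 2 G} {z a b : G} {m : ℕ}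

theorem fus [Group.IsPerfect G] (h : SDS S m a b) :
    ∃ g ∈ Cen1 (a ^ 2 ^ (m + 2)), g * (a * b) * g⁻¹ ∈ zpowers (a * a) := by
  have w2 : a * b * (a * b) = a ^ 2 ^ (m + 2) := by simpa using h.sq 1
  have ev : ∀ j : ℤ, a ^ (2 * j) ∈ zpowers (a * a) := fun j => ⟨j, by simp only; rw [← sq]; group⟩
  have e2 : a ^ 2 ^ (m + 2) ∈ zpowers (a * a) := ⟨(2 ^ (m + 1) : ℕ), by
    simp only [zpow_natCast, ← sq, ← pow_mul, ← pow_succ']⟩
  have ev' : ∀ i : ℤ, (fun x : ℤ => (a * a) ^ x) i = a ^ (2 * i) := fun i => by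
    simp only; rw [← sq]; group
  have nb : b ∈ Nor (zpowers (a * a)) := mnor fun k ⟨i, e⟩ => by
    rw [← e, ev', h.cj, h.z_even, mul_one, ← mul_neg]
    exact ev _
  have mM : ∀ {y}, y ∈ zpowers (a * a) ⊔ zpowers b ↔ _ := mem_sup_zp h.hb2 nb
  have od4 : ∀ i : ℤ, a ^ i = 1 → (4 : ℤ) ∣ i := fun i e => (Dvd.intro (2 ^ (m + 1))
    (by rw [h.ha]; push_cast; ring)).trans (orderOf_dvd_iff_zpow_eq_one.2 e)
  have aM : a ∉ zpowers (a * a) ⊔ zpowers b := fun c => (mM.1 c).elim (fun ⟨i, e⟩ => by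
      have := od4 (2 * i - 1) (by
        simp only at e; rw [zpow_sub_one, zpow_mul, zpow_two, e, mul_inv_cancel])
      omega)
    fun c => h.hb ((mul_mem_cancel_left (mem_zpowers a)).1
      (zpowers_le.2 (mul_mem (mem_zpowers a) (mem_zpowers a)) c))
  have od : ∀ y ∈ (S : Subgroup G), y ∉ zpowers (a * a) ⊔ zpowers b →
      ∃ j : ℤ, y = a ^ (2 * j + 1) ∨ y = a ^ (2 * j + 1) * b := fun y hy c => by
    obtain ⟨i, e⟩ := h.hmem y hy
    obtain ⟨j, rfl | rfl⟩ := Int.even_or_odd' i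
    · rcases e with rfl | rfl
      exacts [absurd (mem_sup_left (ev j)) c, absurd (mul_mem_sup (ev j) (mem_zpowers b)) c]
    · exact ⟨j, e⟩
  have MS : zpowers (a * a) ⊔ zpowers b ≤ S :=
    sup_le (zpowers_le.2 (mul_mem h.haS h.haS)) (zpowers_le.2 h.hbS)
  have i2 : (zpowers (a * a) ⊔ zpowers b).relIndex S = 2 := index_eq_two_iff.2 ⟨⟨a, h.haS⟩, fun y => by
    by_cases hy : (y : G) ∈ zpowers (a * a) ⊔ zpowers b
    · exact Or.inr ⟨hy, fun e => aM ((mul_mem_cancel_left hy).1 e)⟩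
    refine Or.inl ⟨show (y : G) * a ∈ zpowers (a * a) ⊔ zpowers b from ?_, hy⟩
    obtain ⟨j, e | e⟩ := od _ y.2 hy <;> rw [e]
    · exact mem_sup_left (mem_of_eq (ev (j + 1)) (by group))
    · exact mem_of_eq (mul_mem_sup (mul_mem (ev j) e2) (mem_zpowers b)) (by
        rw [show a ^ 2 ^ (m + 2) = a * (b * a * b⁻¹) by rw [h.hab, mul_inv_cancel_left]]; group)⟩
  have o4 : orderOf (a * b) = 2 ^ (1 + 1) := orderOf_eq_prime_pow
    (by rw [pow_one, sq, w2]; exact ine h.oz)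
    (by rw [show 2 ^ (1 + 1) = 2 * 2 from rfl, pow_mul, sq (a * b), w2, sq, ii h.oz])
  have big : ∀ y ∈ (S : Subgroup G), y ∉ zpowers (a * a) ⊔ zpowers b → 2 < orderOf y :=
    fun y hy c => by
    by_contra n
    have y2 : y * y = 1 := by
      have := orderOf_pos y
      rw [← sq, ← orderOf_dvd_iff_pow_eq_one]
      generalize orderOf y = k at *
      obtain rfl | rfl : k = 1 ∨ k = 2 := by omega
      all_goals norm_num
    obtain ⟨j, rfl | rfl⟩ := od y hy c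
    · have := od4 _ ((zpow_add a _ _).trans y2); omega
    · rw [h.sq, zpow_add_one, h.z_even, one_mul] at y2; exact ine h.oz y2
  have oS : Odd (S : Subgroup G).index := Nat.odd_iff.2 (Nat.two_dvd_ne_zero.1 S.not_dvd_index)
  obtain ⟨g, hg⟩ := H2.transfer_large_order (fun H => GW.index_ne_two H) _ oS _ i2 (1 + 1)
    (by simpa using big) _ o4
  have k : g * a ^ 2 ^ (m + 2) * g⁻¹ = g * (a * b) * g⁻¹ * (g * (a * b) * g⁻¹) := by
    rw [conj_mul, w2]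
  have hg' : g * (a * b) * g⁻¹ ∈ zpowers (a * a) := (mM.1 hg).resolve_right fun ⟨i, e⟩ => by
    rw [ev', ← mul_inv_eq_iff_eq_mul, inv_eq_of_mul_eq_one_right h.hb2] at e
    rw [← e, h.sq, h.z_even] at k
    exact ine (iconj h.oz g) k
  have := zpowers_le.2 (mul_mem (mem_zpowers a) (mem_zpowers a)) hg'
  exact ⟨g, c1'.2 (inv_uniq (k ▸ mul_mem this this) (npow_mem_zpowers a _) (iconj h.oz g) h.oz), hg'⟩

theorem sub (h : SDS S m a b) (cz : (S : Subgroup G) ≤ Cen1 z) :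
    SDS (S.subtype cz) m ⟨a, cz h.haS⟩ ⟨b, cz h.hbS⟩ :=
  ⟨h.haS, h.hbS, (orderOf_coe _).symm.trans h.ha,
    Subtype.ext h.hb2, Subtype.ext h.hab, fun ⟨j, e⟩ => h.hb ⟨j, congrArg Subtype.val e⟩,
    fun x hx => (h.hmem x hx).imp fun j e => e.imp Subtype.ext Subtype.ext⟩

theorem gl [Group.IsPerfect G] (h : SDS S 0 a b) (az : a ^ 2 ^ (0 + 2) = z)
    (hs : Group.IsSolvable (Cen1 z)) : ∃ π : Cen1 z →* H8.GL23, Function.Surjective π ∧
      π.ker = pPrimeCore 2 (Cen1 z) ∧ π ⟨z, c1.2 rfl⟩ = H9.glI ^ 2 := by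
  have cz : (S : Subgroup G) ≤ Cen1 z := fun x hx => az ▸ h.cen hx
  have oz : orderOf z = 2 := az ▸ h.oz
  have zS : z ∈ (S : Subgroup G) := az ▸ pow_mem h.haS _
  obtain ⟨g0, hg0, j0, e0⟩ := fus h
  rw [az] at hg0
  have h' := sub h cz
  lift a to Cen1 z using cz h.haS
  lift b to Cen1 z using cz h.hbS
  lift g0 to Cen1 z using hg0
  replace h' : SDS (S.subtype cz) 0 a b := h'
  replace e0 : (a * a) ^ j0 = g0 * (a * b) * g0⁻¹ := Subtype.ext e0
  obtain ⟨X, Y, _, _, _, _, π, ρ, q⟩ := ex_LQ (y := ⟨z, c1.2 rfl⟩) cz zS fun w hw g hg _ =>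
    c1'.1 (c1s.1 (zpowers_le.2 (c1s.1 hg) hw))
  have az' : a ^ 2 ^ (0 + 2) = ⟨z, c1.2 rfl⟩ := Subtype.ext az
  obtain ⟨φ, hφ⟩ : ∃ φ : Cen1 z →* Y, φ = ρ.comp π := ⟨_, rfl⟩
  have fe : ∀ x, ρ (π x) = φ x := fun x => by rw [hφ]; rfl
  have z1 : φ ⟨z, c1.2 rfl⟩ = 1 := fe _ ▸ (q.ker q.yS).2 (mem_zpowers _)
  obtain ⟨i, hi⟩ : ∃ i, a ^ 2 ^ (0 + 1) = i := ⟨_, rfl⟩
  have hi' : a * a = i := by rw [← hi]; simp [sq]
  have iS : (i : G) ∈ (S : Subgroup G) := hi ▸ pow_mem h.haS _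
  have i2 : i ^ 2 = ⟨z, c1.2 rfl⟩ := by rw [← hi, ← pow_mul, ← pow_succ, az']
  have oz' : orderOf (⟨z, c1.2 rfl⟩ : Cen1 z) = 2 := (orderOf_coe _).symm.trans oz
  have bi : b * i * b⁻¹ = i⁻¹ := by
    have := h'.cj ((2 ^ (0 + 1) : ℕ) : ℤ)
    rwa [zpow_neg, zpow_natCast, hi, show ((2 ^ (0 + 1) : ℕ) : ℤ) = 2 * 2 ^ 0 by norm_num,
      h'.z_even, mul_one] at this
  have fs : φ b * φ a * (φ b)⁻¹ = (φ a)⁻¹ := by
    rw [← map_inv, ← map_mul, ← map_mul, h'.hab, az', map_mul, z1, mul_one, map_inv]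
  have oζ : orderOf (π i ^ 2) = 2 := orderOf_eq_prime (by
    rw [← map_pow, ← map_pow, i2, sq, ii oz', map_one]) fun e => ine oz' (q.inj zS (by
      rw [← i2, map_pow, e]))
  have eζ : π ⟨z, c1.2 rfl⟩ = π i ^ 2 := by rw [← map_pow, i2]
  have i0 : φ i * φ i = 1 := by rw [← sq, ← map_pow, i2, z1]
  have cen : ∀ x : Cen1 z, (x : G) ∈ (S : Subgroup G) → φ x ∈ Cen1 (φ i) := fun x hx => by
    have h1 : φ a ∈ Cen1 (φ i) := c1c.2 (hi ▸ (Commute.self_pow a _).map φ)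
    have h2 : φ b ∈ Cen1 (φ i) := c1'.2 (by
      rw [← map_inv, ← map_mul, ← map_mul, bi, map_inv, inv_eq_of_mul_eq_one_right i0])
    obtain ⟨j, rfl | rfl⟩ := h'.hmem x hx
    · exact map_zpow φ a j ▸ zpow_mem h1 j
    · exact map_mul φ _ b ▸ map_zpow φ a j ▸ mul_mem (zpow_mem h1 j) h2
  have nc : ¬ IsConj (φ i) (φ b) := fun e => by
    obtain ⟨g, e⟩ := isConj_iff.1 e
    obtain ⟨g, rfl⟩ := q.hρ g
    obtain ⟨j, e1⟩ : (π b)⁻¹ * (g * π i * g⁻¹) ∈ zpowers (π ⟨z, c1.2 rfl⟩) := by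
      rw [← q.kρ, MonoidHom.mem_ker]
      simp only [map_mul ρ, map_inv, fe, e, inv_mul_cancel]
    have e2 : g * π i * g⁻¹ = π b * π ⟨z, c1.2 rfl⟩ ^ j := by
      rw [show π ⟨z, c1.2 rfl⟩ ^ j = _ from e1, mul_inv_cancel_left]
    have e3 : (g * π i * g⁻¹) ^ 2 = π i ^ 2 := by
      rw [conj_pow, ← eζ, q.cen, mul_inv_cancel_right]
    rw [e2, ((show Commute _ _ from q.cen _).zpow_right j).mul_pow, sq, ← map_mul, h'.hb2, map_one,
      one_mul, ← zpow_natCast, ← zpow_mul, mul_comm, zpow_mul, zpow_natCast, eζ, sq (_ ^ 2), ii oζ,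
      one_zpow] at e3
    exact ine oζ e3.symm
  have bz : b ∉ zpowers (⟨z, c1.2 rfl⟩ : Cen1 z) := fun e =>
    h'.hb (zpowers_le.2 (az' ▸ npow_mem_zpowers a _) e)
  have oi : orderOf (φ i) = 2 := orderOf_eq_prime (by rwa [sq]) fun e => by
    rcases mem_zp2 (ii oz') ((q.ker iS).1 (fe i ▸ e)) with e | e
    · exact ine oz' (by rw [← i2, e, one_pow])
    · exact ine oz' (by rw [← i2, e, sq, ii oz'])
  have f4 : F4 (φ i) (φ b) := ⟨oi,
    orderOf_eq_prime (by rw [sq, ← map_mul, h'.hb2, map_one]) fun e =>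
      bz ((q.ker h.hbS).1 (fe b ▸ e)), (c1.1 (cen _ h.hbS)).symm, fun e => nc (e ▸ IsConj.refl _)⟩
  have abS := mul_mem h.haS h.hbS
  have nz : ∀ k : ℤ, φ (a ^ k * b) ≠ 1 := fun k e => h'.hb ((mul_mem_cancel_left
    (zpow_mem_zpowers a k)).1
    (zpowers_le.2 (az' ▸ npow_mem_zpowers a _) ((q.ker (mul_mem (zpow_mem h.haS k) h.hbS)).1
      (fe _ ▸ e))))
  have e1 : φ g0 * φ (a * b) * (φ g0)⁻¹ = φ i := by
    have : φ g0 * φ (a * b) * (φ g0)⁻¹ ∈ zpowers (φ i) :=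
      ⟨j0, by simp only []; rw [← map_zpow, ← hi', e0, map_mul, map_mul, map_inv]⟩
    exact (mem_zp2 i0 this).resolve_left fun e => nz 1 (by simpa using e)
  have f' : F4 (φ i) (φ (a * b)) := ⟨oi, by rw [← oconj (φ g0), e1, oi],
    (c1.1 (cen _ abS)).symm, fun e => nz (-1) (by
      rw [← hi', map_mul, map_mul, mul_right_inj] at e
      simp [e])⟩
  have : Group.IsSolvable Y := Group.isSolvable_of_surjective q.hs
  have hC := centralizer_pCore_le (p := 2) (isPSolvable_of_isSolvable this)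
    (core_central ρ q.hρ q.h0 q.cen q.kρ)
  have VT : pCore 2 Y ≤ q.T := (isPGroup_pCore 2 Y).le_sylow_of_normal _
  have TC : (q.T : Subgroup Y) ≤ Cen1 (φ i) := by
    rintro _ ⟨x, hx, rfl⟩; exact hφ ▸ cen x hx
  have VC : ∀ x ∈ pCore 2 Y, x ∈ Cen1 (φ (a * b)) := fun x hx => c1'.2 (by
    have := c1'.1 (TC (VT ((inferInstance : (pCore 2 Y).Normal).conj_mem x hx (φ g0))))
    rw [← e1] at this
    calc _ = (φ g0)⁻¹ * (φ g0 * x * (φ g0)⁻¹ * (φ g0 * φ (a * b) * (φ g0)⁻¹) *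
          (φ g0 * x * (φ g0)⁻¹)⁻¹) * φ g0 := by group
      _ = _ := by rw [this]; group)
  have eV : V4 (φ i) (φ (a * b)) = pCore 2 Y := le_antisymm
    (V_le (hC fun x hx => c1.1 (TC (VT hx))) (hC fun x hx => c1.1 (VC x hx))) fun x hx => by
      have na : φ a ∉ Cen1 (φ (a * b)) := fun e => ine oi (by
        have e := c1.1 e
        rw [map_mul, mul_assoc, mul_right_inj] at e
        rw [← e, mul_inv_cancel_right] at fs
        rw [← hi', map_mul, mul_eq_one_iff_eq_inv, ← fs])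
      have k : ∀ j : ℤ, φ a ^ j ∈ Cen1 (φ (a * b)) → φ a ^ j ∈ V4 (φ i) (φ (a * b)) := fun j e => by
        have k1 : ∀ l : ℤ, φ a ^ (2 * l) ∈ zpowers (φ i) := fun l =>
          ⟨l, by simp only [← hi', map_mul, zpow_mul, zpow_two]⟩
        obtain ⟨l, rfl | rfl⟩ := Int.even_or_odd' j
        · exact mem_sup_left (k1 l)
        · rw [zpow_add_one] at e
          exact absurd ((mul_mem_cancel_left (zpowers_le.2 (c1.2 f'.c) (k1 l))).1 e) na
      have h1 := VC x hx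
      obtain ⟨x, hx', rfl⟩ := VT hx
      rw [← hφ] at h1 ⊢
      obtain ⟨j, rfl | rfl⟩ := h'.hmem x hx'
      · rw [map_zpow] at h1 ⊢; exact k j h1
      · rw [show a ^ j * b = a ^ (j - 1) * (a * b) by group, map_mul φ (a ^ (j - 1)), map_zpow] at h1 ⊢
        exact mul_mem (k _ ((mul_mem_cancel_right (c1.2 rfl)).1 h1)) (a_V _ _)
  have hn : (V4 (φ i) (φ (a * b))).Normal := eV ▸ (inferInstance : (pCore 2 Y).Normal)
  rw [← eV] at hC
  have el : ∀ x ∈ V4 (φ i) (φ (a * b)), x * x = 1 := fun x hx => by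
    rcases f'.mem_V.1 hx with e | e | e | e <;> rw [e]
    exacts [mul_one _, ii f'.ht, ii f'.ha, f'.sq]
  obtain ⟨g, w, hw, w3, w2⟩ := s4 f'.card_V el hn hC f4 (t_V _ _) nc fun e => f'.ne (by
    have := c1'.1 (TC (((isSylowOf_top q.T).eq_of_le (e.to_subgroup ⊤) le_top le_rfl).le
      (mem_top (φ g0)⁻¹)))
    rw [← this, ← e1]; group)
  obtain ⟨g, rfl⟩ := q.hρ g
  obtain ⟨ψ, inj, e⟩ := gl23 (ρ := ρ) (i := π i) (b := π b) (g := g) (eζ ▸ q.kρ) (eζ ▸ q.cen) oζ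
    (by rw [← map_mul, h'.hb2, map_one]) (by rw [← map_inv, ← map_mul, ← map_mul, bi, map_inv])
    (by rw [hw, map_mul, map_mul, map_mul, map_inv, fe]) w3 (by rwa [fe])
  have bij : Function.Bijective ψ := (Nat.bijective_iff_injective_and_card _).2 ⟨inj, le_antisymm
    (Nat.card_le_card_of_injective _ inj) (by
      have h1 := Nat.le_of_dvd (by norm_num) (card_four f' hn hC)
      have h2 := ρ.ker.card_mul_index
      rw [index_ker, MonoidHom.range_eq_top.2 q.hρ, card_top, q.kρ, Nat.card_zpowers, eζ, oζ] at h2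
      rw [H9.card_GL23]
      omega)⟩
  let ε := (MulEquiv.ofBijective ψ bij).symm
  exact ⟨ε.toMonoidHom.comp π, ε.surjective.comp q.hπ, by rw [← q.kπ]; ext x; simp, by
    rw [MonoidHom.comp_apply, eζ, ← e]; exact (MulEquiv.ofBijective ψ bij).symm_apply_apply _⟩

end LN.D1
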