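import Cfsg.Agent.LN.Stmt
import Cfsg.Agent.LN.W2
import Cfsg.Agent.CK.I
import Cfsg.Agent.H9.Tools7

/-! The wreathed case: the centralizer of an involution. -/

set_option autoImplicit false
set_option linter.unusedSectionVars false

namespace LN

open Cfsg Subgroup FT H4 H5 GW CK

variable {G : Type*} [Group G] [Finite G]

theorem Hy.nor_ne (H : Hy G) {K : Subgroup G} (h0 : K ≠ ⊥) (h1 : K ≠ ⊤) : Nor K ≠ ⊤ := fun c =>
  have := H.sim
  ((normalizer_eq_top_iff.1 c).eq_bot_or_eq_top).elim h0 h1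

theorem Hy.c1_ne (H : Hy G) {x : G} (hx : x ≠ 1) : Cen1 x ≠ ⊤ := fun c => by
  have := H.sim
  rcases (center G).normal_of_characteristic.eq_bot_or_eq_top with e | e
  · exact hx (mem_bot.1 (e ▸ mem_center_iff.2 fun g => c1.1 (c.ge (mem_top g))))
  · exact H.hG ⟨⟨fun x y => mem_center_iff.1 (e.ge (mem_top y)) x⟩⟩

namespace W

variable {S : Sylow 2 G} {M : Subgroup G} {z v k a b s x : G}

section
variable (h : WR S z v k 0 a b s)
include h

theorem a2 : a * a = v := (sq a).symm.trans h.av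
theorem b2 : b * b = z * v := (sq b).symm.trans h.bv
theorem y2 : a * b * (a * b) = z := (sq _).symm.trans h.yz
theorem si : s⁻¹ = s := inv_eq_of_mul_eq_one_right h.ss

theorem card32 : 32 ∣ Nat.card S ∧ 16 ∣ Nat.card ((S : Subgroup G) ⊓ Cen1 v : Subgroup G) ∧
    ((S : Subgroup G) ⊓ Cen1 v).relIndex S = 2 := by
  have i2 : ((S : Subgroup G) ⊓ Cen1 v).relIndex S = 2 := relIndex_eq_two_iff.2 ⟨s, h.sS,
    fun x hx => by
      by_cases e : x ∈ Cen1 v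
      · exact Or.inr ⟨⟨hx, e⟩, fun m => h.s1 (by simpa using mul_mem (inv_mem e) m.2)⟩
      · exact Or.inl ⟨h.out hx e h.sS h.s1, fun m => e m.2⟩⟩
  have ob : orderOf b = 4 := by rw [← h.sa, oconj, h.oa]; rfl
  have c : 16 ≤ Nat.card ((S : Subgroup G) ⊓ Cen1 v : Subgroup G) := by
    refine le_trans (by simp) (Nat.card_le_card_of_injective (fun p : Fin 4 × Fin 4 =>
      (⟨a ^ p.1.1 * b ^ p.2.1, mul_mem (pow_mem h.aT _) (pow_mem h.bT _)⟩ :
        ((S : Subgroup G) ⊓ Cen1 v : Subgroup G))) fun p q e => ?_)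
    replace e : a ^ p.1.1 * b ^ p.2.1 = a ^ q.1.1 * b ^ q.2.1 := congrArg Subtype.val e
    have e1 := h.ind (-(q.1.1 : ℤ) + p.1.1) (q.2.1 - p.2.1) (by
      rw [zpow_add, zpow_sub, zpow_neg, zpow_natCast, zpow_natCast, zpow_natCast, zpow_natCast,
        inv_mul_eq_iff_eq_mul, ← mul_assoc, ← e, mul_inv_cancel_right])
    rw [zpow_add, zpow_neg, zpow_natCast, zpow_natCast, inv_mul_eq_one] at e1
    rw [e1, mul_right_inj] at e
    exact Prod.ext (Fin.ext (pow_injOn_Iio_orderOf (by rw [h.oa]; exact p.1.2)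
      (by rw [h.oa]; exact q.1.2) e1.symm))
      (Fin.ext (pow_injOn_Iio_orderOf (by rw [ob]; exact p.2.2) (by rw [ob]; exact q.2.2) e))
  obtain ⟨n, hn⟩ := (S.2.to_inf_left (K := Cen1 v)).exists_card_eq
  have d : 16 ∣ Nat.card ((S : Subgroup G) ⊓ Cen1 v : Subgroup G) := by
    rw [hn] at c ⊢
    exact pow_dvd_pow 2 ((Nat.pow_le_pow_iff_right (by norm_num)).1 (show 2 ^ 4 ≤ _ from c))
  refine ⟨?_, d, i2⟩
  rw [← card_mul_relIndex (inf_le_left (b := Cen1 v)), i2]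
  exact Nat.mul_dvd_mul_right d 2

theorem mV (hx : x ∈ (S : Subgroup G)) (hv : x ∈ Cen1 v) (xx : x * x = 1) :
    x = 1 ∨ x = z ∨ x = v ∨ x = z * v := h.f4.mem_V.1 ((h.t3.mem x).2 ⟨⟨hx, hv⟩, xx⟩)

theorem kzv : k * (z * v) * k⁻¹ = z := by rw [← conj_mul, h.kz, h.kv, h.f4.ata]

theorem cjV (hx : x ∈ (S : Subgroup G)) (hv : x ∈ Cen1 v) (xx : x * x = 1) (x1 : x ≠ 1) :
    IsConj z x := by
  rcases mV h hx hv xx with rfl | rfl | rfl | rfl
  exacts [absurd rfl x1, IsConj.refl _, isConj_iff.2 ⟨k, h.kz⟩,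
    (isConj_iff.2 ⟨k, kzv h⟩ : IsConj _ z).symm]

theorem nV (hx : x ∈ Cen1 z) (e : x * v * x⁻¹ = v ∨ x * v * x⁻¹ = z * v) : x ∈ Nor (V4 z v) :=
  mem_normalizer_iff_conjS.2 (by
    rw [conj_V, c1'.1 hx]
    rcases e with e | e <;> rw [e]
    exact h.f4.V_mul)

theorem inv' (hx : x ∈ (S : Subgroup G)) (x1 : x ∉ Cen1 v) (xx : x * x = 1) :
    ∃ i : ℤ, a ^ i * s * (a ^ i)⁻¹ = x := by
  obtain ⟨t, ht, e⟩ := h.inv hx x1 xx
  have k : ∀ t ∈ (S : Subgroup G) ⊓ Cen1 v, ∃ i : ℤ, a ^ i * s * (a ^ i)⁻¹ = t * s * t⁻¹ :=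
    fun t ht => by
      obtain ⟨i, j, rfl⟩ := h.mem t ht
      refine ⟨i - j, ?_⟩
      have := c1'.1 (c1s.1 (h.yc (zpow_mem (mem_zpowers _) j) h.sS))
      rw [h.cab.mul_zpow] at this
      conv_lhs => rw [← this]
      group
  by_cases m : t ∈ Cen1 v
  · exact e ▸ k t ⟨ht, m⟩
  · obtain ⟨i, e1⟩ := k _ (h.out ht m h.sS h.s1)
    exact ⟨i, e1.trans (e ▸ by group)⟩

theorem cenS (hx : x ∈ (S : Subgroup G) ⊓ Cen1 v) (c : x ∈ Cen1 s) : x ∈ zpowers (a * b) := by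
  obtain ⟨i, j, rfl⟩ := h.mem x hx
  have e := c1'.1 (c1s.1 c)
  rw [← conj_mul, ← conj_zpow, ← conj_zpow, h.sa, h.sb, ← (h.cab.zpow_zpow j i).eq] at e
  have := h.ind (-j + i) (i - j) (by
    rw [zpow_add, zpow_sub, zpow_neg, inv_mul_eq_iff_eq_mul, ← mul_assoc, e, mul_inv_cancel_right])
  rw [zpow_add, zpow_neg, inv_mul_eq_one] at this
  exact ⟨j, by simp only [h.cab.mul_zpow, this]⟩

variable (H : Hy G)
include H

theorem ex_g : ∃ g ∈ Cen1 (a * b), g * s * g⁻¹ = v := by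
  have := H.sim
  have : Group.IsPerfect G := H9.isPerfect_of_simple fun c => H.hG ⟨⟨c⟩⟩
  have s1 : s ≠ 1 := fun e => h.s1 (e ▸ one_mem _)
  obtain ⟨g, hg⟩ := H9.thompson_transfer ((S : Subgroup G) ⊓ Cen1 v) (by
    rw [← relIndex_mul_index (inf_le_left (b := Cen1 v)), (card32 h).2.2]
    have := S.not_dvd_index
    omega) s (by rw [sq, h.ss])
  obtain ⟨g, e⟩ := isConj_iff.1 ((cjV h hg.1 hg.2 (by
    rw [show g⁻¹ * s * g * (g⁻¹ * s * g) = g⁻¹ * (s * s) * g by group, h.ss]; group)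
    fun e => s1 ((by group : s = g * (g⁻¹ * s * g) * g⁻¹).trans (by rw [e]; group))).trans
      (isConj_iff.2 ⟨g, by group⟩ : IsConj _ s))
  obtain ⟨n, -, e1, le⟩ := ext_conj h.cz (K := ⊤) (A := (S : Subgroup G) ⊓ Cen1 s) le_top
    (mem_top g) S.2.to_inf_left le_top (e ▸ inf_le_right)
  rw [e] at e1
  have yS := le (conj_mem_conjS ⟨(h.yT (mem_zpowers _)).1, c1s.1 (h.yc (mem_zpowers _) h.sS)⟩)
  have zT := h.sqT yS
  have yz : n * (a * b) * n⁻¹ ∈ Cen1 (n * z * n⁻¹) := by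
    rw [← conj_c1]; exact conj_mem_conjS (h.cz (h.yT (mem_zpowers _)).1)
  rw [conj_mul, y2 h] at zT
  have kT : ∀ j ∈ Nor ((S : Subgroup G) ⊓ Cen1 v : Subgroup G), j * (n * z * n⁻¹) * j⁻¹ = z →
      n * (a * b) * n⁻¹ ∈ Cen1 v → j * n ∈ Cen1 (a * b) := fun j hj e2 m =>
    c1'.2 (h.wc1 (mem_zpowers _) (c1'.2 ((by group : _ = j * (n * z * n⁻¹) * j⁻¹).trans e2)) (by
      have := cmem hj ⟨yS, m⟩
      rwa [show j * (n * (a * b) * n⁻¹) * j⁻¹ = j * n * (a * b) * (j * n)⁻¹ by group] at this))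
  rcases mV h zT.1 zT.2 (ii (iconj h.f4.ht n)) with e2 | e2 | e2 | e2
  · exact absurd e2 (ine (iconj h.f4.ht n))
  · refine absurd (?_ : s ∈ Cen1 v) h.s1
    rw [show s = z by simpa using e1.trans e2.symm]; exact h.f4.tH
  · refine ⟨s * (k⁻¹ * n), mul_mem (h.yc (mem_zpowers _) h.sS) (kT _ (inv_mem h.t3.nor)
      (by rw [e2, ← h.kz]; group) (e2 ▸ yz)), ?_⟩
    calc _ = s * (k⁻¹ * (n * s * n⁻¹) * k) * s⁻¹ := by group
      _ = s * (z * v) * s⁻¹ := by rw [e1]; conv_lhs => rw [← kzv h]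
                                  group
      _ = v := h.sz
  · exact ⟨k * n, kT _ h.t3.nor (by rw [e2, kzv h]) (h.f4.cen_a (h.cz yS) (e2 ▸ yz)),
      (by group : _ = k * (n * s * n⁻¹) * k⁻¹).trans (by rw [e1, h.kz])⟩

theorem ht6 (l : (S : Subgroup G) < M) : Ht M 6 :=
  (ht_pow Nat.prime_two S.2 (n := 5) (card32 h).1).succ l

theorem maxC (l : (S : Subgroup G) ≤ M) (hx : x ∈ M) (xS : x ∉ (S : Subgroup G))
    (le : M ≤ Cen1 z) : Cen1 z = M :=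
  H.l7.max (ht6 h H (lt_of_le_of_ne l fun e => xS (e ▸ hx))) le (H.c1_ne (ine h.f4.ht))

omit H in
theorem nS (e : x * v * x⁻¹ ∉ Cen1 v) : x ∉ (S : Subgroup G) := fun m => e (by
  rcases h.two x m with e | e <;> rw [e]
  exacts [c1.2 rfl, mul_mem h.f4.tH (c1.2 rfl)])

theorem cy : Cen1 z ≤ Cen1 (a * b) := by
  obtain ⟨g, hg, e⟩ := ex_g h H
  refine (maxC h H (h.yc (mem_zpowers _)) (inv_mem hg) (nS h ?_) fun x hx => ?_).le
  · rw [show g⁻¹ * v * g⁻¹⁻¹ = s by rw [← e]; group]; exact h.s1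
  · exact c1s.1 (y2 h ▸ mul_mem (c1s.1 hx) (c1s.1 hx))

theorem yC : Cen1 (a * b) ≤ Cen1 z := fun x hx =>
  c1s.1 (y2 h ▸ mul_mem (c1s.1 hx) (c1s.1 hx))

theorem norV (hx : x ∈ Cen1 z) (hn : x ∈ Nor (V4 z v)) : x ∈ (S : Subgroup G) := by
  by_contra xS
  obtain ⟨g, hg, e⟩ := ex_g h H
  have := (maxC h H (M := Cen1 z ⊓ Nor (V4 z v)) (fun y hy => ⟨h.cz hy, nV h (h.cz hy)
    (h.two y hy)⟩) ⟨hx, hn⟩ xS inf_le_left).le (inv_mem (yC h H hg))
  have := cmem this.2 (a_V z v)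
  rw [show g⁻¹ * v * g⁻¹⁻¹ = s by rw [← e]; group] at this
  exact h.s1 ((V_le h.f4.tH (c1.2 rfl) : V4 z v ≤ Cen1 v) this)

theorem cT (hx : x ∈ Cen1 z) (hv : x ∈ Cen1 v) : x ∈ (S : Subgroup G) ⊓ Cen1 v :=
  ⟨norV h H hx (nV h hx (Or.inl (c1'.1 hv))), hv⟩

theorem ex_k : ∃ k, WR S z v k 0 a b s ∧ k * k * k = 1 ∧ k * s * (k * s) = 1 := by
  have := Fintype.ofFinite G
  have sz := c1'.1 (h.cz h.sS)
  have cj : ∀ x y, s * (k * (s * x * s⁻¹) * k⁻¹) * s⁻¹ = y →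
      s * (k * s * k⁻¹) * (k * x * k⁻¹) * (s * (k * s * k⁻¹))⁻¹ = y := fun x y e => e ▸ by group
  have e1 := cj (z * v) v (by rw [h.sz, h.kv, h.sz])
  have e2 := cj z (z * v) (by rw [sz, h.kz, h.sv])
  have e3 := cj v z (by rw [h.sv, kzv h, sz])
  rw [kzv h] at e1
  rw [h.kz] at e2
  rw [h.kv] at e3
  have sN : s ∈ Nor ((S : Subgroup G) ⊓ Cen1 v : Subgroup G) := mnor fun x hx =>
    ⟨cmem (le_normalizer h.sS) hx.1, h.f4.cen_a (h.cz (cmem (le_normalizer h.sS) hx.1)) (by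
      rw [← h.sv, ← conj_c1]; exact conj_mem_conjS hx.2)⟩
  have t3 : Ly.T3 ((S : Subgroup G) ⊓ Cen1 v) (V4 z v) (s * (k * s * k⁻¹)) :=
    { h.t3 with
      nor := mul_mem sN (mul_mem (mul_mem h.t3.nor sN) (inv_mem h.t3.nor))
      fpf := fun x hx e => by
        rcases h.f4.mem_V.1 hx with rfl | rfl | rfl | rfl
        · rfl
        · exact absurd (e1.symm.trans e) h.f4.ne
        · exact absurd (by simpa using e2.symm.trans e) (ine h.f4.ht)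
        · exact absurd (by simpa using e3.symm.trans e) (ine h.f4.ha) }
  refine ⟨_, { h with t3 := t3, kz := e1 }, ?_, ?_⟩
  · have := t3.cube
    rw [cen_V] at this
    rw [← pow_three']
    exact t3.fpf' (cT h H this.1 this.2)
      (mul_inv_eq_iff_eq_mul.2 (Commute.self_pow _ 3).eq)
  · calc _ = s * (k * s * (k⁻¹ * (s * s) * k) * s * k⁻¹) * s := by group
      _ = 1 := by rw [h.ss]; simp [mul_assoc, h.ss]

end

/-- normalized generators -/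
structure WX (S : Sylow 2 G) (z v k a b s d : G) : Prop extends WR S z v k 0 a b s where
  k3 : k * k * k = 1
  ks : k * s * (k * s) = 1
  ka : k * a * k⁻¹ = b
  kb : k * b * k⁻¹ = (a * b)⁻¹
  dC : d ∈ Cen1 z
  ds : d * d = s
  dv : d * v * d⁻¹ = a⁻¹ * s * a
  br : a * d * a = d * a * d

theorem ex_a (h : WR S z v k 0 a b s) (k3 : k * k * k = 1) (ks : k * s * (k * s) = 1) :
    ∃ a b, WR S z v k 0 a b s ∧ k * a * k⁻¹ = b ∧ k * b * k⁻¹ = (a * b)⁻¹ := by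
  have := Fintype.ofFinite G
  have yT := h.yT (mem_zpowers _)
  have y2 := y2 h
  have sy := c1'.1 (h.yc (mem_zpowers _) h.sS)
  have mem := h.mem
  have aT := h.aT
  have ey : s * a * s⁻¹ = a⁻¹ * (a * b) := by rw [h.sa]; group
  rw [show b = a⁻¹ * (a * b) by group] at mem
  generalize a * b = y at yT y2 sy mem ey
  have T1 := cmem h.t3.nor yT
  have T2 := cmem h.t3.nor T1
  have cm : ∀ {x w}, x ∈ (S : Subgroup G) ⊓ Cen1 v → w ∈ (S : Subgroup G) ⊓ Cen1 v →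
      Commute x w := fun hx hw => cen.1 (h.ab hx) _ hw
  have ki : k⁻¹ = k * k := inv_eq_of_mul_eq_one_left k3
  have sk : s * k * s⁻¹ = k * k := by
    rw [← ki, si h, eq_inv_iff_mul_eq_one]
    calc _ = k⁻¹ * (k * s * (k * s)) * k := by group
      _ = 1 := by rw [ks]; group
  have k3y : k * (k * (k * y * k⁻¹) * k⁻¹) * k⁻¹ = y := by
    refine (by simp [mul_assoc] : _ = k * k * k * y * (k * k * k)⁻¹).trans ?_
    rw [k3]; group
  have e0 : y * (k * y * k⁻¹) * (k * (k * y * k⁻¹) * k⁻¹) = 1 :=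
    h.t3.fpf' (mul_mem (mul_mem yT T1) T2) (by
      rw [← conj_mul, ← conj_mul, k3y, ← (cm yT (mul_mem T1 T2)).eq, mul_assoc y])
  have sa : s * (k * y * k⁻¹)⁻¹ * s⁻¹ = (k * (k * y * k⁻¹) * k⁻¹)⁻¹ := by
    refine (by group : _ = (s * k * s⁻¹ * (s * y * s⁻¹) * (s * k * s⁻¹)⁻¹)⁻¹).trans ?_
    rw [sk, sy]; simp [mul_assoc]
  have ab : (k * y * k⁻¹)⁻¹ * (k * (k * y * k⁻¹) * k⁻¹)⁻¹ = y := by
    rw [← mul_inv_rev, ← (cm T1 T2).eq, inv_eq_iff_mul_eq_one, ← e0, ← (cm yT (mul_mem T1 T2)).eq,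
      mul_assoc y]
  have av : (k * y * k⁻¹)⁻¹ * (k * y * k⁻¹)⁻¹ = v := by
    rw [← mul_inv_rev, conj_mul, y2, h.kz, iinv h.f4.ha]
  have ka : k * (k * y * k⁻¹)⁻¹ * k⁻¹ = (k * (k * y * k⁻¹) * k⁻¹)⁻¹ := by simp [mul_assoc]
  have kb : k * (k * (k * y * k⁻¹) * k⁻¹)⁻¹ * k⁻¹ = y⁻¹ := by
    conv_rhs => rw [← k3y]
    simp [mul_assoc]
  replace T1 := inv_mem T1
  replace T2 := inv_mem T2
  generalize (k * (k * y * k⁻¹) * k⁻¹)⁻¹ = b' at *
  generalize (k * y * k⁻¹)⁻¹ = a' at *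
  have bv : b' * b' = z * v := by rw [← sa, conj_mul, av, h.sv]
  have a4 : a' ^ 2 ^ 2 = 1 := by
    rw [show a' ^ 2 ^ 2 = a' * a' * (a' * a') by simp [pow_succ, mul_assoc], av, ii h.f4.ha]
  refine ⟨a', b', { h with
    aS := T1.1
    oa := orderOf_eq_prime_pow (p := 2) (n := 1) (fun e => ine h.f4.ha (by rw [← av, ← e]; simp [sq]))
      a4
    av := (sq a').trans av
    sa := sa
    ind := fun i j e => by
      by_contra n
      obtain ⟨t, o, ht⟩ := H9.exists_inv_mem_zpowers (g := a' ^ i) (by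
        obtain ⟨m, -, hm⟩ := (Nat.dvd_prime_pow Nat.prime_two).1
          (orderOf_dvd_of_pow_eq_one (show (a' ^ i) ^ 2 ^ 2 = 1 by
            rw [← zpow_natCast, ← zpow_mul, mul_comm, zpow_mul, zpow_natCast, a4, one_zpow]))
        cases m with
        | zero => exact absurd (orderOf_eq_one_iff.1 hm) n
        | succ m => rw [hm]; exact Dvd.intro_left _ rfl)
      have e1 := inv_uniq (zpowers_le.2 (zpow_mem (mem_zpowers a') i) ht)
        (av ▸ mul_mem (mem_zpowers a') (mem_zpowers a')) o h.f4.ha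
      have e2 := inv_uniq (zpowers_le.2 (zpow_mem (mem_zpowers b') j) (e ▸ ht))
        (bv ▸ mul_mem (mem_zpowers b') (mem_zpowers b')) o h.f4.hta
      exact ine h.f4.ht (by simpa using e2.symm.trans e1)
    mem := fun x hx => by
      let P : Subgroup G :=
        { carrier := {x | ∃ i j : ℤ, x = a' ^ i * b' ^ j}
          one_mem' := ⟨0, 0, by simp⟩
          mul_mem' := by
            rintro _ _ ⟨i, j, rfl⟩ ⟨i', j', rfl⟩
            exact ⟨i + i', j + j', by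
              rw [zpow_add, zpow_add, ((cm T1 T2).symm.zpow_zpow j i').mul_mul_mul_comm]⟩
          inv_mem' := by
            rintro _ ⟨i, j, rfl⟩
            exact ⟨-i, -j, by rw [((cm T1 T2).zpow_zpow i j).eq]; group⟩ }
      have aP : a' ∈ P := ⟨1, 0, by simp⟩
      have bP : b' ∈ P := ⟨0, 1, by simp⟩
      have yP : y ∈ P := ab ▸ mul_mem aP bP
      have : a'⁻¹ * a ∈ P := (V_le (y2 ▸ mul_mem yP yP) (av ▸ mul_mem aP aP) : V4 z v ≤ P)
        ((h.t3.mem _).2 ⟨mul_mem (inv_mem T1) aT, by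
          rw [(cm aT (inv_mem T1)).mul_mul_mul_comm, ← mul_inv_rev, av, a2 h, inv_mul_cancel]⟩)
      have aP' : a ∈ P := by simpa using mul_mem aP this
      obtain ⟨i, j, rfl⟩ := mem x hx
      exact mul_mem (zpow_mem aP' i) (zpow_mem (mul_mem (inv_mem aP') yP) j) }, ka, ab ▸ kb⟩

theorem vs (h : WR S z v k 0 a b s) : v * s * v⁻¹ = z * s := by
  rw [iinv h.f4.ha, mul_assoc, show s * v = z * v * s by rw [← h.sv]; group, ← mul_assoc,
    h.f4.ata]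

theorem asa (h : WR S z v k 0 a b s) : a * s * a⁻¹ = v * (a * b)⁻¹ * s := by
  rw [← a2 h, h.cab.eq, ← h.sa]; group

theorem svy (h : WR S z v k 0 a b s) : s * (a * b)⁻¹ * v = a⁻¹ * s * a := by
  rw [← a2 h]
  exact (by group : _ = (s * b * s⁻¹)⁻¹ * s * a).trans (by rw [h.sb])

theorem ex_wx (h : WR S z v k 0 a b s) (H : Hy G) : ∃ k a b d, WX S z v k a b s d := by
  obtain ⟨k, h, k3, ks⟩ := ex_k h H
  obtain ⟨a, b, h, ka, kb⟩ := ex_a h k3 ks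
  obtain ⟨g, hg, e⟩ := ex_g h H
  have gz := yC h H hg
  have wz : g * v * g⁻¹ ∈ Cen1 z := mul_mem (mul_mem gz h.f4.aH) (inv_mem gz)
  have wv : g * v * g⁻¹ * v * (g * v * g⁻¹)⁻¹ = z * v := by
    calc _ = g * (v * (g⁻¹ * v * g) * v⁻¹) * g⁻¹ := by group
      _ = _ := by
        rw [show g⁻¹ * v * g = s by rw [← e]; group, vs h, ← conj_mul, c1'.1 gz, e]
  obtain ⟨i, e1⟩ := inv' h (norV h H wz (nV h wz (Or.inr wv))) (fun m => ine h.f4.ht (by
    simpa using wv.symm.trans (c1'.1 m))) (ii (iconj h.f4.ha g))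
  have av := c1'.1 ((Cen1 v).zpow_mem h.aT.2 i)
  have cz : g⁻¹ * a ^ i ∈ Cen1 z := mul_mem (inv_mem gz) (zpow_mem (h.cz h.aS) i)
  have cv : g⁻¹ * a ^ i * v * (g⁻¹ * a ^ i)⁻¹ = s := by
    refine (by group : _ = g⁻¹ * (a ^ i * v * (a ^ i)⁻¹) * g).trans ?_
    rw [av, ← e]; group
  have cs : g⁻¹ * a ^ i * s * (g⁻¹ * a ^ i)⁻¹ = v := by
    refine (by group : _ = g⁻¹ * (a ^ i * s * (a ^ i)⁻¹) * g).trans ?_
    rw [e1]; group
  generalize g⁻¹ * a ^ i = c at cz cv cs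
  have dv : c * a * c⁻¹ * v * (c * a * c⁻¹)⁻¹ = a⁻¹ * s * a := by
    refine (by group : _ = c * (a * (c⁻¹ * v * c) * a⁻¹) * c⁻¹).trans ?_
    rw [show c⁻¹ * v * c = s by rw [← cs]; group, asa h, ← conj_mul, ← conj_mul, cv, cs, ← conj_inv,
      c1'.1 (cy h H cz), svy h]
  have aC := h.cz h.aS
  have dC : c * a * c⁻¹ ∈ Cen1 z := mul_mem (mul_mem cz aC) (inv_mem cz)
  refine ⟨k, a, b, c * a * c⁻¹, h, k3, ks, ka, kb, dC, by rw [conj_mul, a2 h, cv], dv, ?_⟩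
  have := cen.1 (h.ab (cT h H (x := c⁻¹ * (a * (c * a * c⁻¹) * a))
    (mul_mem (inv_mem cz) (mul_mem (mul_mem aC dC) aC)) (c1'.2 (by
      refine (by group : _ = c⁻¹ * (a * (c * a * c⁻¹ * (a * v * a⁻¹) * (c * a * c⁻¹)⁻¹) * a⁻¹) *
        c).trans ?_
      rw [c1'.1 h.aT.2, dv, ← cv]
      group)))) a h.aT
  calc _ = c * (c⁻¹ * (a * (c * a * c⁻¹) * a) * a) * a⁻¹ := by group
    _ = _ := by rw [this]; group

end W

end LN
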