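import Cfsg.Agent.LN.D1a
import Cfsg.Agent.LN.W3
import Cfsg.Agent.Z6.L3
import Cfsg.Agent.H2.M11b
import Cfsg.Agent.H8.Char4

/-! Semidihedral Sylow subgroup of order sixteen, solvable centralizer. -/

set_option autoImplicit false
set_option linter.unusedVariables false
set_option linter.unusedSectionVars false

namespace LN

universe u

namespace D1

open Cfsg Subgroup FT H4 H5 GW CK
open ArithmeticFunction (cardFactors_mul cardFactors_apply cardFactors_eq_zero_iff_eq_zero_or_one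
  cardFactors_eq_one_iff_prime)
open H8 (GL23 SL33)
open H9 (glI glU)
open scoped ArithmeticFunction.Omega Matrix

variable {G : Type u} [Group G] [Finite G] {S : Sylow 2 G} {z a b : G} {m : ℕ}

theorem cjb (h : SDS S m a b) {x : G} (ox : orderOf x = 2) :
    IsConj (a ^ 2 ^ (m + 2)) x ∨ IsConj b x := by
  obtain ⟨c, -, e⟩ := (isSylowOf_top S).exists_conj_le (two_zp ox) le_top
  have e := e (conj_mem_conjS (mem_zpowers x))
  have k : IsConj (c * x * c⁻¹) x := (isConj_iff.2 ⟨c, rfl⟩).symm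
  by_cases e1 : c * x * c⁻¹ = a ^ 2 ^ (m + 2)
  · exact Or.inl (e1 ▸ k)
  · exact Or.inr ((h.inv e (iconj ox c) e1).trans k)

theorem cjc (h : SDS S m a b) (az : a ^ 2 ^ (m + 2) = z) {x y : G} (hx : x ∈ Cen1 z)
    (hy : y ∈ Cen1 z) (ox : orderOf x = 2) (oy : orderOf y = 2) (xz : x ≠ z) (yz : y ≠ z) :
    ∃ c ∈ Cen1 z, c * x * c⁻¹ = y := by
  have cz : (S : Subgroup G) ≤ Cen1 z := fun x hx => az ▸ h.cen hx
  have k : ∀ x, ∀ hx : x ∈ Cen1 z, orderOf x = 2 → x ≠ z →
      IsConj (⟨b, cz h.hbS⟩ : Cen1 z) ⟨x, hx⟩ := fun x hx ox xz =>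
    (cjb (sub h cz) ((orderOf_coe _).symm.trans ox)).resolve_left fun e => by
      obtain ⟨c, e⟩ := isConj_iff.1 e
      have e := congrArg Subtype.val e
      simp only [coe_mul, coe_inv, SubmonoidClass.coe_pow, az, c1'.1 c.2] at e
      exact xz e.symm
  obtain ⟨c, e⟩ := isConj_iff.1 ((k x hx ox xz).symm.trans (k y hy oy yz))
  exact ⟨c, c.2, congrArg Subtype.val e⟩

theorem one (H : Hy G) (h : SDS S m a b) (az : a ^ 2 ^ (m + 2) = z) {x : G} (ox : orderOf x = 2) :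
    IsConj z x := by
  have := H.sim
  have oz : orderOf z = 2 := az ▸ h.oz
  obtain ⟨g, g1, g2⟩ : ∃ g, Commute z (g * z * g⁻¹) ∧ g * z * g⁻¹ ≠ z := by
    by_contra! c
    exact H.c1_ne (ine oz) (eq_top_iff.2 fun g _ => c1.2 (H3.commute_of_isolated
      (H5.Dich.oddCore_eq_bot_of_simple (G := G) (oz ▸ orderOf_dvd_natCard z)) oz c g))
  refine (cjb h ox).elim (az ▸ id) fun e => IsConj.trans ?_ e
  obtain ⟨c, -, e⟩ := cjc h az (y := b) (c1.2 g1.eq.symm) (az ▸ h.cen h.hbS) (iconj oz g)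
    (orderOf_eq_prime (by rw [sq, h.hb2]) fun e => h.hb (e ▸ one_mem _)) g2
    fun e => h.hb (e ▸ az ▸ npow_mem_zpowers a _)
  exact isConj_iff.2 ⟨c * g, by rw [← e]; group⟩

set_option synthInstance.maxSize 1000 in
theorem x1 : ∀ p q, Z6.wd q * Z6.wd q = 1 → Z6.wd p ^ 3 = 1 → Z6.wd p * Z6.wd q = Z6.wd q * Z6.wd p →
    Z6.wd p = 1 ∨ Z6.wd q = 1 ∨ Z6.wd q = glI ^ 2 := by decide +kernel

theorem x2 : ∀ p, Z6.wd p * glU = glU * Z6.wd p →
    ∃ (i : Fin 3) (j : Fin 2), Z6.wd p = glU ^ i.1 * (glI ^ 2) ^ j.1 := by decide +kernel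

theorem core (H : Hy G) (h : SDS S 0 a b) (az : a ^ 2 ^ (0 + 2) = z)
    (hs : Group.IsSolvable (Cen1 z)) {π : Cen1 z →* GL23} (hπ : Function.Surjective π)
    (hk : π.ker = pPrimeCore 2 (Cen1 z)) (hz : π ⟨z, c1.2 rfl⟩ = glI ^ 2) : Uo z = ⊥ := by
  by_contra h0
  have := H.sim
  have cz : (S : Subgroup G) ≤ Cen1 z := fun x hx => az ▸ h.cen hx
  have oz : orderOf z = 2 := az ▸ h.oz
  have cO : Nat.card π.ker = Nat.card (Uo z) := by
    rw [hk]; exact (card_map_of_injective (Cen1 z).subtype_injective).symm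
  have odd : Odd (Nat.card π.ker) := cO ▸ odd_Oo _
  have hp : (Nat.card (Uo z)).Prime := by
    have h1 := π.ker.card_mul_index
    rw [index_ker, MonoidHom.range_eq_top.2 hπ, card_top, H9.card_GL23, cO] at h1
    have h2 := H.l7.omega (H.c1_ne (ine oz)) hs h1.dvd
    rw [cardFactors_mul Nat.card_pos.ne' (by norm_num), show Ω 48 = 5 by
      simp [cardFactors_apply, Nat.primeFactorsList_ofNat]] at h2
    have h3 : Ω (Nat.card (Uo z)) ≠ 0 := fun e =>
      (cardFactors_eq_zero_iff_eq_zero_or_one.1 e).elim Nat.card_pos.ne' fun e => h0 (card_eq_one.1 e)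
    exact cardFactors_eq_one_iff_prime.1 (by omega)
  have := Fintype.ofFinite G
  have := Fintype.ofFinite GL23
  obtain ⟨χ, hχ, χ1, d⟩ := small1 H.hG (π := π) ⟨oz, hπ, odd, hz⟩
  suffices ∀ t ∈ (S : Subgroup G), orderOf t = 2 → Uo z ⊓ Cen1 t ≤ Uo t by
    obtain ⟨-, -, -, d', -, le⟩ := free H.hG S.2 (odd_Oo _) (cz.trans (nUo z)) h0 this hχ χ1
    obtain ⟨c, hc⟩ := card_dvd_of_le (zpowers_le.2 h.haS)
    have c0 : c ≠ 0 := fun e => Nat.card_pos.ne' (by rw [hc, e, mul_zero])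
    have c1 : c ≠ 1 := fun e => h.hb ((eq_of_le_of_card_ge (zpowers_le.2 h.haS)
      (by rw [hc, e, mul_one])).ge h.hbS)
    rw [Nat.card_zpowers, h.ha] at hc
    omega
  intro t ht o
  by_cases tz : t = z
  · exact tz ▸ inf_le_left
  rcases hp.eq_one_or_self_of_dvd _ (card_dvd_of_le (inf_le_left (b := Cen1 t))) with e | e
  · rw [card_eq_one.1 e]; exact bot_le
  have h1 : Uo z ≤ Cen1 t := (eq_of_le_of_card_ge inf_le_left e.ge).ge.trans inf_le_right
  obtain ⟨g, rfl⟩ := isConj_iff.1 (one H h az o)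
  obtain ⟨c, hc, e1⟩ := cjc h az (cz ht) (y := g⁻¹ * z * g) (c1.2 (by
    calc _ = g⁻¹ * (z * (g * z * g⁻¹)) * g := by group
      _ = _ := by rw [← c1.1 (cz ht)]; group)) o (by simpa using iconj oz g⁻¹) tz
    fun e => tz (by nth_rewrite 1 [← e]; group)
  refine inf_le_left.trans (eq_of_le_of_card_ge (fun y hy => ?_) (by rw [← conj_Uo, card_conjS])).ge
  have y1 : y ∈ Cen1 z := by
    rw [← conj_Uo, mem_conjS] at hy
    have := c1.1 (h1 (cmem' (nUo z hc) hy))
    refine c1.2 ?_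
    rw [show g * z * g⁻¹ = c⁻¹ * (g⁻¹ * z * g) * c by rw [← e1]; group] at this
    simp only [mul_assoc, mul_right_inj, mul_inv_cancel_left] at this
    exact mul_right_cancel (b := g * c) (by simpa only [mul_assoc] using this)
  obtain ⟨p, hp⟩ := Z6.wd_surj (π ⟨y, y1⟩)
  obtain ⟨q, hq⟩ := Z6.wd_surj (π ⟨_, cz ht⟩)
  have inj : ∀ x : Cen1 z, x * x = 1 → π x = 1 → x = 1 := fun x e hx =>
    orderOf_eq_one_iff.1 (Nat.Coprime.eq_one_of_dvd (odd_iff_cop.1 (odd_ord odd hx))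
      (orderOf_dvd_of_pow_eq_one (by rwa [sq])))
  rcases x1 p q (by rw [hq, ← map_mul, ← map_one π]; exact congrArg π (Subtype.ext (ii o)))
    (by
      rw [hp, ← Z6.reg_iff]
      exact (odd_iff_cop.1 (odd_ord (odd_Oo _) hy)).coprime_dvd_left
        ((orderOf_map_dvd π _).trans (orderOf_coe _).symm.dvd))
    (by rw [hp, hq, ← map_mul, ← map_mul]; exact congrArg π (Subtype.ext (c1.1 (Uo_le _ hy))))
    with e | e | e
  · exact ⟨⟨y, y1⟩, hk ▸ (hp ▸ e : π _ = 1), rfl⟩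
  · exact absurd (congrArg Subtype.val (inj _ (Subtype.ext (ii o)) (hq ▸ e))) (ine o)
  · refine absurd (mul_inv_eq_one.1 (congrArg Subtype.val (inj (⟨_, cz ht⟩ * ⟨z, c1.2 rfl⟩⁻¹)
      (Subtype.ext ?_) (by rw [map_mul, map_inv, ← hq, e, hz, mul_inv_cancel])))) tz
    simp only [coe_mul, coe_inv, coe_one, iinv oz]
    rw [(show Commute _ z from c1.1 (cz ht)).symm.mul_mul_mul_comm, ii o, ii oz, mul_one]

theorem not33 (H : Hy G) (e : G ≃* SL33) : False := by
  have := H.sim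
  letI : MulAction G (Fin 3 → ZMod 3) :=
    { smul := fun g v => (e g).1 *ᵥ v
      one_smul := fun v => by change (e 1).1 *ᵥ v = v; simp
      mul_smul := fun g h v => by
        change (e (g * h)).1 *ᵥ v = (e g).1 *ᵥ ((e h).1 *ᵥ v)
        simp }
  have sm : ∀ (g : G) (v : Fin 3 → ZMod 3), g • v = (e g).1 *ᵥ v := fun _ _ => rfl
  have ng : ∀ (g : G) (v : Fin 3 → ZMod 3), g • (-v) = -(g • v) := fun g v => Matrix.mulVec_neg ..
  obtain ⟨v, hv⟩ : ∃ v : Fin 3 → ZMod 3, v = ![0, 1, 0] := ⟨_, rfl⟩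
  let P : Subgroup G :=
    { carrier := {g | g • v = v ∨ g • v = -v}
      one_mem' := Or.inl (one_smul _ _)
      mul_mem' := fun {g h} hg hh => by
        change _ ∨ _
        rw [mul_smul]
        rcases hh with hh | hh <;> rw [hh]
        · exact hg
        · rw [ng]; exact hg.symm.imp (fun e => by rw [e, neg_neg]) fun e => by rw [e]
      inv_mem' := fun {g} hg => hg.imp (fun e => inv_smul_eq_iff.2 e.symm) fun e =>
        inv_smul_eq_iff.2 (by rw [ng, e, neg_neg]) }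
  have l : MulAction.stabilizer G v ≤ P := fun g hg => Or.inl hg
  have h1 : (MulAction.stabilizer G v).index ≤ 26 := by
    rw [MulAction.index_stabilizer]
    refine (Set.ncard_le_ncard (t := {0}ᶜ) ?_).trans (by
      rw [Set.ncard_compl, Set.ncard_singleton]; simp)
    rintro _ ⟨g, rfl⟩ h
    have : v = g⁻¹ • (0 : Fin 3 → ZMod 3) := eq_inv_smul_iff.2 h
    rw [sm, Matrix.mulVec_zero, hv] at this
    exact absurd this (by decide)
  have h2 : (MulAction.stabilizer G v).relIndex P ≠ 1 := fun c => by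
    have : e.symm Z6.mT • v = v := relIndex_eq_one.1 c (Or.inr (by
      rw [sm, e.apply_symm_apply, hv]; decide))
    rw [sm, e.apply_symm_apply, hv] at this
    exact absurd this (by decide)
  have h3 : P ≠ ⊤ := fun c => by
    have : e.symm Z6.mX • v = v ∨ e.symm Z6.mX • v = -v := c.ge (mem_top (e.symm Z6.mX))
    rw [sm, e.apply_symm_apply, hv] at this
    exact absurd this (by decide)
  have hc : Nat.card G = 5616 := (Nat.card_congr e.toEquiv).trans H8.card_SL33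
  have h4 := H8.two_mul_card_dvd_factorial_index H.hG P h3
  have h5 : 13 ≤ P.index := (Nat.Prime.dvd_factorial (by norm_num)).1
    (Dvd.dvd.trans (by rw [hc]; norm_num) h4)
  have h6 := relIndex_mul_index l
  have h7 : (MulAction.stabilizer G v).relIndex P ≠ 0 := index_ne_zero_of_finite
  have h8 : 2 * P.index ≤ 26 := (Nat.mul_le_mul_right _ (by omega)).trans (h6.le.trans h1)
  have h9 := P.card_mul_index
  rw [show P.index = 13 by omega, hc] at h9
  have h10 : Nat.card P = 432 := by omega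
  have := H.l7.omega h3 (H8.isSolvable_of_card_dvd_prime_pow_mul Nat.prime_two Nat.prime_three 4 3
    _ P rfl (by rw [h10]; norm_num)) h10.symm.dvd
  simp [cardFactors_apply, Nat.primeFactorsList_ofNat] at this

end D1

open Cfsg Subgroup FT H4 H5 GW CK
open H9 (glI glU)

theorem p1 : PD1.{u} := fun G _ _ S a b H h hs => by
  have := H.sim
  have := H9.isPerfect_of_simple (G := G) fun c => H.hG ⟨⟨c⟩⟩
  obtain ⟨z, az⟩ : ∃ z, a ^ 2 ^ (0 + 2) = z := ⟨_, rfl⟩
  replace hs : Group.IsSolvable (Cen1 z) := az ▸ hs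
  obtain ⟨π, hπ, hk, hz⟩ := D1.gl h az hs
  have h0 := D1.core H h az hs hπ hk hz
  have inj : Function.Injective π := by
    rw [← MonoidHom.ker_eq_bot_iff, hk]
    exact (map_eq_bot_iff_of_injective _ (Cen1 z).subtype_injective).1 h0
  let ε := MulEquiv.ofBijective π ⟨inj, hπ⟩
  let ψ : H8.GL23 →* G := (Cen1 z).subtype.comp ε.symm.toMonoidHom
  have k : ∀ x : Cen1 z, ψ (π x) = x := fun x => congrArg Subtype.val (ε.symm_apply_apply x)
  have g : Z6.GS z ψ ⊥ := ⟨Subtype.val_injective.comp ε.symm.injective, hz ▸ k _,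
    fun x hx => ⟨π ⟨x, hx⟩, 1, one_mem _, by rw [k, mul_one]⟩, bot_le,
    fun x _ => mnor fun y hy => by rw [mem_bot.1 hy]; simp, by simp, by simp,
    fun o ho _ => mem_bot.1 ho, fun x ox => D1.one H h az ox⟩
  have := Fintype.ofFinite G
  obtain ⟨-, hc | hc⟩ := g.main H.hG
  · have hM : Cfsg.Spor.M11 = H2.M11.KK := by
      have : Cfsg.Spor.squareDodecad = H2.fs H2.dodD := by decide +kernel
      rw [Cfsg.Spor.M11, Cfsg.Spor.M12, this]; rfl
    refine Or.inr (Or.inr (Or.inr (Or.inl ?_)))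
    rw [Cfsg.Spor.IsoM11, hM]
    exact H2.M11.iso hc
  obtain ⟨e⟩ := g.l3 (w0 := ψ glU) ⟨g.oz, by
    rw [orderOf_injective ψ g.inj]
    exact orderOf_eq_prime (by decide +kernel) (by decide +kernel), g.mem _, fun x hx => by
      obtain ⟨p, e⟩ := Z6.wd_surj (π ⟨x, hx.1⟩)
      have e1 : ψ (Z6.wd p) = x := by rw [e, k]
      obtain ⟨i, j, e2⟩ := D1.x2 p (g.inj (by rw [map_mul, map_mul, e1, c1.1 hx.2]))
      rw [← e1, e2, map_mul, map_pow, map_pow ψ (glI ^ 2), g.hz]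
      exact mul_mem_sup (npow_mem_zpowers _ _) (npow_mem_zpowers _ _), g.one⟩ hc
  exact (D1.not33 H (e.trans Z6.eSL.symm)).elim

end LN
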