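import Cfsg.Agent.CK.D
import Cfsg.Agent.CK.C
import Cfsg.Agent.L.BS2
import Cfsg.Agent.H8.Blk
import Cfsg.Agent.H2.ChTool

/-! The principal block of `PGL(2, q)`, `q ≡ 3, 5 mod 8`. -/

set_option autoImplicit false
set_option linter.unusedSectionVars false

namespace LN.E

open Cfsg Subgroup H8 L GW Z6 CK
open FT (Cen1)
open scoped ComplexConjugate Classical

variable {Y : Type*} [Group Y] [Fintype Y] {u w t y : Y}

/-- the odd elements commuting with `u` are the powers of `w` -/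
structure Tw (u w : Y) : Prop where
  pu : PElt 2 u
  rw : Reg 2 w
  c : Commute u w
  reg : ∀ k, Commute u k → Reg 2 k → k ∈ zpowers w

theorem ord_ne (w : Y) : (orderOf w : ℂ) ≠ 0 := Nat.cast_ne_zero.2 (orderOf_pos w).ne'

theorem Tw.kk (h : Tw u w) {n : ℕ} (e : Nat.card (Cen1 u) = n * orderOf w) : KK 2 u u = n := by
  have := P0_cen h.pu h.rw h.c h.reg (one_mem _) (col_class u)
  rw [mul_one] at this
  rw [KK_col, this, Finset.sum_eq_single 0]
  · have e1 : col u u = Nat.card (Cen1 u) := by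
      rw [col_card, Nat.card_eq_fintype_card, Fintype.card_subtype]
      congr 2
      ext c
      simp [c1]
    have := ord_ne w
    rw [pow_zero, mul_one, e1, e]
    push_cast
    field_simp
  · refine fun i hi i0 => col_not fun c => ?_
    obtain ⟨c, hc⟩ := isConj_iff.1 c
    have p : PElt 2 (u⁻¹ * (u * w ^ i)) := h.pu.inv.mul (hc ▸ h.pu.conj c)
      (((Commute.refl u).mul_right (h.c.pow_right i)).inv_left)
    rw [inv_mul_cancel_left] at p
    exact pow_ne_one_of_lt_orderOf i0 (Finset.mem_range.1 hi) (eq_one_of_PElt_Reg p (h.rw.pow i))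
  · exact fun c => absurd (Finset.mem_range.2 (orderOf_pos w)) c

theorem Tw.pair (h : Tw u w) (ht : t * t = 1) {N : ℕ}
    (hN : ∀ y ∈ zpowers w, Nat.card {x // IsConj t x ∧ IsConj t (x * (u * y))} = N) :
    (∑ χ ∈ B0 2 Y, χ.1 t ^ 2 / χ.1 1 * χ.1 u) * (Cen1 t).index = N * Nat.card (Cen1 t) := by
  have sq : ∀ x, IsConj t x → x * x = 1 := fun x hx => by
    obtain ⟨c, rfl⟩ := isConj_iff.1 hx
    rw [show c * t * c⁻¹ * (c * t * c⁻¹) = c * (t * t) * c⁻¹ by group, ht]; group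
  have i0 : ((Cen1 t).index : ℂ) ≠ 0 := Nat.cast_ne_zero.2 index_ne_zero_of_finite
  have c0 : (Nat.card (Cen1 t) : ℂ) ≠ 0 := Nat.cast_ne_zero.2 Nat.card_pos.ne'
  have k : ∀ y ∈ zpowers w, ∑ χ : IrrCharacter Y, χ.1 t ^ 2 / χ.1 1 * χ.1 (u * y) =
      N * Nat.card (Cen1 t) / (Cen1 t).index := fun y hy => by
    have e := pair_sum t (u * y)
    rw [← index_centralizer_eq, ← card_mul_index (Cen1 t)] at e
    have e2 : Nat.card {p : Y × Y // IsConj t p.1 ∧ IsConj t p.2 ∧ p.1 * p.2 = (u * y)⁻¹} = N := by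
      rw [← hN y hy]
      have key : ∀ a b : Y, IsConj t a → a * b = (u * y)⁻¹ → b * (u * y) = a := fun a b ha e => by
        rw [← inv_inv (u * y), ← e, mul_inv_rev, mul_inv_cancel_left,
          inv_eq_of_mul_eq_one_right (sq _ ha)]
      exact Nat.card_congr ⟨fun p => ⟨p.1.2, p.2.2.1, (key _ _ p.2.1 p.2.2.2).symm ▸ p.2.1⟩,
        fun x => ⟨(x.1 * (u * y), x.1), x.2.2, x.2.1,
          eq_inv_of_mul_eq_one_left (by rw [mul_assoc, sq _ x.2.2])⟩,
        fun p => Subtype.ext (Prod.ext (key _ _ p.2.1 p.2.2.2) rfl), fun x => rfl⟩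
    rw [e2] at e
    rw [e]
    push_cast
    field_simp
  have := P0_cen h.pu h.rw h.c h.reg (one_mem _) (class_sum_irr fun χ => χ.1 t ^ 2 / χ.1 1)
  rw [mul_one, P0_sum_irr, Finset.sum_congr rfl fun i _ => k _ (npow_mem_zpowers w i)] at this
  have := ord_ne w
  rw [‹∑ χ ∈ _, _ = _›, Finset.sum_const, Finset.card_range, nsmul_eq_mul]
  field_simp

theorem int_ty {χ : Y → ℂ} (hχ : IsCharacter Y χ) (ht : t * t = 1) (c : Commute t y) {q : ℕ}
    (hq : q.Prime) (hy : y ^ q = 1) (h : ∀ k, 0 < k → k < q → IsConj (t * y) (t * y ^ k)) :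
    ∃ a b : ℤ, χ (t * y) = a ∧ χ t = a + q * b := by
  obtain ⟨n, rfl⟩ : ∃ n, q = n + 1 := ⟨q - 1, by have := hq.pos; omega⟩
  have n0 : (n : ℤ) ≠ 0 := by have := hq.two_le; omega
  obtain ⟨k1, e1⟩ := four2 hχ (m := 1) c (by rwa [← sq] at ht) hy (α := 1) (β := 1)
    (by norm_num) (by simp)
  obtain ⟨k2, e2⟩ := four2 hχ (m := 1) c (by rwa [← sq] at ht) hy (α := -1) (β := 1)
    (by norm_num) (by simp)
  have e3 : ∑ j : Fin (n + 1), χ (t * y ^ j.1) = χ t + n * χ (t * y) := by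
    rw [Fin.sum_univ_succ, Finset.sum_congr rfl fun j _ => show _ = χ (t * y) from ?_]
    · simp
    · obtain ⟨g, hg⟩ := isConj_iff.1 (h (j.1 + 1) (by omega) (by omega))
      rw [Fin.val_succ, ← hg, char_isClassFunction hχ]
  erw [Fin.sum_univ_two] at e1 e2
  simp only [Fin.val_zero, Fin.val_one, pow_zero, pow_one, one_pow, mul_one,
    mul_neg, Finset.sum_neg_distrib, e3] at e1 e2
  obtain ⟨a, ha⟩ := char_involution_int hχ (z := t) (by rwa [sq])
  obtain ⟨b, hb⟩ := H2.exists_int_of_mul (char_isIntegral hχ (t * y)) n0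
    (a := (n + 1) * (k1 - k2) - a) (by push_cast at e1 e2 ⊢; linear_combination (e1 - e2) / 2 - ha)
  refine ⟨b, k1 - k2 - b, hb, ?_⟩
  push_cast at e1 e2 ⊢
  linear_combination (e1 - e2) / 2 - n * hb

theorem pat5 {ι : Type*} [DecidableEq ι] {B : Finset ι} {o : ι} (ho : o ∈ B) {τ : ι → ι}
    (hτ : ∀ x ∈ B, τ x ∈ B) {J O : ι → ℤ} (oJ : J o = 1) (oO : O o = 1)
    (tt : ∀ x, τ (τ x) = x) (tJ : ∀ x, J (τ x) = J x) (tO : ∀ x, O (τ x) = -O x)
    (nJ : ∑ x ∈ B, J x * J x = 8) (nO : ∑ x ∈ B, O x * O x = 4)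
    (par : ∀ x, 2 ∣ J x - O x)
    (J0 : ∀ x ∈ B, J x ≠ 0) : ∃ P ∈ B, ∃ X ∈ B, J P * J P = 1 ∧ J X * J X = 4 ∧
      ∀ f : ι → ℂ, ∑ x ∈ B, f x = f o + f (τ o) + f P + f (τ P) + f X := by
  have ne : ∀ x, O x ≠ 0 → x ≠ τ x := fun x h e => by have := tO x; rw [← e] at this; omega
  have n1 := ne o (by omega)
  obtain ⟨P, hP, m, p0⟩ := ex_l (B := B) (n := O) (l := [o, τ o]) (by simp [n1]) (by simp [ho, hτ o ho])
    (by rw [nO]; simp [tO, oO])
  simp only [List.mem_cons, List.not_mem_nil, or_false, not_or] at m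
  have m3 : τ P ≠ o := fun e => m.2 (by rw [← e, tt])
  have m4 : τ P ≠ τ o := fun e => m.1 (by rw [← tt P, e, tt])
  have nd : [o, τ o, P, τ P].Nodup := by
    simp [n1, ne P p0, Ne.symm m.1, Ne.symm m.2, m3.symm, m4.symm]
  have mb : ∀ x ∈ [o, τ o, P, τ P], x ∈ B := by simp [ho, hτ o ho, hP, hτ P hP]
  have l1 := le_l (n := O) nd mb
  have l2 := le_l (n := J) nd mb
  simp only [List.map, List.sum_cons, List.sum_nil, tO, tJ, oO, oJ, nO, nJ] at l1 l2
  have p1 : O P * O P = 1 := sq_one p0 (by linarith)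
  have z1 := eq_l (n := O) nd mb (by rw [nO]; simp [tO, oO, p1])
  have j1 : J P * J P = 1 := by
    obtain ⟨k, hk⟩ := par P
    refine sq_one (J0 P hP) (by linarith)
  obtain ⟨X, hX, m', x0⟩ := ex_l (n := J) nd mb (by rw [nJ]; simp [tJ, oJ, j1])
  have nd' : [X, o, τ o, P, τ P].Nodup := List.nodup_cons.2 ⟨m', nd⟩
  have mb' : ∀ x ∈ [X, o, τ o, P, τ P], x ∈ B := List.forall_mem_cons.2 ⟨hX, mb⟩
  have l3 := le_l (n := J) nd' mb'
  simp only [List.map, List.sum_cons, List.sum_nil, tJ, oJ, nJ, j1] at l3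
  have x4 : J X * J X = 4 := by
    obtain ⟨k, hk⟩ := par X
    rw [z1 X hX m', sub_zero] at hk
    rw [hk] at l3 x0 ⊢
    have : k * k = 1 := sq_one (by omega) (by linarith)
    linarith
  have z2 := eq_l (n := J) nd' mb' (by rw [nJ]; simp [tJ, oJ, j1, x4])
  refine ⟨P, hP, X, hX, j1, x4, fun f => ?_⟩
  rw [split_l nd' mb', Finset.sum_eq_zero fun x hx => absurd (z2 x (Finset.mem_sdiff.1 hx).1
    (by simpa using (Finset.mem_sdiff.1 hx).2)) (J0 x (Finset.mem_sdiff.1 hx).1)]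
  simp only [List.map, List.sum_cons, List.sum_nil]
  ring

theorem reg_mem {L : Subgroup Y} (h : L.index = 2) (hy : Reg 2 y) : y ∈ L := by
  obtain ⟨k, hk⟩ := Nat.coprime_two_right.1 hy
  have e : y = (y ^ (k + 1)) ^ 2 := by
    rw [← pow_mul, show (k + 1) * 2 = orderOf y + 1 by omega, pow_succ, pow_orderOf_eq_one, one_mul]
  exact e ▸ sq_mem_of_index_two h _

/-- the sign -/
noncomputable def sg {L : Subgroup Y} (h : L.index = 2) : Y →* ℂ where
  toFun x := if x ∈ L then 1 else -1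
  map_one' := if_pos (one_mem L)
  map_mul' a b := by
    simp only [mul_mem_iff_of_index_two h]
    by_cases ha : a ∈ L <;> by_cases hb : b ∈ L <;> simp [ha, hb]

/-- the facts on `PGL(2, q)` -/
structure PY (L : Subgroup Y) (j o w w' y : Y) (Q : ℤ) (q : ℕ) : Prop where
  idx : L.index = 2
  oj : orderOf j = 2
  jL : j ∈ L
  oo : orderOf o = 2
  oL : o ∉ L
  tj : Tw j w
  to' : Tw o w'
  nj : Nat.card (Cen1 j) = 8 * orderOf w
  no : Nat.card (Cen1 o) = 4 * orderOf w'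
  odd : ¬ 2 ∣ (Cen1 j).index
  pr : ∀ y ∈ zpowers w, Nat.card {x // IsConj j x ∧ IsConj j (x * (j * y))} = 2 * orderOf w
  iQ : 2 * ((Cen1 j).index : ℤ) = Q * (Q - 1)
  mQ : (Q + 1) ^ 2 = 16 * (orderOf w : ℤ) ^ 2
  pq : q.Prime
  eq : Q.natAbs = q
  five : 5 ≤ q
  nd : ¬ q ^ 2 ∣ Nat.card Y
  oy : orderOf y = q

theorem PY.kk {L : Subgroup Y} {j o w' : Y} {Q : ℤ} {q : ℕ} (h : PY L j o w w' y Q q) :
    KK 2 (1 : Y) 1 = 2 + 2 * Q ^ 2 + (Q - 1) ^ 2 ∧ KK 2 1 y = 3 - Q ∧ KK 2 y 1 = 3 - Q ∧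
      KK 2 y y = 3 := by
  let τ : IrrCharacter Y → IrrCharacter Y := fun χ => ⟨χ.1 * sg h.idx, irr_mul_hom χ.2 _⟩
  have t1 : ∀ χ, ∀ g ∈ L, (τ χ).1 g = χ.1 g := fun χ g hg => by simp [τ, sg, hg]
  have t2 : ∀ χ, (τ χ).1 o = -χ.1 o := fun χ => by simp [τ, sg, h.oL]
  have tt : ∀ χ, τ (τ χ) = χ := fun χ => Subtype.ext (funext fun g => by
    by_cases hg : g ∈ L <;> simp [τ, sg, hg])
  have tB : ∀ χ ∈ B0 2 Y, τ χ ∈ B0 2 Y := fun χ hχ => by
    rw [mem_B0] at hχ ⊢
    rwa [Finset.sum_congr rfl fun g _ => show _ = regInd 2 g * χ.1 g from ?_]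
    by_cases hg : Reg 2 g
    · rw [t1 χ g (reg_mem h.idx hg)]
    · simp [regInd, hg]
  have j2 : j ^ 2 = 1 := h.oj ▸ pow_orderOf_eq_one j
  have o2 : o ^ 2 = 1 := h.oo ▸ pow_orderOf_eq_one o
  choose J hJ using fun χ : IrrCharacter Y => char_involution_int (irr_isCharacter χ.2) j2
  choose O hO using fun χ : IrrCharacter Y => char_involution_int (irr_isCharacter χ.2) o2
  have nrm : ∀ {u : Y} {n : IrrCharacter Y → ℤ} {k : ℕ}, (∀ χ, χ.1 u = n χ) → KK 2 u u = k →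
      ∑ χ ∈ B0 2 Y, n χ * n χ = k := fun hn e => by
    simp only [KK, hn, map_intCast] at e
    exact_mod_cast e
  obtain ⟨P, hP, X, hX, p1, x4, S⟩ := pat5 (J := J) (O := O) triv_mem_B0 tB
    (by exact_mod_cast (hJ (triv Y)).symm.trans (triv_apply j))
    (by exact_mod_cast (hO (triv Y)).symm.trans (triv_apply o)) tt
    (fun χ => by exact_mod_cast (hJ _).symm.trans ((t1 χ j h.jL).trans (hJ χ)))
    (fun χ => by have := t2 χ; rw [hO, hO] at this; exact_mod_cast this)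
    (nrm hJ (h.tj.kk h.nj)) (nrm hO (h.to'.kk h.no))
    (fun χ => by
      have := (H2.dvd_val_sub_deg 2 χ (k := 1) j2 (hJ χ)).sub
        (H2.dvd_val_sub_deg 2 χ (k := 1) o2 (hO χ))
      simpa using this)
    (fun χ hχ e => B0_apply_ne_zero hχ h.odd (by rw [hJ, e, Int.cast_zero]))
  have j1 : j ≠ 1 := ine h.oj
  have rel : ∀ g, Reg 2 g → 2 + 2 * J P * P.1 g + J X * X.1 g = 0 := fun g hg => by
    have := KK_eq_zero PElt_one hg (Commute.one_left g) h.tj.pu Reg_one (Commute.one_right j)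
      fun c => j1 (isConj_one_right.1 c)
    have gL := reg_mem h.idx hg
    simp only [KK, S, one_mul, mul_one, t1 _ _ gL, t1 _ _ h.jL, hJ P, hJ X, triv_apply,
      map_intCast, map_one] at this
    linear_combination this
  have T := h.tj.pair (t := j) (by rwa [← sq]) h.pr
  have r1 := rel 1 Reg_one
  simp only [S, t1 _ _ h.jL, t1 _ _ (one_mem L), hJ P, hJ X, triv_apply, deg_eq P, deg_eq X,
    h.nj] at T r1
  have dP := deg_pos P
  have dX := deg_pos X
  obtain ⟨f, ef⟩ : ∃ f : ℤ, f = -J P * deg P := ⟨_, rfl⟩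
  have r2 : J X * deg X = 2 * (f - 1) := by
    have : 2 + 2 * J P * deg P + J X * deg X = 0 := by exact_mod_cast r1
    rw [ef]; linarith
  have x0 : J X ≠ 0 := fun e => by rw [e] at x4; omega
  have f1 : f - 1 ≠ 0 := fun e => by
    rw [e, mul_zero] at r2
    exact mul_ne_zero x0 (by omega) r2
  have f0 : f ≠ 0 := by rcases pm p1 with e | e <;> rw [ef, e] <;> omega
  have fQ : f = Q := by
    have c1 : (J P : ℂ) ^ 2 / deg P * J P = -1 / f := by
      have : (deg P : ℂ) ≠ 0 := by exact_mod_cast dP.ne'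
      rcases pm p1 with e | e <;> rw [ef, e] <;> push_cast <;> field_simp
    have c2 : (J X : ℂ) ^ 2 / deg X * J X = 8 / (f - 1) := by
      have a1 : (deg X : ℂ) ≠ 0 := by exact_mod_cast dX.ne'
      have a2 : (f : ℂ) - 1 ≠ 0 := by exact_mod_cast f1
      have a3 : (J X : ℂ) * deg X = 2 * (f - 1) := by exact_mod_cast r2
      have a4 : (J X : ℂ) * J X = 4 := by exact_mod_cast x4
      field_simp
      linear_combination (-J X ^ 3 / 2) * a3 + (deg X * (J X ^ 2 + 4) / 2) * a4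
    have a1 : (f : ℂ) ≠ 0 := by exact_mod_cast f0
    have a2 : (f : ℂ) - 1 ≠ 0 := by exact_mod_cast f1
    have a3 : 2 * ((Cen1 j).index : ℂ) = Q * (Q - 1) := by exact_mod_cast h.iQ
    have a4 : ((Q : ℂ) + 1) ^ 2 = 16 * (orderOf w : ℂ) ^ 2 := by exact_mod_cast h.mQ
    rw [c1, c2] at T
    push_cast at T
    field_simp at T
    have : ((f - Q) * ((3 * Q + 1) * f + (Q - 1)) : ℤ) = 0 := by
      have : ((f : ℂ) - Q) * ((3 * Q + 1) * f + (Q - 1)) = 0 := by
        linear_combination (-1) * T + (f + 1) ^ 2 * a3 + f * (f - 1) * a4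
      exact_mod_cast this
    have e5 := h.five
    have e6 := h.eq
    rcases mul_eq_zero.1 this with e | e
    · omega
    · have := Int.natAbs_le_of_dvd_ne_zero (m := 3 * Q + 1) (n := Q - 1) ⟨-f, by linarith⟩
        (by omega)
      omega
  have := Fact.mk h.pq
  have e6 := h.eq
  have ry : Reg 2 y := by
    rw [Reg, h.oy]
    exact (Nat.coprime_primes h.pq Nat.prime_two).2 (by have := h.five; omega)
  have yL := reg_mem h.idx ry
  have py : P.1 y = 0 := irr_eq_zero_of_dvd_deg h.nd P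
    (by rw [show deg P = q by rcases pm p1 with e | e <;> rw [e] at ef <;> omega]) h.oy.symm.dvd
  have r3 := rel y ry
  rw [py] at r3
  obtain ⟨δ, hδ, d1⟩ : ∃ δ : ℤ, J X = 2 * δ ∧ δ * δ = 1 := by
    rcases (show J X = 2 ∨ J X = -2 by
      have : (J X - 2) * (J X + 2) = 0 := by linarith
      rcases mul_eq_zero.1 this with e | e <;> omega) with e | e
    exacts [⟨1, e, rfl⟩, ⟨-1, by omega, rfl⟩]
  have d2 : (δ : ℂ) * δ = 1 := by exact_mod_cast d1
  have xy : X.1 y = (-δ : ℤ) := by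
    rw [hδ] at r3; push_cast at r3 ⊢; linear_combination (δ / 2) * r3 - X.1 y * d2
  have a1 : (δ : ℂ) * deg X = Q - 1 := by
    have : δ * deg X = Q - 1 := by rw [hδ, fQ] at r2; linarith
    exact_mod_cast this
  have a2 : (deg P : ℂ) * deg P = Q ^ 2 := by
    have : (deg P : ℤ) * deg P = Q ^ 2 := by rw [← fQ, ef]; linear_combination (-deg P ^ 2) * p1
    exact_mod_cast this
  simp only [KK, S, t1 _ _ yL, t1 _ _ (one_mem L), py, xy, triv_apply, deg_eq P, deg_eq X,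
    map_intCast, map_natCast, map_one, map_zero]
  push_cast
  refine ⟨?_, ?_, ?_, ?_⟩
  · linear_combination 2 * a2 + (δ * deg X + Q - 1) * a1 - deg X ^ 2 * d2
  · linear_combination -a1
  · linear_combination -a1
  · linear_combination d2

end LN.E
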