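import Cfsg.Agent.LN.E2
import Cfsg.Agent.CK.B

/-! The principal block of a simple group with `C(z) / z = PGL(2, q)`. -/

set_option autoImplicit false
set_option linter.unusedSectionVars false

namespace LN.E

open Cfsg Subgroup H8 L GW Z6 CK
open FT (Cen1)
open scoped ComplexConjugate Classical

variable {G Y : Type*} [Group G] [Fintype G] [Group Y] [Fintype Y]

/-- the coefficients -/
noncomputable def U5 (δ : ℂ) : Fin 5 → Fin 5 → ℂ :=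
  ![![-1 / 4, 1 / 2, 1 / 4, δ / 8, -δ / 8], ![-1 / 4, 1 / 2, 1 / 4, -δ / 8, δ / 8],
    ![1 / 2, 0, 0, 1 / 4, 1 / 4], ![1 / 2, 0, 0, -1 / 4, -1 / 4], ![1 / 2, 0, 1 / 2, 0, 0]]

/-- the products of the columns -/
def T5 : Fin 5 → Fin 5 → ℂ :=
  ![![8, 4, 0, 0, 0], ![4, 6, 0, 0, 0], ![0, 0, 8, 0, 0], ![0, 0, 0, 0, 8], ![0, 0, 0, 8, 0]]

theorem gm5 {δ : ℂ} (hδ : δ ^ 2 = -2) (k l : Fin 5) :
    ∑ i, U5 δ k i * ∑ j, U5 δ l j * T5 i j = GM k l := by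
  fin_cases k <;> fin_cases l <;> simp [U5, T5, GM, Fin.sum_univ_five] <;>
    first | ring1 | linear_combination (1 / 4) * hδ | linear_combination (-1 / 4) * hδ

theorem ints5 {φ : G → ℂ} (hφ : IsCharacter G φ) {a b : G} (a8 : a ^ 8 = 1)
    (ab : b * a * b⁻¹ = a ^ 3) {D E t : ℤ} (hz : φ (a ^ 4) = D + (8 * t + 2) * E) {ζ : ℂ}
    (hζ : ζ ^ 4 = -1) (k : Fin 5) :
    ∃ n : ℤ, (n : ℂ) = ∑ i, U5 (ζ + ζ ^ 3) k i * ![(D : ℂ), E, φ (a ^ 2), φ a, φ a⁻¹] i := by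
  have c : ∀ n : ℕ, φ (a ^ (3 * n)) = φ (a ^ n) := fun n => by
    rw [pow_mul, ← ab, conj_pow, char_isClassFunction hφ]
  have i7 : a ^ 7 = a⁻¹ := eq_inv_of_mul_eq_one_left (by rw [← pow_succ, a8])
  have c3 : φ (a ^ 3) = φ a := by simpa using c 1
  have c6 : φ (a ^ 6) = φ (a ^ 2) := c 2
  have c5 : φ (a ^ 5) = φ a⁻¹ := by
    rw [← c 5, show 3 * 5 = 8 + 7 from rfl, pow_add, a8, one_mul, i7]
  have f : ∀ ω : ℂ, ω ^ 8 = 1 → ∃ m : ℕ, φ 1 + φ a * (ω + ω ^ 3) + φ (a ^ 2) * (ω ^ 2 + ω ^ 6) +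
      φ (a ^ 4) * ω ^ 4 + φ a⁻¹ * (ω ^ 5 + ω ^ 7) = 8 * m := fun ω hω => by
    obtain ⟨m, hm⟩ := four hφ a8 hω
    simp only [Finset.sum_range_succ, Finset.range_zero, Finset.sum_empty, pow_zero, pow_one,
      c3, c5, c6, i7] at hm
    exact ⟨m, by linear_combination hm⟩
  obtain ⟨m0, a0⟩ := f 1 (by norm_num)
  obtain ⟨m2, a2⟩ := f Complex.I (by rw [show 8 = 4 * 2 from rfl, pow_mul]; simp)
  obtain ⟨m5, a5⟩ := f ζ (by linear_combination (ζ ^ 4 - 1) * hζ)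
  obtain ⟨m1, a1⟩ := f (-ζ) (by linear_combination (ζ ^ 4 - 1) * hζ)
  have c2 : φ 1 + φ (a ^ 4) - 2 * φ (a ^ 2) = 8 * m2 := by
    have := Complex.I_sq
    linear_combination a2 - (φ a * Complex.I + φ (a ^ 2) * (Complex.I ^ 4 - Complex.I ^ 2 + 2) +
      φ (a ^ 4) * (Complex.I ^ 2 - 1) + φ a⁻¹ * Complex.I ^ 5) * this
  have d5 : φ 1 - φ (a ^ 4) + (ζ + ζ ^ 3) * (φ a - φ a⁻¹) = 8 * m5 := by
    linear_combination a5 - (φ (a ^ 2) * ζ ^ 2 + φ (a ^ 4) + φ a⁻¹ * (ζ + ζ ^ 3)) * hζ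
  have d1 : φ 1 - φ (a ^ 4) - (ζ + ζ ^ 3) * (φ a - φ a⁻¹) = 8 * m1 := by
    linear_combination a1 - (φ (a ^ 2) * ζ ^ 2 + φ (a ^ 4) - φ a⁻¹ * (ζ + ζ ^ 3)) * hζ
  rw [hz] at a0 c2 d5 d1
  fin_cases k <;> simp only [U5, Fin.sum_univ_five, Matrix.cons_val, Fin.reduceFinMk]
  · exact ⟨m5 - m2 + (2 * t + 1) * E, by push_cast; linear_combination (c2 - d5) / 8⟩
  · exact ⟨m1 - m2 + (2 * t + 1) * E, by push_cast; linear_combination (c2 - d1) / 8⟩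
  · exact ⟨m0 + m2 - m1 - m5 - (4 * t + 1) * E, by
      push_cast; linear_combination (d1 + d5 - a0 - c2) / 8⟩
  · exact ⟨D - (m0 + m2 - m1 - m5 - (4 * t + 1) * E), by
      push_cast; linear_combination -(d1 + d5 - a0 - c2) / 8⟩
  · exact ⟨D + (4 * t + 1) * E + m1 + m5 - 2 * m2, by
      push_cast; linear_combination -(d1 + d5 - 2 * c2) / 8⟩

theorem numer5 {Q e f c k a n m : ℤ} (f0 : f ≠ 0) (c0 : c ≠ 0) (k0 : k ≠ 0) (a0 : a ≠ 0)
    (c1 : c ≠ 1) (h1 : 1 + e + f = 0) (h2 : e + c + k = 0) (h3 : 1 + e + c + a = 0)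
    (h4 : (1 + Q ^ 2 / f : ℂ) = 1 / c + Q ^ 2 / k)
    (h5 : (1 + 1 / c + 2 * ((Q - 1) ^ 2 / a) - Q ^ 2 / f - Q ^ 2 / k : ℂ) * n = 2 * m) :
    n * (k - Q) ^ 2 = m * k * (k - 1) ∧ (k - Q ^ 2) * (f + Q ^ 2) = -Q ^ 2 * (Q ^ 2 - 1) := by
  obtain rfl : a = k - 1 := by omega
  obtain rfl : c = 1 + f - k := by omega
  have f1 : (f : ℂ) ≠ 0 := by exact_mod_cast f0
  have k1 : (k : ℂ) ≠ 0 := by exact_mod_cast k0
  have a1 : (k : ℂ) - 1 ≠ 0 := by exact_mod_cast a0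
  have c2 : (1 : ℂ) + f - k ≠ 0 := by exact_mod_cast c0
  have c3 : (f : ℂ) - k ≠ 0 := by exact_mod_cast (show f - k ≠ 0 by omega)
  push_cast at h4 h5
  constructor
  · have e1 : (2 * (1 - Q ^ 2 / k) + 2 * ((Q - 1) ^ 2 / (k - 1)) : ℂ) * n = 2 * m := by
      linear_combination h5 + n * h4
    field_simp at e1
    have : (n : ℂ) * (k - Q) ^ 2 = m * k * (k - 1) := by linear_combination e1
    exact_mod_cast this
  · field_simp at h4
    have : ((k : ℂ) - Q ^ 2) * (f + Q ^ 2) = -Q ^ 2 * (Q ^ 2 - 1) :=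
      mul_left_cancel₀ c3 (by linear_combination h4)
    exact_mod_cast this

/-- the facts on `G` -/
structure PG (z a b w : G) (ρ : Cen1 z →* Y) (x : Cen1 z) (y : Y) (m q : ℕ) : Prop where
  a4 : a ^ 4 = z
  oz : orderOf z = 2
  ab : b * a * b⁻¹ = a ^ 3
  nr : ∀ g, g * a * g⁻¹ ≠ a⁻¹
  ti : Tw (a ^ 2) w
  ta : Tw a w
  ow : orderOf w = m
  ni : Nat.card (Cen1 (a ^ 2)) = 8 * m
  na : Nat.card (Cen1 a) = 8 * m
  pr : ∀ y ∈ zpowers w, Nat.card {x // IsConj z x ∧ IsConj z (x * (a ^ 2 * y))} = 4 * m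
  hs : Function.Surjective ρ
  ker : ρ.ker = zpowers ⟨z, c1.2 rfl⟩
  rx : ρ x = y
  xq : x ^ q = 1
  cj : ∀ k, 0 < k → k < q → IsConj (z * x) (z * x ^ k)

theorem PG.main [IsSimpleGroup G] (hG : ¬ IsMulCommutative G) {z a b w : G} {ρ : Cen1 z →* Y}
    {x : Cen1 z} {L : Subgroup Y} {j o v v' y : Y} {Q : ℤ} {q : ℕ}
    (h : PG z a b w ρ x y (orderOf v) q) (p : PY L j o v v' y Q q) (hQ : Q % 8 = 3) : ∃ K F : ℤ,
      (Cen1 z).index * (K - Q) ^ 2 = Q * (Q - 1) * (Q + 1) ^ 2 * K * (K - 1) ∧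
      (K - Q ^ 2) * (F + Q ^ 2) = -Q ^ 2 * (Q ^ 2 - 1) := by
  obtain ⟨ζ, hζ⟩ := IsAlgClosed.exists_pow_nat_eq (-1 : ℂ) four_pos
  have hδ : (ζ + ζ ^ 3) ^ 2 = -2 := by linear_combination (ζ ^ 2 + 2) * hζ
  obtain ⟨t, ht⟩ : ∃ t, Q - 1 = 8 * t + 2 := ⟨Q / 8, by omega⟩
  have zz := ii h.oz
  have a8 : a ^ 8 = 1 := by rw [show 8 = 4 + 4 from rfl, pow_add, h.a4, zz]
  have pz : PElt 2 z := h.a4 ▸ h.ta.pu.pow 4
  have cx : Commute z x := (c1.1 x.2).symm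
  have q5 := p.five
  have rx : Reg 2 x := Reg_of_pow_eq_one
    ((Nat.coprime_primes p.pq Nat.prime_two).2 (by omega)) h.xq
  have rx' : Reg 2 (x : G) := Reg_coe.2 rx
  have Q0 : (Q : ℂ) ≠ 0 := by have := p.eq; exact_mod_cast (show Q ≠ 0 by omega)
  have dd : ∀ χ : IrrCharacter G, ∃ D E : ℤ, χ.1 z = D + (Q - 1) * E ∧ χ.1 (z * x) = D - E :=
    fun χ => by
    obtain ⟨u, k, e1, e2⟩ := int_ty (irr_isCharacter χ.2) zz cx p.pq
      (by exact_mod_cast congrArg Subtype.val h.xq) h.cj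
    rcases Int.natAbs_eq Q with e | e <;> rw [p.eq] at e
    · exact ⟨u + k, k, by rw [e2, e]; push_cast; ring, by rw [e1]; push_cast; ring⟩
    · exact ⟨u - k, -k, by rw [e2, e]; push_cast; ring, by rw [e1]; push_cast; ring⟩
  choose D E hz hy using dd
  choose n hn using fun (k : Fin 5) (χ : IrrCharacter G) => ints5 (irr_isCharacter χ.2) a8 h.ab
    (D := D χ) (E := E χ) (t := t) (by rw [h.a4, hz]; congr 2; exact_mod_cast ht) hζ k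
  have hc : ∀ k ∈ ρ.ker, PElt 2 k ∧ ∀ g, Commute k g := by
    rw [h.ker]
    rintro _ ⟨i, rfl⟩
    exact ⟨(PElt_coe.1 pz).zpow i, fun g => Commute.zpow_left (Subtype.ext (c1.1 g.2).symm) i⟩
  have kz : ∀ {s s' : Cen1 z}, Reg 2 s → Reg 2 s' →
      KK 2 (z * s) (z * s') = 2 * KK 2 (ρ s) (ρ s') := fun {s s'} hs hs' => by
    rw [KK_res pz (c1.2 rfl) hs hs', kk_cen h.hs hc (h.ker ▸ mem_zpowers _) hs hs', h.ker,
      Nat.card_zpowers, ← orderOf_coe, h.oz]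
    rfl
  obtain ⟨k1, k2, k3, k4⟩ := p.kk
  have s1 := kz Reg_one Reg_one
  have s2 := kz Reg_one rx
  have s3 := kz rx Reg_one
  have s4 := kz rx rx
  simp only [h.rx, map_one, k1, k2, k3, k4, coe_one, mul_one] at s1 s2 s3 s4
  simp only [KK, hz, hy, map_add, map_mul, map_sub, map_intCast, map_one] at s1 s2 s3 s4
  have ex : ∀ α β γ δ : ℂ, ∑ χ ∈ B0 2 G, (α * D χ + β * E χ) * (γ * D χ + δ * E χ) =
      α * γ * ∑ χ ∈ B0 2 G, (D χ : ℂ) * D χ + (α * δ + β * γ) * ∑ χ ∈ B0 2 G, (D χ : ℂ) * E χ +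
        β * δ * ∑ χ ∈ B0 2 G, (E χ : ℂ) * E χ := fun α β γ δ => by
    simp only [Finset.mul_sum, ← Finset.sum_add_distrib]
    exact Finset.sum_congr rfl fun χ _ => by ring
  have r1 := ex 1 (Q - 1) 1 (Q - 1)
  have r2 := ex 1 (Q - 1) 1 (-1)
  have r4 := ex 1 (-1) 1 (-1)
  simp only [one_mul, neg_mul, ← sub_eq_add_neg, s1, s2, s4] at r1 r2 r4
  have EE : ∑ χ ∈ B0 2 G, (E χ : ℂ) * E χ = 6 :=
    mul_left_cancel₀ (pow_ne_zero 2 Q0) (by linear_combination -r1 + 2 * r2 - r4)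
  have DE : ∑ χ ∈ B0 2 G, (D χ : ℂ) * E χ = 4 :=
    mul_left_cancel₀ Q0 (by linear_combination r4 - r2 + Q * EE)
  have DD : ∑ χ ∈ B0 2 G, (D χ : ℂ) * D χ = 8 := by linear_combination -r4 + 2 * DE - EE
  have a4 : a ^ 4 ≠ 1 := h.a4 ▸ ine h.oz
  have nc : ∀ {g k : G} (n : ℕ), g ^ n = 1 → k ^ n ≠ 1 → ¬ IsConj g k := fun n e1 e2 c =>
    e2 (isConj_one_right.1 (e1 ▸ c.pow n))
  have cr : ∀ g : G, PElt 2 g → g ^ 2 ≠ 1 → ∑ χ ∈ B0 2 G, χ.1 g * D χ = 0 ∧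
      ∑ χ ∈ B0 2 G, χ.1 g * E χ = 0 := fun g pg g2 => by
    have n1 : ¬ IsConj g z := fun c => nc 2 (by rw [sq, zz]) g2 c.symm
    have u1 := KK_eq_zero' pg pz n1
    have u2 := KK_eq_zero pg Reg_one (Commute.one_right g) pz rx' cx n1
    simp only [KK, hz, hy, map_add, map_mul, map_sub, map_intCast, map_one, mul_one, mul_add,
      mul_sub, mul_left_comm _ (Q - 1 : ℂ), Finset.sum_add_distrib, Finset.sum_sub_distrib,
      ← Finset.mul_sum] at u1 u2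
    have : ∑ χ ∈ B0 2 G, χ.1 g * E χ = 0 := mul_left_cancel₀ Q0 (by linear_combination u1 - u2)
    exact ⟨by linear_combination u2 + this, this⟩
  have kk : ∀ g k : G, ∑ χ ∈ B0 2 G, χ.1 g * χ.1 k = KK 2 g k⁻¹ := fun g k => by
    simp only [KK, irr_conj_eq, inv_inv]
  have pa := h.ta.pu
  have i4 : (a ^ 2) ^ 4 = 1 := by rw [← pow_mul, a8]
  have ci : b * a ^ 2 * b⁻¹ = (a ^ 2)⁻¹ := by
    rw [← conj_pow, h.ab, ← pow_mul]
    exact eq_inv_of_mul_eq_one_left (by rw [← pow_add, a8])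
  have a2 : a ^ 2 ≠ 1 := fun e => a4 (by rw [show 4 = 2 * 2 from rfl, pow_mul, e, one_pow])
  obtain ⟨c1', c2⟩ := cr _ h.ti.pu (by rwa [← pow_mul])
  obtain ⟨c3, c4⟩ := cr _ pa a2
  obtain ⟨c5, c6⟩ := cr _ pa.inv (by rwa [inv_pow, inv_ne_one])
  have ii' : KK 2 (a ^ 2) (a ^ 2)⁻¹ = 8 := by
    rw [← ci, KK_conj_right, h.ti.kk (h.ow ▸ h.ni)]; rfl
  have aa : KK 2 a a = 8 := h.ta.kk (n := 8) (h.ow ▸ h.na)
  have ia : KK 2 (a ^ 2) a⁻¹ = 0 := KK_eq_zero' h.ti.pu pa.inv (nc 4 i4 (by rwa [inv_pow, inv_ne_one]))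
  have ia' : KK 2 (a ^ 2) a = 0 := KK_eq_zero' h.ti.pu pa (nc 4 i4 a4)
  have na : ¬ IsConj a a⁻¹ := fun c => by
    obtain ⟨g, hg⟩ := isConj_iff.1 c
    exact h.nr g hg
  have a1 : KK 2 a a⁻¹ = 0 := KK_eq_zero' pa pa.inv na
  have a1' : KK 2 a⁻¹ a = 0 := KK_eq_zero' pa.inv pa fun c => na c.symm
  have tb : ∀ i k : Fin 5, ∑ χ ∈ B0 2 G, ![(D χ : ℂ), E χ, χ.1 (a ^ 2), χ.1 a, χ.1 a⁻¹] i *
      ![(D χ : ℂ), E χ, χ.1 (a ^ 2), χ.1 a, χ.1 a⁻¹] k = T5 i k := by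
    have sy : ∀ f g : IrrCharacter G → ℂ, ∑ χ ∈ B0 2 G, f χ * g χ = ∑ χ ∈ B0 2 G, g χ * f χ :=
      fun f g => Finset.sum_congr rfl fun _ _ => mul_comm _ _
    intro i k
    fin_cases i <;> fin_cases k <;> simp only [T5, Matrix.cons_val, Fin.reduceFinMk] <;>
      first
      | assumption
      | (rw [sy]; assumption)
      | (rw [kk]; simp only [inv_inv]; assumption)
      | (rw [kk]; assumption)
      | (rw [sy, kk]; simp only [inv_inv]; assumption)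
      | (rw [sy, kk]; assumption)
  have gram : ∀ k l, ∑ χ ∈ B0 2 G, n k χ * n l χ = GM k l := fun k l => by
    have : ((∑ χ ∈ B0 2 G, n k χ * n l χ : ℤ) : ℂ) = GM k l := by
      push_cast
      rw [sum_lin' (hn k), ← gm5 hδ]
      refine Finset.sum_congr rfl fun i _ => ?_
      rw [sum_lin' (hn l)]
      simp only [tb]
    exact_mod_cast this
  have tD : (D (triv G) : ℂ) = 1 ∧ (E (triv G) : ℂ) = 0 := by
    have e1 := hz (triv G)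
    have e2 := hy (triv G)
    rw [triv_apply] at e1 e2
    have : (E (triv G) : ℂ) = 0 := mul_left_cancel₀ Q0 (by linear_combination e2 - e1)
    exact ⟨by linear_combination this - e2, this⟩
  have tr : ∀ k, n k (triv G) = ![0, 0, 1, 0, 1] k := fun k => by
    have : (n k (triv G) : ℂ) = (![0, 0, 1, 0, 1] k : ℤ) := by
      rw [hn]
      fin_cases k <;> simp [U5, Fin.sum_univ_five, tD.1, tD.2] <;> ring
    exact_mod_cast this
  have va : ∀ χ : IrrCharacter G, χ.1 z = n 2 χ + n 3 χ +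
      (Q - 1) * (n 0 χ + n 1 χ + n 2 χ + n 3 χ - n 4 χ) := fun χ => by
    simp only [hn, hz]
    simp [U5, Fin.sum_univ_five]
    ring
  obtain ⟨E', hE, F, hF, C, hC, K, hK, A, hA, e, f, g, k, a', e1, f1, g1, k1, a1, rE, rF, rC, rK, rA,
    S⟩ := pattern triv_mem_B0 (tr 0) (tr 1) (tr 2) (tr 3) (tr 4) (gram 0 0) (gram 1 1) (gram 2 2)
      (gram 3 3) (gram 4 4) (gram 0 1) (gram 2 0) (gram 2 1) (gram 3 0) (gram 3 1) (gram 4 0)
      (gram 4 1) (gram 2 3) (gram 2 4) (gram 3 4)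
  have z0 : ∀ {u y : G}, PElt 2 u → u ≠ 1 → Reg 2 y → Commute u y →
      ∑ χ ∈ B0 2 G, χ.1 1 * χ.1 (u * y) = 0 := sum_deg_mul_eq_zero
  have z1 : ∀ {u : G}, PElt 2 u → u ≠ 1 → ∑ χ ∈ B0 2 G, χ.1 1 * χ.1 u = 0 := fun hu u1 => by
    simpa using z0 hu u1 Reg_one (Commute.one_right _)
  have zD : ∑ χ ∈ B0 2 G, χ.1 1 * D χ = 0 := by
    have u1 := z1 pz (ine h.oz)
    have u2 := z0 pz (ine h.oz) rx' cx
    simp only [hz, hy, mul_add, mul_sub, mul_left_comm _ (Q - 1 : ℂ), Finset.sum_add_distrib,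
      Finset.sum_sub_distrib, ← Finset.mul_sum] at u1 u2
    exact mul_left_cancel₀ Q0 (by linear_combination u1 + (Q - 1) * u2)
  have an : a ≠ 1 := fun e => a4 (by rw [e, one_pow])
  obtain ⟨d3, d4, d5⟩ := S fun χ => χ.1 1
  rw [sum_lin' (hn _)] at d3 d4 d5
  simp only [U5, Fin.sum_univ_five, Matrix.cons_val, zD, z1 h.ti.pu a2, z1 pa an,
    z1 pa.inv (inv_ne_one.2 an), zero_mul, mul_zero, add_zero, deg_eq E', deg_eq F, deg_eq C,
    deg_eq K, deg_eq A, triv_apply] at d3 d4 d5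
  obtain ⟨t3, t4, t5⟩ := S fun χ => χ.1 z ^ 2 / χ.1 1
  rw [sum_lin' (hn _)] at t3 t4 t5
  have vF : F.1 z = Q * f := by rw [va F]; simp [rF]; ring
  have vC : C.1 z = 1 * g := by rw [va C]; simp [rC]
  have vK : K.1 z = Q * k := by rw [va K]; simp [rK]; ring
  have vA : A.1 z = (Q - 1) * a' := by rw [va A]; simp [rA]
  have sg : ∀ (ε : ℤ) (c : ℂ) (χ : IrrCharacter G), ε * ε = 1 →
      ε * ((c * ε) ^ 2 / deg χ) = c ^ 2 / (ε * deg χ : ℤ) := fun ε c χ hε => by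
    rcases pm hε with rfl | rfl <;> simp [div_neg]
  have sz : ∀ (ε : ℤ) (χ : IrrCharacter G), ε * ε = 1 → ε * deg χ ≠ 0 := fun ε χ hε => by
    have := deg_pos χ
    rcases pm hε with rfl | rfl <;> omega
  have T3 := T_zero h.oz pa h.nr
  have T4 := T_zero h.oz pa.inv fun g e => h.nr g (by
    rw [← inv_inj, ← e]; group)
  have Ti := h.ti.pair zz h.pr
  simp only [U5, Fin.sum_univ_five, Matrix.cons_val, T3, T4, vF, vC, vK, vA, deg_eq F, deg_eq A,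
    deg_eq C, deg_eq K, triv_apply, sg _ _ _ f1, sg _ _ _ g1, sg _ _ _ k1, sg _ _ _ a1] at t3 t4 t5
  have nC : C ≠ triv G := fun e' => by
    have := rC.2.2.2.1; rw [e', tr] at this; simp [← this] at g1
  have cH : (Nat.card (Cen1 z) : ℂ) = 8 * orderOf v * (Q * (Q - 1)) := by
    have e1 : (2 : ℂ) * (Cen1 j).index = Q * (Q - 1) := by exact_mod_cast p.iQ
    rw [card_eq h.hs, h.ker, Nat.card_zpowers, ← orderOf_coe, h.oz, ← card_mul_index (Cen1 j), p.nj,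
      ← e1]
    push_cast
    ring
  have mQ : ((Q : ℂ) + 1) ^ 2 = 16 * (orderOf v : ℂ) ^ 2 := by exact_mod_cast p.mQ
  refine ⟨k * deg K, f * deg F, numer5 (e := e * deg E') (c := g * deg C) (a := a' * deg A)
    (sz f F f1) (sz g C g1) (sz k K k1) (sz a' A a1) (fun e' => ?_) (by exact_mod_cast d3.symm)
    (by exact_mod_cast d4.symm) (by exact_mod_cast d5.symm) (by linear_combination t4 - t3) ?_⟩
  · have : deg C = 1 := by rcases pm g1 with rfl | rfl <;> omega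
    refine nC (Subtype.ext (char_eq_one_of_perfect ?_ (irr_isCharacter C.2)
      (by rw [deg_eq, this]; simp)))
    exact commutator_eq_top_of_simple hG
  · rw [cH] at Ti
    push_cast at Ti t3 t4 t5 ⊢
    linear_combination Ti + (Cen1 z).index * (t3 + t4 - 2 * t5) - 2 * Q * (Q - 1) * mQ

end LN.E
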