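import Cfsg.Agent.LN.E3
import Cfsg.Agent.LN.Stmt
import Cfsg.Agent.YK.C1

/-! The quotient `C(z)/⟨z⟩` is `PGL(2, q)`, `q` prime. -/

set_option autoImplicit false
set_option linter.unusedSectionVars false

namespace LN.E

open Cfsg Subgroup FT H4 H5 GW GW.Dg H6 L
open H7 (le_sup_sylow npc_iff_pPrimeCoreIn)
open scoped MatrixGroups Classical ArithmeticFunction.Omega

universe u

variable {Y : Type u} [Group Y] [Finite Y] {T : Sylow 2 Y} {A B : Y} {L : Subgroup Y}

theorem simple_of (h : ¬ Group.IsSolvable Y) (h5 : ¬ Ht (⊤ : Subgroup Y) 5) : IsSimpleGroup Y := by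
  have : Nontrivial Y := not_subsingleton_iff_nontrivial.1 fun e => h inferInstance
  refine ⟨fun N hN => ?_⟩
  by_contra! c
  by_cases s : Group.IsSolvable N
  · refine h5 (Ht.quot (K := N) (m := 1) (n := 4) ((Ht.zero _).succ (bot_lt_iff_ne_bot.2 c.1))
      (ht_four_top _ _ (fun e => h ?_) rfl))
    exact Group.isSolvable_of_ker_le_range N.subtype (QuotientGroup.mk' N) (by simp)
  · exact h5 ((ht_four s).succ (lt_top_iff_ne_top.2 c.2))

theorem card_two (hL : L.index = 2) {K : Subgroup Y} {x : Y} (hx : x ∈ K) (h : x ∉ L) :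
    Nat.card K = 2 * Nat.card ↥(K ⊓ L) := by
  have := normal_of_index_eq_two hL
  have h1 : L.relIndex K = 2 := by
    rcases (Nat.dvd_prime Nat.prime_two).1 (hL ▸ relIndex_dvd_index_of_normal L K) with e | e
    · exact absurd (relIndex_eq_one.1 e hx) h
    · exact e
  rw [← H5.card_inf_mul_relIndex L K, h1, inf_comm, mul_comm]

theorem mem_odd (hL : L.index = 2) {x : Y} (h : Odd (orderOf x)) : x ∈ L :=
  GW.mem_of_sq_mem h (sq x ▸ sq_mem_of_index_two hL x)

theorem card_coset {P : Y → Prop} {s d : Y} (h : ∀ x, P x ↔ s * x ∈ zpowers d) :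
    Nat.card {x // P x} = orderOf d := by
  rw [← Nat.card_zpowers]
  exact Nat.card_congr ((Equiv.mulLeft s).subtypeEquiv h)

/-- generators of `SL(2, 5)` in `SL(2, 11)` -/
def X11 : Fin 3 → SL(2, ZMod 11) := ![⟨!![0, 1; 10, 10], by decide⟩, ⟨!![1, 4; 2, 9], by decide⟩,
  ⟨!![5, 3; 8, 5], by decide⟩]

theorem X11_3 : ∀ i, X11 i ^ 3 = 1 := by decide +kernel

theorem X11_2 : ∀ i j, i ≠ j → (X11 i * X11 j) ^ 2 = -1 := by decide +kernel

/-- the quotient -/
structure YS (T : Sylow 2 Y) (A B : Y) : Prop where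
  d2 : D2 Y
  oA : orderOf A = 4
  oB : orderOf B = 2
  BA : B * A * B⁻¹ = A⁻¹
  nc : ¬ IsConj (A ^ 2) B
  cT : Nat.card T = 8
  mem : ∀ x ∈ (T : Subgroup Y), ∃ i : ℤ, x = A ^ i ∨ x = A ^ i * B
  AT : A ∈ (T : Subgroup Y)
  BT : B ∈ (T : Subgroup Y)
  ns : ¬ Group.IsSolvable Y
  ht : ¬ Ht (⊤ : Subgroup Y) 6

namespace YS

variable (h : YS T A B)
include h

theorem oj : orderOf (A ^ 2) = 2 := by rw [orderOf_pow, h.oA]; rfl

theorem Bi (i : ℤ) : B * A ^ i * B⁻¹ = A ^ (-i) := by rw [← conj_zpow, h.BA, inv_zpow, zpow_neg]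

theorem Bj : B ∈ Cen1 (A ^ 2) := c1'.2 (by rw [← conj_pow, h.BA, inv_pow, iinv h.oj])

theorem Aj : A ∈ Cen1 (A ^ 2) := c1c.2 (Commute.self_pow A 2)

theorem f4 : F4 (A ^ 2) B := ⟨h.oj, h.oB, (c1.1 h.Bj).symm, fun e => h.nc (e ▸ IsConj.refl _)⟩

theorem Tj : (T : Subgroup Y) ≤ Cen1 (A ^ 2) := fun x hx => by
  obtain ⟨i, rfl | rfl⟩ := h.mem x hx
  exacts [zpow_mem h.Aj i, mul_mem (zpow_mem h.Aj i) h.Bj]

theorem even {i : ℤ} (e : A ^ i * A ^ i = 1) : ∃ k : ℤ, A ^ i = (A ^ 2) ^ k := by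
  rw [← zpow_add, ← orderOf_dvd_iff_zpow_eq_one, h.oA] at e
  obtain ⟨k, rfl⟩ : ∃ k, i = 2 * k := ⟨i / 2, by omega⟩
  exact ⟨k, by rw [zpow_mul, zpow_two, sq]⟩

theorem card : ∃ k, Odd k ∧ Nat.card Y = 8 * k :=
  ⟨(T : Subgroup Y).index, Nat.odd_iff.2 (by have := T.not_dvd_index; omega), by
    rw [← (T : Subgroup Y).card_mul_index, ← h.cT]⟩

theorem exL : ∃ L : Subgroup Y, L.index = 2 ∧ B ∉ L := by
  obtain ⟨k, ⟨k, rfl⟩, e⟩ := h.card
  obtain ⟨φ, hφ⟩ := sign_hom (zpowers A) (by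
    have := (zpowers A).card_mul_index
    rw [Nat.card_zpowers, h.oA] at this
    omega)
  have := hφ B (ii h.oB) fun g hg => h.nc
    (inv_uniq hg (npow_mem_zpowers A 2) (iconj h.oB g) h.oj ▸ (isConj_iff.2 ⟨g, rfl⟩).symm)
  exact ⟨_, H2.index_ker_of_neg_one φ this, fun e => by simp [φ.mem_ker.1 e] at this⟩

variable (hL : L.index = 2)
include hL

theorem ht5 : ¬ Ht L 5 := fun e => h.ht (e.succ (lt_top_iff_ne_top.2 fun c => by simp [c] at hL))

theorem nsL : ¬ Group.IsSolvable L := fun e => h.ns (by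
  have := normal_of_index_eq_two hL
  have : IsCyclic (Y ⧸ L) := isCyclic_of_prime_card (p := 2) hL
  have : Group.IsSolvable (Y ⧸ L) := Group.isSolvable_of_comm fun a b =>
    IsCyclic.isMulCommutative.is_comm.comm a b
  exact Group.isSolvable_of_ker_le_range L.subtype (QuotientGroup.mk' L) (by simp))

theorem sim : IsSimpleGroup L := simple_of (h.nsL hL) fun e => h.ht5 hL e.of_top

theorem nle {N : Subgroup Y} (l : N ≤ L) (n : L ≤ Nor N) : N = ⊥ ∨ N = L := by
  have := h.sim hL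
  rcases (normal_subgroupOf_of_le_normalizer n).eq_bot_or_eq_top with e | e
  · exact Or.inl (by rw [← map_subgroupOf_eq_of_le l, e, Subgroup.map_bot])
  · exact Or.inr (l.antisymm (subgroupOf_eq_top.1 e))

theorem ctx : ∃ (F : Type) (_ : Field F) (_ : Fintype F) (π : SL(2, F) →* Y),
    3 < Fintype.card F ∧ Ctx π L := by
  have hn := normal_of_index_eq_two hL
  have := h.sim hL
  have nc : ¬ IsMulCommutative L := fun e => h.nsL hL (Group.isSolvable_of_comm e.is_comm.comm)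
  have nL : ∀ g, g ∈ Nor L := fun g => (normalizer_eq_top_iff.2 hn).ge (mem_top g)
  have c0 : Cen L ⊓ L = ⊥ := (h.nle hL inf_le_right (ninf (ncen le_normalizer) le_normalizer)).resolve_right
    fun e => nc ⟨⟨fun a b => Subtype.ext (cen.1 (e.ge a.2).1 b b.2)⟩⟩
  have hC : Cen L = ⊥ := by
    have n : (Cen L).Normal := normalizer_eq_top_iff.1 (eq_top_iff.2 fun g _ => mcen (nL g))
    have s2 : ∀ t ∈ Cen L, t * t = 1 := fun t ht => mem_bot.1
      (c0 ▸ (⟨mul_mem ht ht, sq t ▸ sq_mem_of_index_two hL t⟩ : t * t ∈ Cen L ⊓ L))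
    have p : IsPGroup 2 (Cen L) := fun t => ⟨1, Subtype.ext (by simpa [sq] using s2 t t.2)⟩
    refine eq_bot_iff.2 fun t ht => c0 ▸ ⟨ht, by_contra fun tL => ?_⟩
    have ce : ∀ g, t * g = g * t := fun g => by
      by_cases e : g ∈ L
      · exact cen.1 ht g e
      · have := cen.1 ht (t * g) ((mul_mem_iff_of_index_two hL).2 (by tauto))
        rwa [mul_assoc, mul_left_cancel_iff] at this
    obtain ⟨i, e | e⟩ := h.mem t (p.le_sylow_of_normal T ht)
    · obtain ⟨k, e'⟩ := h.even (e ▸ s2 t ht)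
      exact tL (e ▸ e' ▸ zpow_mem (sq_mem_of_index_two hL A) k)
    · have e1 : B * A * B⁻¹ = A := by
        have := ce A
        rw [e, mul_assoc, ← mul_assoc A, ((Commute.refl A).zpow_right i).eq, mul_assoc,
          mul_left_cancel_iff] at this
        rw [this, mul_inv_cancel_right]
      refine ine h.oj ?_
      rw [sq]
      exact mul_eq_one_iff_eq_inv.2 (e1.symm.trans h.BA)
  rcases gwThm L nc (h.d2.sub L) with ⟨F, i, j, o, h3, ⟨e⟩⟩ | ⟨⟨e⟩⟩
  · obtain ⟨π, c⟩ := exists_ctx hC o e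
    exact ⟨F, i, j, π, h3, c⟩
  · obtain ⟨k, ⟨k, rfl⟩, e'⟩ := h.card
    have h1 := L.card_mul_index
    have h2 := two_mul_nat_card_alternatingGroup (α := Fin 7)
    rw [← Nat.card_congr e.toEquiv, Nat.card_perm, Nat.card_eq_fintype_card (α := Fin 7),
      Fintype.card_fin] at h2
    simp only [Nat.factorial] at h2
    rw [hL] at h1
    omega

variable {F : Type} [Field F] [Fintype F] {π : SL(2, F) →* Y} (c : Ctx π L) (hB : B ∉ L)
include c hB

omit hL in
theorem exM {M : M2 F} (hM : M.det ≠ 0) : ∃ g, Lr π g M := by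
  have k : ∀ M : M2 F, M.det ≠ 0 → IsSquare M.det → ∃ g, Lr π g M := fun M hM ⟨e, he⟩ => by
    have e0 : e ≠ 0 := fun c => hM (by rw [he, c, mul_zero])
    obtain ⟨g, hg⟩ := exists_sl (A := e⁻¹ • M) (by rw [det_smul2, he]; field_simp)
    have := (lr_pi π g).smul e0
    rw [hg, smul_smul, mul_inv_cancel₀ e0, one_smul] at this
    exact ⟨_, this⟩
  by_cases s : IsSquare M.det
  · exact k M hM s
  obtain ⟨J, hJ⟩ := c.lin h.d2 h.oB
  obtain ⟨g, hg⟩ := k (M * J) (by rw [Matrix.det_mul]; exact mul_ne_zero hM hJ.1) (by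
    rw [Matrix.det_mul]; exact H9.isSquare_mul_of_not s (mt (c.mem_iff hJ).2 hB))
  have := (hg.mul hJ).smul (inv_ne_zero (neg_ne_zero.2 hJ.1))
  rw [mul_assoc, sq_trl (c.inv_trl hJ h.oB), mul_smul_comm, smul_smul,
    inv_mul_cancel₀ (neg_ne_zero.2 hJ.1), one_smul, mul_one] at this
  exact ⟨_, this⟩

omit hL in
theorem dg {k : F} (hk : k ≠ 0) : ∃ g, (g ∈ L ↔ IsSquare k) ∧
    ∀ a, g * π (uT a) * g⁻¹ = π (uT (k * a)) := by
  obtain ⟨g, hg⟩ := h.exM c hB (M := !![k, 0; 0, 1]) (by simpa using hk)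
  refine ⟨g, by simpa using c.mem_iff hg, fun a => hg.2 _ _ ?_⟩
  rw [mp_refl]
  simp

omit hL in
theorem tau {τ σ : ℕ} (hn : Num F τ σ) (j : A ^ 2 ∈ L) : τ = 2 * Nat.card (Kt L (A ^ 2)) := by
  have := c.card_in' hn h.d2 h.oj h.oB hB j T
  rw [h.cT] at this
  omega

theorem prime (h3 : 3 < Fintype.card F) : (Fintype.card F).Prime := by
  obtain ⟨p, _, ⟨f, f0⟩, hp, e⟩ := FiniteField.card' F
  obtain ⟨τ, σ, hn⟩ := exists_num c.two
  have h1 := h.tau c hB hn (sq_mem_of_index_two hL A)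
  obtain ⟨m, hm⟩ := odd_Kt h.d2 L h.oj
  let u : Multiplicative F →* Y := π.comp
    { toFun := fun a => uT a.toAdd, map_one' := uT_zero, map_mul' := fun a b => uT_add _ _ }
  have ui : Function.Injective u := fun a b e => c.uT_inj e
  have cU : Nat.card u.range = p ^ f := by
    rw [← Nat.card_congr (MonoidHom.ofInjective ui).toEquiv, Nat.card_eq_fintype_card,
      Fintype.card_multiplicative, e]; rfl
  have UL : u.range ≤ L := fun _ ⟨a, e⟩ => e ▸ c.mem _
  have ab : u.range ≤ Cen u.range := fun _ ⟨a, e⟩ => cen.2 fun _ ⟨b, e'⟩ => by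
    rw [← e, ← e', ← map_mul, mul_comm, map_mul]
  obtain ⟨x, -, hx⟩ := Finset.exists_mem_notMem_of_card_lt_card (s := {0, 1, -1})
    (t := (Finset.univ : Finset F)) (Finset.card_le_three.trans_lt h3)
  simp only [Finset.mem_insert, Finset.mem_singleton, not_or] at hx
  obtain ⟨g, gL, hg⟩ := h.dg c hB (mul_ne_zero hx.1 hx.1)
  have l1 : u.range < Nor u.range ⊓ L := lt_of_le_of_ne (le_inf le_normalizer UL) fun e' => by
    have : g ∈ u.range := e' ▸ ⟨mnor fun _ ⟨a, e⟩ => ⟨Multiplicative.ofAdd (x * x * a.toAdd),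
      e ▸ (hg _).symm⟩, gL.2 ⟨x, rfl⟩⟩
    have h2 := hg 1
    rw [cen.1 (ab this) (π (uT 1)) ⟨Multiplicative.ofAdd 1, rfl⟩, mul_inv_cancel_right] at h2
    have := c.uT_inj h2
    rw [mul_one, eq_comm, mul_self_eq_one_iff] at this
    tauto
  have l2 : Nor u.range ⊓ L < L := lt_of_le_of_ne inf_le_right fun e' => by
    rcases h.nle hL UL (e'.ge.trans inf_le_left) with e' | e'
    · rw [e', card_bot, ← show Fintype.card F = p ^ f from e] at cU
      omega
    · exact l1.ne (le_antisymm l1.le (inf_le_right.trans e'.ge))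
  have h4 := ((ht_pow hp (haveI := Fact.mk hp; .of_card cU) cU.symm.dvd).succ l1).succ l2
  have f2 : f ≤ 2 := by
    by_contra! c
    exact h.ht5 hL (h4.le (by omega))
  change Fintype.card F = p ^ f at e
  obtain rfl | rfl : f = 1 ∨ f = 2 := by omega
  · rwa [e, pow_one]
  have o := odd_card c.two
  rw [e] at o
  obtain ⟨k, rfl⟩ : Odd p := (Nat.odd_pow_iff two_ne_zero).1 (Nat.odd_iff.2 o)
  obtain ⟨l, hl⟩ := Nat.even_mul_succ_self k
  have : Fintype.card F = 8 * l + 1 := by rw [e]; nlinarith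
  obtain ⟨-, ⟨-, h5, -⟩ | ⟨-, h5, -⟩⟩ := hn <;> omega

omit hB in
theorem n11 : Fintype.card F ≠ 11 := fun e => by
  have : Fact (Nat.Prime 11) := ⟨by norm_num⟩
  have : CharP F 11 := charP_of_card_eq_prime e
  let μ := Matrix.SpecialLinearGroup.map (n := Fin 2) (ZMod.castHom (dvd_refl 11) F)
  have m1 : μ (-1) = -1 := Subtype.ext (by
    ext i j; fin_cases i <;> fin_cases j <;> simp [μ])
  obtain ⟨ε⟩ := Cfsg.Agent.YK.carm le_rfl (fun i => π (μ (X11 i))) (fun i => by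
    rw [← map_pow, ← map_pow, X11_3, map_one, map_one]) (fun i j ij => by
    rw [← map_mul, ← map_mul, ← map_pow, ← map_pow, X11_2 i j ij, m1, c.neg, map_one]) ⟨0, fun e' => by
      have k : (μ (X11 0)).1 0 1 = 1 := map_one (ZMod.castHom (dvd_refl 11) F)
      rcases (c.ker _).1 e' with e' | e' <;> simp [e'] at k⟩
  have l : closure (Set.range fun i => π (μ (X11 i))) < L :=
    lt_of_le_of_ne ((closure_le _).2 fun _ ⟨i, e⟩ => e ▸ c.mem _) fun e' => by
      have h1 := c.card_L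
      have h2 := two_mul_nat_card_alternatingGroup (α := Fin (3 + 2))
      rw [← Nat.card_congr ε.toEquiv, e', h1, Nat.card_perm, Nat.card_eq_fintype_card,
        Fintype.card_fin, e] at h2
      simp [Nat.factorial] at h2
  refine h.ht5 hL ((ht_four fun s => ?_).succ l)
  have := Group.isSolvable_of_surjective (f := ε.toMonoidHom) ε.surjective
  have := IsSimpleGroup.comm_iff_isSolvable (G := alternatingGroup (Fin 5)).2 this
  revert this
  decide +kernel

end YS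

end LN.E
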