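import Cfsg.Agent.LN.E4

/-! The local structure of `PGL(2, q)`. -/

set_option autoImplicit false
set_option linter.unusedSectionVars false

namespace LN.E

open Cfsg Subgroup FT H4 H5 GW GW.Dg H6 L ArithmeticFunction
open H7 (le_sup_sylow npc_iff_pPrimeCoreIn)
open scoped MatrixGroups Classical ArithmeticFunction.Omega

universe u

variable {Y : Type u} [Group Y] [Finite Y] {T : Sylow 2 Y} {A B t w : Y} {L : Subgroup Y}

theorem zp_mul {n : ℕ} (c : Commute w A) (h : A ^ n = 1) (e : n.Coprime (orderOf w)) :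
    w ∈ zpowers (w * A) ∧ A ∈ zpowers (w * A) := by
  have : w ∈ zpowers (w * A) := zpowers_le.2 (show w ^ n ∈ zpowers (w * A) from
    ⟨n, by simp only [zpow_natCast, c.mul_pow, h, mul_one]⟩) (mem_zpowers_pow_iff.2 e)
  exact ⟨this, by simpa using mul_mem (inv_mem this) (mem_zpowers (w * A))⟩

theorem inv_zp {x s y : Y} (h : s * x * s⁻¹ = x⁻¹) (hy : y ∈ zpowers x) : s * y * s⁻¹ = y⁻¹ := by
  obtain ⟨i, rfl⟩ := hy
  simp only [← conj_zpow, h, inv_zpow]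

theorem inv_of_sq {x s : Y} (h : s * s = 1) (h' : s * x * (s * x) = 1) : s * x * s⁻¹ = x⁻¹ := by
  rw [inv_eq_of_mul_eq_one_right h, eq_inv_iff_mul_eq_one, mul_assoc, h']

theorem oic {x y : Y} (h : IsConj x y) : orderOf y = orderOf x := by
  obtain ⟨g, rfl⟩ := isConj_iff.1 h
  exact oconj g x

theorem sq_zp {c g : Y} (hg : g ∈ zpowers c) : g ∈ zpowers (c ^ 2) ∨ c⁻¹ * g ∈ zpowers (c ^ 2) := by
  obtain ⟨i, rfl⟩ := hg
  obtain ⟨k, rfl | rfl⟩ := Int.even_or_odd' i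
  · exact Or.inl ⟨k, by simp only [zpow_mul, zpow_two, sq]⟩
  · exact Or.inr ⟨k, by
      simp only [add_comm _ (1 : ℤ), zpow_add, zpow_one, inv_mul_cancel_left, zpow_mul, zpow_two, sq]⟩

theorem omega_one {m : ℕ} (h : m ≠ 0) (e : Ω m ≤ 1) : m = 1 ∨ m.Prime := by
  rcases Nat.le_one_iff_eq_zero_or_eq_one.1 e with e | e
  · exact Or.inl ((cardFactors_eq_zero_iff_eq_zero_or_one.1 e).resolve_left h)
  · exact Or.inr (cardFactors_eq_one_iff_prime.1 e)

theorem tw_of (hD : D2 Y) (hL : L.index = 2) (ht : orderOf t = 2) (e : zpowers w = Kt L t) :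
    Tw t w := by
  have o := odd_Kt hD L ht
  rw [← e, Nat.card_zpowers] at o
  exact ⟨⟨1, by rw [pow_one, sq, ii ht]⟩, odd_iff_cop.1 o,
    (c1c.1 (Uo_le t (Kt_eq hD L ht ▸ e ▸ mem_zpowers w : w ∈ Uo t ⊓ L).1)).symm, fun k c r =>
      e ▸ subset_closure ⟨mem_odd hL (odd_iff_cop.2 r), c.symm, odd_iff_cop.2 r⟩⟩

/-- the local data -/
structure YO (L : Subgroup Y) (A B w w' y : Y) (Q : ℤ) (q : ℕ) : Prop
    extends PY L (A ^ 2) B w w' y Q q where
  Q8 : Q % 8 = 3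
  cw : Commute w A
  Bw : B * w * B⁻¹ = w⁻¹
  cj : ∀ g ∈ Cen1 (A ^ 2), g ∈ zpowers (w * A) ∨ B * g ∈ zpowers (w * A)
  m1 : orderOf w = 1 ∨ (orderOf w).Prime
  nw : w ≠ 1 → Cen1 w ≤ Cen1 (A ^ 2)
  cy : Cen1 y ≤ zpowers y
  yk : ∀ k : ℕ, 0 < k → k < q → ∃ g, g * y * g⁻¹ = y ^ k
  inn : ∀ t ∈ L, orderOf t = 2 → IsConj (A ^ 2) t
  out : ∀ t ∉ L, orderOf t = 2 → IsConj B t
  neg : Q = q → ∃ g ∉ L, g * y * g⁻¹ = y⁻¹
  n11 : q ≠ 11
  card : Nat.card Y = q * (q ^ 2 - 1)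

theorem YS.yo (h : YS T A B) : ∃ L w w' y Q q, YO L A B w w' y Q q := by
  obtain ⟨L, hL, hB⟩ := h.exL
  obtain ⟨F, _, _, π, h3, c⟩ := h.ctx hL
  obtain ⟨τ, σ, hn⟩ := exists_num c.two
  have nL := c.nor
  have jL := sq_mem_of_index_two hL A
  have pq := h.prime hL c hB h3
  have := Fact.mk pq
  have : CharP F (Fintype.card F) := charP_of_card_eq_prime rfl
  obtain ⟨w, hw⟩ := (Subgroup.isCyclic_iff_exists_zpowers_eq_top _).1 (c.cyc h.d2 h.oj)
  obtain ⟨w', hw'⟩ := (Subgroup.isCyclic_iff_exists_zpowers_eq_top _).1 (c.cyc h.d2 h.oB)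
  have tj := tw_of h.d2 hL h.oj hw
  have ow : Odd (orderOf w) := odd_iff_cop.2 tj.rw
  have τm := h.tau c hB hn jL
  have σm := c.card_out hn h.d2 h.oB hB
  rw [← hw, Nat.card_zpowers] at τm
  rw [← hw', Nat.card_zpowers] at σm
  have wK : w ∈ Kt L (A ^ 2) := hw ▸ mem_zpowers w
  have wL := mem_odd hL ow
  obtain ⟨J, hJ⟩ := c.lin h.d2 h.oj
  obtain ⟨J', hJ'⟩ := c.lin h.d2 h.oB
  have Bw := c.inv h.d2 h.f4 wK
  have A4 : A ^ 4 = 1 := h.oA ▸ pow_orderOf_eq_one A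
  have BA : ∀ x ∈ zpowers A, B ≠ x := fun x hx e =>
    h.f4.ne (inv_uniq (e ▸ hx) (npow_mem_zpowers A 2) h.oB h.oj)
  have cw : Commute w A := by
    have f : F4 (A ^ 2) (A * B) := ⟨h.oj, orderOf_eq_prime (by
      rw [sq, show A * B * (A * B) = A * (B * A * B⁻¹) * (B * B) by group, h.BA, ii h.oB]; group)
      fun e => BA _ (inv_mem (mem_zpowers A)) (eq_inv_of_mul_eq_one_right e),
      (c1.1 (mul_mem h.Aj h.Bj)).symm, fun e => BA _ (mem_zpowers A) (by rwa [sq, mul_right_inj] at e)⟩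
    have := c.inv h.d2 f wK
    rw [show A * B * w * (A * B)⁻¹ = A * (B * w * B⁻¹) * A⁻¹ by group, Bw, mul_inv_eq_iff_eq_mul]
      at this
    exact (Commute.inv_right_iff.1 (show Commute A w⁻¹ from this)).symm
  obtain ⟨wc, Ac⟩ := zp_mul cw A4 (Nat.Coprime.pow_left 2 tj.rw.symm)
  have oc : orderOf (w * A) = orderOf w * 4 := by
    rw [cw.orderOf_mul_eq_mul_orderOf_of_coprime (h.oA ▸ Nat.Coprime.pow_right 2 tj.rw), h.oA]
  have Bc : B * (w * A) * B⁻¹ = (w * A)⁻¹ := by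
    rw [cw.eq, mul_inv_rev, ← Bw, ← h.BA, ← cw.eq]; group
  have cj : ∀ g ∈ Cen1 (A ^ 2), g ∈ zpowers (w * A) ∨ B * g ∈ zpowers (w * A) := fun g hg => by
    refine (mem_dih h.oB Bc).1 (((le_sup_sylow (nUo _) (npc_iff_pPrimeCoreIn.1 (h.d2.npc h.oj))
      ((isSylowOf_top T).of_le h.Tj le_top)).trans (sup_le (fun x hx => mem_sup_left
        (zpowers_le.2 wc ?_)) fun x hx => ?_) : _ ≤ _) hg)
    · rw [hw, Kt_eq h.d2 L h.oj]
      exact ⟨hx, mem_odd hL (odd_ord (odd_Oo _) hx)⟩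
    · obtain ⟨i, rfl | rfl⟩ := h.mem x hx
      exacts [mem_sup_left (zpow_mem Ac i), mul_mem (mem_sup_left (zpow_mem Ac i))
        (mem_sup_right (mem_zpowers B))]
  have jc : A ^ 2 ∈ zpowers (w * A) := pow_mem Ac 2
  obtain ⟨s, sL, f⟩ := c.ex_four hJ h.oj
  have Bs := (cj s f.aH).resolve_left fun e => f.ne (inv_uniq e jc f.ha h.oj)
  have cL : w * A ∉ L := fun e => hB ((mul_mem_cancel_right sL).1 (zpowers_le.2 e Bs))
  have AL : A ∉ L := fun e => cL (mul_mem wL e)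
  have inn : ∀ t ∈ L, orderOf t = 2 → IsConj (A ^ 2) t := fun t ht o =>
    let ⟨l, _, e⟩ := c.conj jL ht h.oj o
    isConj_iff.2 ⟨l, e⟩
  have nj : Nat.card (Cen1 (A ^ 2)) = 8 * orderOf w := by
    rw [card_two hL h.Aj AL, c.card_CL hJ h.oj, c.card_in0 hn h.oj hJ jL]; omega
  have yp : ∀ k : ℕ, π (uT 1) ^ k = π (uT (k * 1)) := fun k => by rw [← map_pow, uT_pow]
  have oy : orderOf (π (uT (1 : F))) = Fintype.card F := orderOf_eq_prime (by
    rw [yp, CharP.cast_eq_zero, zero_mul, uT_zero, map_one]) fun e =>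
      one_ne_zero (c.uT_inj (a := 1) (b := 0) (by rw [e, uT_zero, map_one]))
  have cY : Nat.card Y = Fintype.card F * (Fintype.card F ^ 2 - 1) := by
    rw [← c.card_L, ← L.card_mul_index, hL, mul_comm]
  have cyL : ∀ g ∈ L, g ∈ Cen1 (π (uT 1)) → g ∈ zpowers (π (uT 1)) := fun g gL hg => by
    obtain ⟨k, rfl⟩ := c.ex gL
    obtain ⟨x, e⟩ := c.comm_u one_ne_zero (c1.1 hg)
    obtain ⟨n, rfl⟩ := (ZMod.ringEquiv F rfl).surjective x
    obtain ⟨n, rfl⟩ := ZMod.natCast_zmod_surjective n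
    exact ⟨n, by simp only [zpow_natCast, yp, e, map_natCast, mul_one]⟩
  have q2 := odd_card c.two
  have i1 := c.idx hn h.oj jL
  have i2 := c.odd_idx hn h.oj
  obtain ⟨Q, Q8, eQ, iQ, mQ, neg, qσ⟩ : ∃ Q : ℤ, Q % 8 = 3 ∧ Q.natAbs = Fintype.card F ∧
      2 * ((Fintype.card F * σ : ℕ) : ℤ) = Q * (Q - 1) ∧ (Q + 1) ^ 2 = 16 * (orderOf w : ℤ) ^ 2 ∧
      (Q = Fintype.card F → ¬ IsSquare (-1 : F)) ∧ σ < Fintype.card F := by
    obtain ⟨m, hm⟩ := ow
    obtain ⟨-, ⟨h1, h2, h4⟩ | ⟨h1, h2, h4⟩⟩ := hn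
    · refine ⟨-Fintype.card F, by omega, by simp, ?_, ?_, by omega, by omega⟩
      · rw [h2, h4]; push_cast; ring
      · rw [h2, τm]; push_cast; ring
    · refine ⟨Fintype.card F, by omega, by simp, ?_, ?_, fun _ => h1, by omega⟩
      · have : (Fintype.card F : ℤ) = 2 * σ + 1 := by omega
        push_cast; rw [this]; ring
      · have : (Fintype.card F : ℤ) = 4 * orderOf w - 1 := by omega
        rw [this]; ring
  refine ⟨L, w, w', π (uT 1), Q, _, ⟨hL, h.oj, jL, h.oB, hB, tj, tw_of h.d2 hL h.oB hw', nj, ?_,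
    i1 ▸ i2.not_two_dvd_nat, fun y hy => ?_, i1 ▸ iQ, mQ, pq, eQ, by omega, fun e => ?_, oy⟩, Q8, cw, Bw, cj,
    omega_one (orderOf_pos w).ne' ?_, fun e => (cnor (cen_zp w).ge).trans
      (c.F4' h.d2 h.oj hw.le (by simpa using e)), fun g hg => ?_, fun k k0 kq => ?_, inn,
    fun t tL o => ?_, fun e => ?_, h.n11 hL c, cY⟩
  · rw [card_two hL (c1.2 rfl) hB, c.card_CL hJ' h.oB, c.card_out0 hn h.oB hJ' hB]; omega
  · have yc : A ^ 2 * y ∈ zpowers (w * A) := mul_mem jc (zpowers_le.2 wc hy)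
    have cy : Commute y (A ^ 2) := c1c.1 (zpowers_le.2 (c1c.2 tj.c.symm) hy)
    have oy : Odd (orderOf y) := odd_ord (Nat.card_zpowers w ▸ ow) hy
    have o2 : ∀ x, B * x ∈ zpowers (w * A) → orderOf x = 2 := fun x hx => orderOf_eq_prime (by
      have := inv_zp Bc hx
      rw [mul_inv_rev, mul_left_inj, ← mul_assoc, ii h.oB, one_mul] at this
      rw [sq]; exact mul_eq_one_iff_eq_inv.2 this) fun e => h.f4.ne (inv_uniq (by simpa [e] using hx)
        jc h.oB h.oj)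
    rw [card_coset (s := s) (d := (w * A) ^ 2) fun x => ⟨fun e => ?_, fun e => ?_⟩,
      orderOf_pow, oc, show orderOf w * 4 = 2 * orderOf w * 2 by ring, Nat.gcd_mul_left_left,
      Nat.mul_div_cancel _ two_pos]
    · obtain ⟨h1, h2⟩ := e
      have x2 := (oic h1).trans h.oj
      have x3 := (oic h2).trans h.oj
      have xj : x ∈ Cen1 (A ^ 2) := c1'.2 ((inv_zp (inv_of_sq (ii x2) (ii x3)) (cy.eq ▸
        (zp_mul cy (n := 2) (by rw [sq, ii h.oj]) (odd_iff_cop.1 oy).symm).2)).trans (iinv h.oj))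
      have Bx := (cj x xj).resolve_left fun e => by
        rw [inv_uniq e jc x2 h.oj, ← mul_assoc, ii h.oj, one_mul] at x3
        simp [x3] at oy
        exact absurd oy (by decide)
      obtain ⟨g, rfl⟩ := isConj_iff.1 h1
      have m := mul_mem sL (nL.conj_mem _ jL g)
      have := mul_mem (inv_mem Bs) Bx
      rw [mul_inv_rev, iinv f.ha, mul_assoc, inv_mul_cancel_left] at this
      exact (sq_zp this).resolve_right fun e => cL (inv_mem_iff.1 ((mul_mem_cancel_right m).1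
        (zpowers_le.2 (sq_mem_of_index_two hL _) e)))
    · have xL := (mul_mem_cancel_left sL).1 (zpowers_le.2 (sq_mem_of_index_two hL _) e)
      have Bx := mul_mem Bs (zpowers_le.2 (npow_mem_zpowers _ 2) e)
      rw [mul_assoc, ← mul_assoc s, ii f.ha, one_mul] at Bx
      exact ⟨inn x xL (o2 x Bx), inn _ (mul_mem xL (mul_mem jL (mem_odd hL oy)))
        (o2 _ (mul_assoc B x _ ▸ mul_mem Bx yc))⟩
  · rw [cY, sq, Nat.mul_dvd_mul_iff_left pq.pos] at e
    have := (Nat.dvd_sub_iff_right (Nat.mul_pos pq.pos pq.pos) (Dvd.intro _ rfl)).1 e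
    exact pq.one_lt.ne' (Nat.dvd_one.1 this)
  · have := (ht_solv (h.d2.solv_cen h.oj)).succ (H := ⊤) (lt_top_iff_ne_top.2 fun e => h.ns
      (haveI := h.d2.solv_cen h.oj
      Group.isSolvable_of_surjective (f := (Cen1 (A ^ 2)).subtype) fun g => ⟨⟨g, e.ge trivial⟩, rfl⟩))
    rw [nj, cardFactors_mul (by norm_num) (orderOf_pos w).ne', show Ω 8 = 3 from
      cardFactors_apply_prime_pow (k := 3) Nat.prime_two] at this
    by_contra! c
    exact h.ht (this.le (by omega))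
  · refine cyL g (by_contra fun gL => ?_) hg
    have g2 := cyL _ (sq_mem_of_index_two hL g) (pow_mem hg 2)
    have tL : g ^ Fintype.card F ∉ L := by
      obtain ⟨k, hk⟩ := Nat.odd_iff.2 q2
      rw [hk, pow_succ, pow_mul]
      exact fun e => gL ((mul_mem_cancel_left (pow_mem (sq_mem_of_index_two hL g) k)).1 e)
    have ot : orderOf (g ^ Fintype.card F) = 2 := orderOf_eq_prime (by
      rw [← pow_mul, mul_comm, pow_mul, ← oy, ← Nat.card_zpowers]
      exact congrArg Subtype.val (pow_card_eq_one' (x := (⟨_, g2⟩ : zpowers _))))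
      fun e => tL (e ▸ one_mem L)
    have := orderOf_dvd_natCard (⟨_, subset_closure ⟨c.mem (uT 1), (c1c.1 (pow_mem hg _)).symm,
      oy ▸ Nat.odd_iff.2 q2⟩⟩ : Kt L (g ^ Fintype.card F))
    rw [c.card_out hn h.d2 ot tL, ← orderOf_coe, oy] at this
    exact absurd (Nat.le_of_dvd hn.odd.pos this) (by omega)
  · obtain ⟨g, -, hg⟩ := h.dg c hB (k := (k : F)) fun e =>
      absurd (Nat.le_of_dvd k0 ((CharP.cast_eq_zero_iff F _ k).1 e)) (by omega)
    exact ⟨g, by rw [hg, yp]⟩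
  · obtain ⟨g, -, e⟩ := (isSylowOf_top T).exists_conj_le (two_zp o) le_top
    have gL : g * t * g⁻¹ ∉ L := fun e => tL (by simpa [mul_assoc] using nL.conj_mem _ e g⁻¹)
    have j2 : ∀ k : ℤ, A ^ (2 * k) ∈ L := fun k => by
      rw [zpow_mul, zpow_two, ← sq]; exact zpow_mem jL k
    refine IsConj.trans ?_ (isConj_iff.2 ⟨g, rfl⟩).symm
    obtain ⟨i, e | e⟩ := h.mem (g * t * g⁻¹) (e ⟨t, mem_zpowers t, rfl⟩)
    · obtain ⟨k, e'⟩ := h.even (e ▸ ii (iconj o g))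
      exact absurd (e ▸ e' ▸ zpow_mem jL k) gL
    obtain ⟨k, rfl | rfl⟩ := Int.even_or_odd' i
    · refine isConj_iff.2 ⟨A ^ k, ?_⟩
      rw [e, ← zpow_neg, ← h.Bi, mul_assoc, ← mul_assoc B, ← mul_assoc B, ii h.oB, iinv h.oB, one_mul,
        ← mul_assoc, ← zpow_add, two_mul]
    · refine absurd ?_ gL
      rw [e, zpow_add, zpow_one, mul_assoc]
      exact mul_mem (j2 k) ((mul_mem_iff_of_index_two hL).2 (by tauto))
  · obtain ⟨g, gL, hg⟩ := h.dg c hB (neg_ne_zero.2 one_ne_zero)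
    exact ⟨g, mt gL.1 (neg e), by rw [hg, ← map_inv, uT_inv, mul_one]⟩

end LN.E
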