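import Cfsg.Agent.LN.E5

/-! The centralizer of an involution, semidihedral case. -/

set_option autoImplicit false
set_option linter.unusedSectionVars false

namespace LN.E

open Cfsg Subgroup FT H4 H5 GW L
open scoped Classical

universe u

variable {G X Y : Type u} [Group G] [Finite G] [Group X] [Finite X] [Group Y] [Finite Y]

theorem odd_zp {w a k : G} {n : ℕ} (c : Commute w a) (h : a ^ 2 ^ n = 1) (hk : k ∈ zpowers (w * a))
    (o : Odd (orderOf k)) : k ∈ zpowers w := by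
  obtain ⟨i, rfl⟩ := hk
  refine zpowers_le.2 ?_ (mem_zpowers_pow_iff.2 (Nat.Coprime.pow_left n (odd_iff_cop.1 o).symm))
  simp only
  rw [← zpow_natCast, ← zpow_mul, mul_comm, zpow_mul, zpow_natCast, c.mul_pow, h, mul_one]
  exact zpow_mem (npow_mem_zpowers _ _) _

/-- central extension by an involution -/
structure CE (ρ : X →* Y) (z : X) : Prop where
  hs : Function.Surjective ρ
  ker : ρ.ker = zpowers z
  oz : orderOf z = 2
  cen : ∀ g, Commute g z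

namespace CE

variable {ρ : X →* Y} {z u v : X} (h : CE ρ z)
include h

theorem z1 : ρ z = 1 := h.ker.ge (mem_zpowers z)

theorem eq (e : ρ u = ρ v) : u = v ∨ u = v * z := by
  have : v⁻¹ * u ∈ zpowers z := h.ker ▸ (by simp [e] : v⁻¹ * u ∈ ρ.ker)
  exact (GW.mem_zp2 (ii h.oz) this).imp (fun e => (inv_mul_eq_one.1 e).symm) fun e =>
    inv_mul_eq_iff_eq_mul.1 e

theorem sq (e : ρ u = ρ v) : u * u = v * v := by
  rcases h.eq e with rfl | rfl
  · rfl
  · rw [mul_assoc, ← mul_assoc z, ← (h.cen v).eq, mul_assoc, ii h.oz, mul_one]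

theorem zodd {n : ℕ} (o : Odd n) : z ^ n = z := by
  obtain ⟨k, rfl⟩ := o
  rw [pow_succ, pow_mul, pow_two, ii h.oz, one_pow, one_mul]

theorem inj (e : ρ u = ρ v) (ou : Odd (orderOf u)) (ov : Odd (orderOf v)) : u = v :=
  (h.eq e).resolve_right fun e => ine h.oz (by
    have : u ^ (orderOf u * orderOf v) = 1 := by rw [pow_mul, pow_orderOf_eq_one, one_pow]
    rwa [e, (h.cen v).mul_pow, h.zodd (e ▸ ou.mul ov), mul_comm (orderOf _), pow_mul,
      pow_orderOf_eq_one, one_pow, one_mul] at this)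

theorem lift {y : Y} (o : Odd (orderOf y)) : ∃ x, ρ x = y ∧ orderOf x = orderOf y := by
  have k : ∀ x, ρ x = y → x ^ orderOf y = 1 → ∃ x, ρ x = y ∧ orderOf x = orderOf y := fun x e e' =>
    ⟨x, e, Nat.dvd_antisymm (orderOf_dvd_of_pow_eq_one e') (e ▸ orderOf_map_dvd ρ x)⟩
  obtain ⟨g, rfl⟩ := h.hs y
  rcases h.eq (u := g ^ orderOf (ρ g)) (v := 1) (by simp [pow_orderOf_eq_one]) with e | e
  · exact k g rfl e
  · exact k (g * z) (by simp [h.z1]) (by rw [(h.cen g).mul_pow, e, h.zodd o, one_mul, ii h.oz])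

theorem pull (hz : z ∈ zpowers v) (e : ρ u ∈ zpowers (ρ v)) : u ∈ zpowers v := by
  obtain ⟨i, e⟩ := e
  rcases h.eq (u := u) (v := v ^ i) (by rw [map_zpow]; exact e.symm) with rfl | rfl
  exacts [zpow_mem_zpowers _ _, mul_mem (zpow_mem_zpowers _ _) hz]

end CE

/-- the local data -/
structure GD (z a b w x : G) (Q : ℤ) (q : ℕ) : Prop where
  oa : orderOf a = 8
  a4 : a ^ 4 = z
  oz : orderOf z = 2
  bb : b * b = 1
  ab : b * a * b⁻¹ = a ^ 3
  cw : Commute w a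
  bw : b * w * b⁻¹ = w⁻¹
  ow : Odd (orderOf w)
  m1 : orderOf w = 1 ∨ (orderOf w).Prime
  nw : w ≠ 1 → Cen1 z ⊓ Cen1 w ≤ zpowers (w * a)
  one : ∀ t, orderOf t = 2 → IsConj z t
  xz : x ∈ Cen1 z
  ox : orderOf x = q
  pq : q.Prime
  cx : Cen1 z ⊓ Cen1 x ≤ zpowers (x * z)
  xk : ∀ k : ℕ, 0 < k → k < q → ∃ g ∈ Cen1 z, g * x * g⁻¹ = x ^ k
  neg : Q = q → ∃ v ∈ Cen1 z, v * v = 1 ∧ v * x * v⁻¹ = x⁻¹
  g8 : Q = -q → ∃ g ∈ Nor (zpowers x), g ^ 4 = z
  eq : Q.natAbs = q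
  Q8 : Q % 8 = 3
  five : 5 ≤ q
  n11 : q ≠ 11
  mQ : (Q + 1) ^ 2 = 16 * (orderOf w : ℤ) ^ 2
  card : Nat.card (Cen1 z) = 2 * (q * (q ^ 2 - 1))
  odd : Odd (Cen1 z).index
  main : ∃ K F : ℤ, (Cen1 z).index * (K - Q) ^ 2 = Q * (Q - 1) * (Q + 1) ^ 2 * K * (K - 1) ∧
    (K - Q ^ 2) * (F + Q ^ 2) = -Q ^ 2 * (Q ^ 2 - 1)

theorem sds_one {S : Sylow 2 G} {a b t : G} (H : Hy G) (h : SDS S 0 a b) (ht : orderOf t = 2) :
    IsConj (a ^ 4) t := by
  have := H.sim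
  have ob : orderOf b = 2 := orderOf_eq_prime (by rw [pow_two, h.hb2]) fun e => h.hb (e ▸ one_mem _)
  have cS : Nat.card S = 16 := by
    have : (S : Subgroup G) = zpowers a ⊔ zpowers b := le_antisymm (fun x hx => by
      obtain ⟨i, rfl | rfl⟩ := h.hmem x hx
      exacts [mem_sup_left (zpow_mem_zpowers _ _), mul_mem_sup (zpow_mem_zpowers _ _) (mem_zpowers _)])
      (sup_le (zpowers_le.2 h.haS) (zpowers_le.2 h.hbS))
    change Nat.card (S : Subgroup G) = 16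
    rw [this, H7.card_sup_zpowers (p := 2) (N := zpowers a) (mnor fun _ ⟨i, e⟩ => by
      rw [← e, h.cj i]
      exact mul_mem (zpow_mem_zpowers _ _) (zpow_mem (npow_mem_zpowers _ _) _)) h.hb
      (by rw [pow_two, h.hb2]; exact one_mem _), Nat.card_zpowers, h.ha]
    rfl
  have zb : IsConj (a ^ 4) b := by
    by_contra nc
    obtain ⟨φ, hφ⟩ := sign_hom (zpowers a) (by
      have h1 := (zpowers a).card_mul_index
      have h2 := (S : Subgroup G).card_mul_index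
      have h3 := S.not_dvd_index
      rw [Nat.card_zpowers, h.ha] at h1
      rw [show Nat.card (S : Subgroup G) = 16 from cS] at h2
      omega)
    have e := H2.index_ker_of_neg_one φ (hφ b h.hb2 fun g hg => nc
      (inv_uniq hg (npow_mem_zpowers a 4) (iconj ob g) h.oz ▸ (isConj_iff.2 ⟨g, rfl⟩).symm))
    rcases φ.normal_ker.eq_bot_or_eq_top with e' | e'
    · have := (S : Subgroup G).card_mul_index
      rw [e', index_bot] at e
      rw [show Nat.card (S : Subgroup G) = 16 from cS] at this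
      omega
    · simp [e'] at e
  obtain ⟨g, -, e⟩ := (isSylowOf_top S).exists_conj_le (two_zp ht) le_top
  refine IsConj.trans ?_ (isConj_iff.2 ⟨g, rfl⟩).symm
  by_cases c : g * t * g⁻¹ = a ^ 4
  · rw [c]
  · exact zb.trans (h.inv (e ⟨t, mem_zpowers t, rfl⟩) (iconj ht g) c)

theorem exists_GD {S : Sylow 2 G} {a b : G} (H : Hy G) (h : SDS S 0 a b)
    (ns : ¬ Group.IsSolvable (Cen1 (a ^ 4))) : ∃ z a b w x : G, ∃ Q q, GD z a b w x Q q := by
  have := H.sim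
  have one := fun t => sds_one (t := t) H h
  obtain ⟨z, az⟩ : ∃ z, a ^ 4 = z := ⟨_, rfl⟩
  rw [az] at ns one
  have cz : (S : Subgroup G) ≤ Cen1 z := fun x hx => az ▸ h.cen hx
  have oz : orderOf z = 2 := az ▸ h.oz
  have hT : Cen1 z ≠ ⊤ := fun e => ine oz (mem_bot.1 ((show center G = ⊥ from
    (Normal.eq_bot_or_eq_top inferInstance).resolve_right fun e => H.hG (center_eq_top_iff.1 e)) ▸
      mem_center_iff.2 fun g => c1.1 (e.ge (mem_top g))))
  lift a to Cen1 z using cz h.haS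
  lift b to Cen1 z using cz h.hbS
  have h' : SDS (S.subtype cz) 0 a b := ⟨h.haS, h.hbS, (orderOf_coe a).symm.trans h.ha,
    Subtype.ext h.hb2, Subtype.ext h.hab, fun ⟨j, e⟩ => h.hb ⟨j, congrArg Subtype.val e⟩,
    fun x hx => (h.hmem x hx).imp fun j e => e.imp Subtype.ext Subtype.ext⟩
  obtain ⟨ζ, hζ⟩ : ∃ ζ : Cen1 z, ζ = ⟨z, c1.2 rfl⟩ := ⟨_, rfl⟩
  have ζz : (ζ : G) = z := by rw [hζ]
  have a4 : a ^ 4 = ζ := Subtype.ext (az.trans ζz.symm)
  have cen : ∀ g : Cen1 z, Commute g ζ := fun g => Subtype.ext (by simpa [ζz] using c1.1 g.2)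
  have : (zpowers ζ).Normal := normalizer_eq_top_iff.1 (eq_top_iff.2 fun g _ => mzp (c1c.2 (cen g)))
  obtain ⟨ρ, E⟩ : ∃ ρ : Cen1 z →* Cen1 z ⧸ zpowers ζ, CE ρ ζ := ⟨_, QuotientGroup.mk'_surjective _,
    QuotientGroup.ker_mk' _, (orderOf_coe _).symm.trans (by rw [ζz, oz]), cen⟩
  have oa : orderOf a = 8 := h'.ha
  have a8 : a ^ 2 ^ 3 = 1 := (show 2 ^ 3 = orderOf a from oa.symm) ▸ pow_orderOf_eq_one a
  have ne : ∀ i j : ℕ, i % 8 ≠ j % 8 → a ^ i ≠ a ^ j := fun i j c e =>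
    c (oa ▸ pow_eq_pow_iff_modEq.1 e)
  have ab : b * a * b⁻¹ = a ^ 3 := h'.hab.trans (by group)
  have BA : ρ b * ρ a * (ρ b)⁻¹ = (ρ a)⁻¹ := by
    rw [← map_inv, ← map_mul, ← map_mul, h'.hab, show a ^ 2 ^ (0 + 2) = ζ from a4, map_mul, E.z1,
      mul_one, map_inv]
  have oA : orderOf (ρ a) = 2 ^ (1 + 1) := orderOf_eq_prime_pow (fun e => by
    rcases E.eq (u := a ^ 2) (v := a ^ 0) (by simpa using e) with e | e
    exacts [ne _ _ (by decide) e, ne 2 4 (by decide) (by simpa [a4] using e)])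
    (by rw [← map_pow]; exact a4 ▸ E.z1)
  have Bn : ρ b ∉ zpowers (ρ a) := fun e => h'.hb (E.pull (a4 ▸ npow_mem_zpowers _ _) e)
  have BB : ρ b ^ 2 = 1 := by rw [pow_two, ← map_mul, h'.hb2, map_one]
  have mT : ∀ x ∈ (((S.subtype cz).mapSurjective E.hs : Sylow 2 _) : Subgroup _),
      ∃ i : ℤ, x = ρ a ^ i ∨ x = ρ a ^ i * ρ b := fun _ ⟨x, hx, e⟩ => (h'.hmem x hx).imp fun i e' =>
    e'.imp (fun e' => by rw [← e, e', map_zpow]) fun e' => by rw [← e, e', map_mul, map_zpow]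
  have ys : YS ((S.subtype cz).mapSurjective E.hs) (ρ a) (ρ b) := by
    refine ⟨h'.d2 ρ E.hs (a4 ▸ E.z1), oA, orderOf_eq_prime BB fun e => Bn (e ▸ one_mem _), BA,
      fun e => ?_, ?_, mT, ⟨a, h.haS, rfl⟩, ⟨b, h.hbS, rfl⟩, fun s => ns ?_, fun e => ?_⟩
    · obtain ⟨g, e⟩ := isConj_iff.1 e
      obtain ⟨g, rfl⟩ := E.hs g
      have := E.sq (u := g * a ^ 2 * g⁻¹) (v := b) (by simpa using e)
      rw [h'.hb2, ← pow_two, conj_pow, ← pow_mul, a4, (cen g).eq, mul_inv_cancel_right] at this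
      exact ine E.oz this
    · have : (((S.subtype cz).mapSurjective E.hs : Sylow 2 _) : Subgroup _) =
          zpowers (ρ a) ⊔ zpowers (ρ b) := le_antisymm (fun x hx => by
        obtain ⟨i, rfl | rfl⟩ := mT x hx
        exacts [mem_sup_left (zpow_mem_zpowers _ _),
          mul_mem_sup (zpow_mem_zpowers _ _) (mem_zpowers _)])
        (sup_le (zpowers_le.2 ⟨a, h.haS, rfl⟩) (zpowers_le.2 ⟨b, h.hbS, rfl⟩))
      change Nat.card (Sylow.toSubgroup ((S.subtype cz).mapSurjective E.hs)) = 8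
      rw [this, H7.card_sup_zpowers (p := 2) (mnor fun _ e => inv_zp BA e ▸ inv_mem e) Bn
        (BB ▸ one_mem _), Nat.card_zpowers, oA]
      rfl
    · have := solv_zp ζ
      exact Group.isSolvable_of_ker_le_range (zpowers ζ).subtype ρ (by simp [E.ker])
    · exact H.l7.not7 hT (Ht.surj E.hs (m := 1) ((Ht.zero ⊥).succ (bot_lt_iff_ne_bot.2 (by
        simpa [E.ker] using ine E.oz))) e).of_top
  obtain ⟨L, _, w', _, Q, q, p⟩ := ys.yo
  obtain ⟨w, rfl, ow⟩ := E.lift (odd_iff_cop.2 p.tj.rw)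
  have oq : Odd q := by
    have := p.Q8
    have := p.eq
    exact Nat.odd_iff.2 (by omega)
  obtain ⟨x, rfl, ox⟩ := E.lift (p.oy ▸ oq)
  rw [p.oy] at ox
  have ow' : Odd (orderOf w) := ow ▸ odd_iff_cop.2 p.tj.rw
  have cw : Commute w a := (c1c.1 (c1'.2 (E.inj (by
    rw [map_mul, map_mul, map_inv, ← p.cw.eq, mul_inv_cancel_right]) (oconj a w ▸ ow') ow'))).symm
  have bw : b * w * b⁻¹ = w⁻¹ := E.inj (by simpa using p.Bw) (oconj b w ▸ ow') (by simpa using ow')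
  obtain ⟨wc, ac⟩ := zp_mul cw a8 (Nat.Coprime.pow_left 3 (odd_iff_cop.1 ow').symm)
  have zc : ζ ∈ zpowers (w * a) := a4 ▸ pow_mem ac 4
  have cj : ∀ g, ρ g ∈ Cen1 (ρ a ^ 2) → g ∈ zpowers (w * a) ∨ b * g ∈ zpowers (w * a) := fun g hg =>
    (p.cj _ hg).imp (fun e => E.pull zc (by rwa [map_mul])) fun e => E.pull zc (by rwa [map_mul, map_mul])
  have ca : zpowers (w * a) ≤ Cen1 a := zpowers_le.2 (c1c.2 (cw.mul_left rfl))
  have up : ∀ {g c : Cen1 z}, g ∈ zpowers c → (g : G) ∈ zpowers (c : G) := fun ⟨i, e⟩ =>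
    ⟨i, congrArg Subtype.val e⟩
  have b2 : b * a ^ 2 * b⁻¹ = a ^ 6 := by rw [← conj_pow, ab, ← pow_mul]
  have i2 : (a ^ 2)⁻¹ = a ^ 6 := inv_eq_of_mul_eq_one_right (by rw [← pow_add]; exact a8)
  have c2 : Cen1 ((a : G) ^ 2) ≤ zpowers ((w : G) * a) := fun g hg => by
    lift g to Cen1 z using az ▸ c1c.2 (by simpa [← pow_mul] using (c1c.1 hg).pow_right 2)
    have hg' : Commute g (a ^ 2) := Subtype.ext (c1.1 hg)
    refine up ((cj g (c1c.2 (by simpa using hg'.map ρ))).resolve_right fun e => ne 6 2 (by decide) ?_)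
    rw [← b2, c1'.1 ((mul_mem_cancel_right (c1c.2 hg')).1 (c1c.2 ((c1c.1 (ca e)).pow_right 2)))]
  have cwG : Commute (w : G) a := cw.map (Cen1 z).subtype
  have caG : zpowers ((w : G) * a) ≤ Cen1 (a : G) := zpowers_le.2 (c1c.2 (cwG.mul_left rfl))
  have c12 : Cen1 (a : G) ≤ Cen1 ((a : G) ^ 2) := fun g hg => c1c.2 ((c1c.1 hg).pow_right 2)
  have a8G : (a : G) ^ 2 ^ 3 = 1 := congrArg Subtype.val a8
  have owG : orderOf (w : G) = orderOf (ρ w) := (orderOf_coe w).trans ow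
  have oc : orderOf (w * a) = 8 * orderOf (ρ w) := by
    rw [cw.orderOf_mul_eq_mul_orderOf_of_coprime (oa ▸ Nat.Coprime.pow_right 3 (odd_iff_cop.1 ow')),
      oa, ow, mul_comm]
  have ocG : orderOf ((w : G) * a) = 8 * orderOf (ρ w) := (orderOf_coe (w * a)).trans oc
  have ta : Tw ((a : G) ^ 2) w := ⟨⟨2, by rw [← pow_mul]; exact a8G⟩, odd_iff_cop.1 ((orderOf_coe w).symm ▸ ow'),
    (cwG.pow_right 2).symm, fun k c r => odd_zp cwG a8G (c2 (c1c.2 c.symm)) (odd_iff_cop.2 r)⟩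
  have xk : ∀ k : ℕ, 0 < k → k < q → ∃ g, g * x * g⁻¹ = x ^ k := fun k k0 kq => by
    obtain ⟨g, e⟩ := p.yk k k0 kq
    obtain ⟨g, rfl⟩ := E.hs g
    exact ⟨g, E.inj (by simpa using e) (oconj g x ▸ ox ▸ oq)
      ((ox ▸ oq : Odd (orderOf x)).of_dvd_nat (orderOf_pow_dvd k))⟩
  have oy : ∀ u ∈ zpowers (ρ x), Odd (orderOf u) := fun u hu =>
    odd_ord (by rw [Nat.card_zpowers, p.oy]; exact oq) hu
  have y2 : ∀ g, g * ρ x * g⁻¹ = (ρ x)⁻¹ → orderOf g = 2 := fun g e => by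
    have m : g * g ∈ zpowers (ρ x) := p.cy (c1'.2 (by
      rw [show g * g * ρ x * (g * g)⁻¹ = g * (g * ρ x * g⁻¹) * g⁻¹ by group, e, ← conj_inv, e, inv_inv]))
    refine orderOf_eq_prime (pow_two g ▸ eq_one_of_inv_cen (oy _ m) (inv_zp e m)
      (c1.2 (mul_assoc _ _ _))) fun c => ?_
    have := eq_one_of_inv_cen (oy _ (mem_zpowers _)) e (c ▸ c1.2 (by simp))
    have h5 := p.five
    rw [← p.oy, this, orderOf_one] at h5
    omega
  have := Fintype.ofFinite G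
  have := Fintype.ofFinite (Cen1 z ⧸ zpowers ζ)
  refine ⟨z, a, b, w, x, Q, q, h.ha, az, oz, h.hb2, congrArg Subtype.val ab, cwG,
    congrArg Subtype.val bw, (orderOf_coe w).symm ▸ ow', owG ▸ p.m1, fun e g hg => ?_, one, x.2,
    (orderOf_coe x).trans ox, p.pq, fun g hg => ?_, fun k k0 kq => (xk k k0 kq).elim fun g e =>
      ⟨g, g.2, congrArg Subtype.val e⟩, fun e => ?_, fun e => ?_, p.eq, p.Q8, p.five, p.n11,
    owG ▸ p.mQ, ?_, Nat.odd_iff.2 ?_, PG.main H.hG (b := b) (w := w) (ρ := ρ) (x := x) ⟨az, oz,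
      congrArg Subtype.val ab, fun g e => ?_, ta, ⟨⟨3, a8G⟩, ta.rw, cwG.symm, fun k c r =>
        ta.reg k (c.pow_left 2) r⟩, owG, ?_, ?_, fun y hy => ?_, E.hs, hζ ▸ E.ker, rfl,
      ox ▸ pow_orderOf_eq_one x, fun k k0 kq => ?_⟩ p.toPY p.Q8⟩
  · lift g to Cen1 z using hg.1
    have c : Commute g w := Subtype.ext (c1.1 hg.2)
    have w1 : w ≠ 1 := fun c => e (by rw [c]; rfl)
    refine up ((cj g (p.nw (fun e => w1 (E.inj (by simpa using e) ow' (by simp)))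
      (c1c.2 (c.map ρ)))).resolve_right fun e => w1 (eq_one_of_inv_cen ow' bw (c1s.1 ?_)))
    exact (mul_mem_cancel_right (c1c.2 c)).1
      (zpowers_le.2 (c1c.2 ((Commute.refl w).mul_left cw.symm)) e)
  · lift g to Cen1 z using hg.1
    have c : Commute g x := Subtype.ext (c1.1 hg.2)
    have := up (E.pull (u := g) (v := x * ζ) (zp_mul (cen x) (n := 2) (by rw [pow_two, ii E.oz])
      (odd_iff_cop.1 (ox ▸ oq)).symm).2 (by simpa [E.z1] using p.cy (c1c.2 (c.map ρ))))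
    rwa [coe_mul, ζz] at this
  · obtain ⟨g, gL, e⟩ := p.neg e
    obtain ⟨g, rfl⟩ := E.hs g
    obtain ⟨u, e'⟩ := isConj_iff.1 (p.out _ gL (y2 _ e))
    obtain ⟨u, rfl⟩ := E.hs u
    have := E.sq (u := g) (v := u * b * u⁻¹) (by simpa using e'.symm)
    rw [← pow_two (u * b * u⁻¹), conj_pow, pow_two, h'.hb2, mul_one, mul_inv_cancel] at this
    exact ⟨g, g.2, congrArg Subtype.val this, congrArg Subtype.val (E.inj (u := g * x * g⁻¹) (v := x⁻¹)
      (by simpa using e) (oconj g x ▸ ox ▸ oq) (by simpa using ox ▸ oq))⟩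
  · have := Fact.mk p.pq
    have Q8 := p.Q8
    obtain ⟨k, hk⟩ := (ZMod.exists_sq_eq_neg_one_iff (p := q)).2 (by omega)
    obtain ⟨g, e⟩ := xk k.val (ZMod.val_pos.2 fun c => by simp [c] at hk) k.val_lt
    have e2 : ρ g ^ 2 * ρ x * (ρ g ^ 2)⁻¹ = (ρ x)⁻¹ := by
      rw [← map_pow, ← map_inv, ← map_inv, ← map_mul, ← map_mul, show g ^ 2 * x * (g ^ 2)⁻¹ =
        g * (g * x * g⁻¹) * g⁻¹ by rw [pow_two]; group, e, ← conj_pow, e, ← pow_mul]
      refine congrArg ρ (eq_inv_of_mul_eq_one_left ?_)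
      rw [← pow_succ, ← orderOf_dvd_iff_pow_eq_one, ox, ← ZMod.natCast_eq_zero_iff]
      simp [← hk]
    obtain ⟨u, e'⟩ := isConj_iff.1 (p.inn _ (sq_mem_of_index_two p.idx _) (y2 _ e2))
    obtain ⟨u, rfl⟩ := E.hs u
    have := E.sq (u := g ^ 2) (v := u * a ^ 2 * u⁻¹) (by simpa using e'.symm)
    rw [← pow_two (u * _ * u⁻¹), conj_pow, ← pow_mul, a4, (cen u).eq, mul_inv_cancel_right,
      ← pow_add] at this
    refine ⟨g, mnor fun _ ⟨i, e'⟩ => ?_, (congrArg Subtype.val this).trans ζz⟩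
    rw [← e', ← conj_zpow, show (g : G) * x * (g : G)⁻¹ = x ^ k.val from congrArg Subtype.val e]
    exact zpow_mem (npow_mem_zpowers _ _) _
  · rw [← p.card, ← (zpowers ζ).card_mul_index, Nat.card_zpowers, E.oz]; rfl
  · have := (isSylowOf_top S).not_dvd
    have := relIndex_mul_index cz
    rw [relIndex_top_right] at *
    by_contra c
    exact ‹¬ _› (this ▸ Dvd.dvd.mul_left (by omega) _)
  · lift g to Cen1 z using c1'.2 (by rw [← az, ← conj_pow, e, inv_pow, az, iinv oz])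
    have e' : g * a * g⁻¹ = a⁻¹ := Subtype.ext e
    have i7 : a⁻¹ = a ^ 7 := inv_eq_of_mul_eq_one_right (by rw [← pow_succ']; exact a8)
    rcases cj g (c1'.2 (by rw [← conj_pow, ← map_inv, ← map_mul, ← map_mul, e', map_inv, inv_pow,
      iinv p.oj])) with c | c
    · exact ne 1 7 (by decide) (by rw [← i7, ← e', c1'.1 (ca c), pow_one])
    · refine ne 1 (3 * 7) (by decide) ?_
      rw [pow_mul, ← ab, conj_pow, ← i7, ← e', pow_one]
      exact (c1'.1 (ca c)).symm.trans (by group)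
  · rw [le_antisymm c2 (caG.trans c12), Nat.card_zpowers, ocG]
  · rw [le_antisymm (c12.trans c2) caG, Nat.card_zpowers, ocG]
  · obtain ⟨i, rfl⟩ := hy
    obtain ⟨y, hy, e⟩ : ∃ y : Cen1 z, y ∈ zpowers w ∧ (y : G) = w ^ i := ⟨w ^ i, ⟨i, rfl⟩, rfl⟩
    simp only [← e]
    have bc : b * (w * a) * b⁻¹ = (w * a)⁻¹ * ζ := by
      rw [cw.eq, mul_inv_rev, ← a4, show b * (a * w) * b⁻¹ = b * (a * w) * b⁻¹ from rfl, ← cw.eq,
        show b * (w * a) * b⁻¹ = b * w * b⁻¹ * (b * a * b⁻¹) by group, bw, ab]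
      group
    have bc2 : b * (w * a) ^ 2 * b⁻¹ = ((w * a) ^ 2)⁻¹ := by
      rw [← conj_pow, bc, (cen _).mul_pow, pow_two ζ, ii E.oz, mul_one, inv_pow]
    have cy : Commute y (a ^ 2) := (c1c.1 (zpowers_le.2 (c1c.2 cw) hy)).pow_right 2
    have oy : Odd (orderOf y) := odd_ord (Nat.card_zpowers w ▸ ow') hy
    obtain ⟨w2, a2⟩ := zp_mul ((cw.pow_left 2).pow_right 2) (n := 2 ^ 2) (by rw [← pow_mul]; exact a8)
      (Nat.Coprime.pow_left 2 (odd_iff_cop.1 (ow'.of_dvd_nat (orderOf_pow_dvd 2))).symm)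
    rw [← cw.mul_pow] at w2 a2
    have yc := mul_mem a2 (zpowers_le.2 (GW.mem_of_sq_mem ow' (pow_two w ▸ w2)) hy)
    have o2 : ∀ u : G, b * u ∈ zpowers (((w : G) * a) ^ 2) → IsConj z u := fun u hu => one u
      (orderOf_eq_prime (by
        have := inv_zp (congrArg Subtype.val bc2) hu
        rw [mul_inv_rev, mul_left_inj, ← mul_assoc, h.hb2, one_mul] at this
        rw [pow_two]; exact mul_eq_one_iff_eq_inv.2 this) fun e => by
          have := c1'.1 (c12 (caG (zpowers_le.2 (npow_mem_zpowers _ 2) (by simpa [e] using hu))))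
          exact ne 6 2 (by decide) (b2 ▸ Subtype.ext this))
    rw [card_coset (s := (b : G)) (d := ((w : G) * a) ^ 2) fun u => ⟨fun e => ?_, fun e =>
      ⟨o2 u e, o2 _ (mul_assoc (b : G) u _ ▸ mul_mem e (up yc))⟩⟩,
      orderOf_pow, ocG, show 8 * orderOf (ρ w) = 4 * orderOf (ρ w) * 2 by ring,
      Nat.gcd_mul_left_left, Nat.mul_div_cancel _ two_pos]
    have u2 := ii ((oic e.1).trans oz)
    have ua := inv_zp (inv_of_sq u2 (ii ((oic e.2).trans oz))) (up (cy.eq ▸ (zp_mul cy (n := 2 ^ 2)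
      (by rw [← pow_mul]; exact a8) (Nat.Coprime.pow_left 2 (odd_iff_cop.1 oy).symm)).2))
    lift u to Cen1 z using c1'.2 (by
      rw [← az, show (a : G) ^ 4 = ((a ^ 2 : Cen1 z) : G) ^ 2 from pow_mul _ 2 2, ← conj_pow, ua,
        inv_pow, ← coe_pow, ← pow_mul, a4, ζz, iinv oz])
    have ua' : u * a ^ 2 * u⁻¹ = (a ^ 2)⁻¹ := Subtype.ext ua
    have bu := (cj u (c1'.2 (by rw [← map_pow, ← map_inv, ← map_mul, ← map_mul, ua', map_inv, map_pow,
      iinv p.oj]))).resolve_left fun c => ne 2 6 (by decide)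
        (by rw [← i2, ← ua', c1'.1 (c1c.2 ((c1c.1 (ca c)).pow_right 2))])
    refine up ((sq_zp bu).resolve_right fun c => ine E.oz ?_)
    obtain ⟨d, hd⟩ : ∃ d, d = (w * a)⁻¹ * (b * u) := ⟨_, rfl⟩
    have cd : Commute d (w * a) := c1c.1 (zpowers_le.2 (c1c.2 (Commute.pow_self _ 2)) (hd ▸ c))
    have bi : b⁻¹ = b := inv_eq_of_mul_eq_one_right h'.hb2
    have e1 : u = b * (w * a) * d := by rw [hd, mul_assoc, mul_inv_cancel_left, ← mul_assoc, h'.hb2, one_mul]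
    have e2 : u * u = b * (w * a) * b⁻¹ * (b * d * b⁻¹) * (w * a) * d := by
      rw [show b * (w * a) * b⁻¹ * (b * d * b⁻¹) * (w * a) * d = b * (w * a) * d * (b⁻¹ * (w * a) * d) by
        group, bi, ← e1]
    rw [show u * u = 1 from Subtype.ext u2, bc, inv_zp bc2 (hd ▸ c), ← (cen _).eq.symm, mul_assoc _ d⁻¹,
      cd.inv_left.eq] at e2
    rw [e2]; group
  · obtain ⟨g, e⟩ := xk k k0 kq
    exact isConj_iff.2 ⟨g, by
      rw [show (g : G) * (z * x) * (g : G)⁻¹ = g * z * (g : G)⁻¹ * (g * x * (g : G)⁻¹) by group,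
        c1'.1 g.2, show (g : G) * x * (g : G)⁻¹ = x ^ k from congrArg Subtype.val e]⟩

end LN.E
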