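import Cfsg.Agent.LN.E6
import Cfsg.Agent.LN.E1
import Cfsg.Agent.H8.Sq1

/-! Elements of odd prime order centralized by an involution. -/

set_option autoImplicit false
set_option linter.unusedSectionVars false

namespace LN.E

open Cfsg Subgroup FT H4 H5 GW L ArithmeticFunction
open H7 (le_sup_sylow npc_iff_pPrimeCoreIn NPC)
open scoped Classical ArithmeticFunction.Omega

variable {G : Type*} [Group G] [Finite G] {z y e s g : G} {R M : Subgroup G} {p : ℕ}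

theorem comm_nor {h : G} (hg : g ∈ Nor (zpowers s)) (hh : h ∈ Nor (zpowers s)) :
    g * h * g⁻¹ * h⁻¹ ∈ Cen1 s := by
  obtain ⟨i, e1⟩ := cmem hg (mem_zpowers s)
  obtain ⟨j, e2⟩ := cmem hh (mem_zpowers s)
  simp only at e1 e2
  have : (h * g)⁻¹ * (g * h) ∈ Cen1 s := c1'.2 (by
    have : g * h * s * (g * h)⁻¹ = h * g * s * (h * g)⁻¹ := by
      rw [show g * h * s * (g * h)⁻¹ = g * (h * s * h⁻¹) * g⁻¹ by group,
        show h * g * s * (h * g)⁻¹ = h * (g * s * g⁻¹) * h⁻¹ by group, ← e1, ← e2, ← conj_zpow,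
        ← conj_zpow, ← e1, ← e2, ← zpow_mul, ← zpow_mul, mul_comm]
    rw [show (h * g)⁻¹ * (g * h) * s * ((h * g)⁻¹ * (g * h))⁻¹ =
      (h * g)⁻¹ * (g * h * s * (g * h)⁻¹) * (h * g) by group, this]; group)
  have := cmem (mcen (mul_mem hh hg)) (cen_zp s ▸ this)
  rw [cen_zp] at this
  convert this using 1
  group

theorem solv_nor (h : Group.IsSolvable (Cen1 y)) : Group.IsSolvable (Nor (zpowers y)) := by
  refine Group.isSolvable_of_ker_le_range (inclusion (cnor (cen_zp y).ge))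
    ((IsCyclic.mulAutMulEquiv (zpowers y)).toMonoidHom.comp (zpowers y).normalizerMonoidHom)
    fun g hg => ?_
  have : g ∈ (zpowers y).normalizerMonoidHom.ker := by simpa using hg
  rw [normalizerMonoidHom_ker] at this
  exact ⟨⟨g, (cen_zp y).le this⟩, rfl⟩

theorem nor_ne [IsSimpleGroup G] (hG : ¬ IsMulCommutative G) (s : Group.IsSolvable R) (h0 : R ≠ ⊥) :
    Nor R ≠ ⊤ := fun e => by
  rcases (normalizer_eq_top_iff.1 e).eq_bot_or_eq_top with e | rfl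
  · exact h0 e
  · have := Group.isSolvable_of_surjective (f := (⊤ : Subgroup G).subtype) fun g => ⟨⟨g, trivial⟩, rfl⟩
    exact hG ⟨⟨IsSimpleGroup.comm_iff_isSolvable.2 this⟩⟩

theorem idx_one [Fact p.Prime] {m : ℕ} (hG : Nat.card G = p * m) (hm : ¬ p ∣ m) (hR : Nat.card R = p)
    (l : Nor R ≤ M) : M.index % p = 1 := by
  have d := card_dvd_of_le (le_normalizer.trans l)
  obtain ⟨k, hk⟩ := hR ▸ d
  have e := M.card_mul_index
  have hk' : ¬ p ∣ k := fun c => hm (by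
    rw [hk, hG, mul_assoc, Nat.mul_right_inj (Fact.out : p.Prime).ne_zero] at e
    exact e ▸ c.mul_right _)
  obtain ⟨n, h1, h2⟩ := H9.relIndex_normalizer_modEq R M (le_normalizer.trans l) (k := 1)
    (by rwa [pow_one]) hk' (by rwa [pow_one])
  obtain ⟨n', h3, h4⟩ := H9.relIndex_normalizer_modEq R ⊤ le_top (k := 1)
    (by rwa [pow_one, card_top]) hm (by rwa [pow_one])
  rw [inf_eq_left.2 l] at h2
  rw [inf_top_eq, card_top, ← e, h2, mul_right_comm, Nat.mul_left_inj Nat.card_pos.ne'] at h4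
  have := (h1.mul_right M.index).symm.trans (h4 ▸ h3)
  rwa [one_mul, Nat.ModEq, Nat.mod_eq_of_lt (Fact.out : p.Prime).one_lt] at this

theorem card_nor (pp : p.Prime) (oy : orderOf y = p)
    (h : ∀ k : ℕ, 0 < k → k < p → ∃ g, g * y * g⁻¹ = y ^ k) :
    Nat.card (Nor (zpowers y)) = Nat.card (Cen1 y) * (p - 1) := by
  have := Fact.mk pp
  have y1 : y ≠ 1 := fun e => pp.one_lt.ne (by rw [← oy, e, orderOf_one])
  rw [← H5.card_mul_relIndex (cnor (cen_zp y).ge), ← card_class_in, ← oy, ← Nat.card_zpowers]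
  congr 1
  rw [show Nat.card (zpowers y) = (zpowers y : Set G).ncard from rfl,
    ← Set.ncard_sdiff_singleton_of_mem (one_mem (zpowers y)), ← Nat.card_coe_set_eq]
  refine Nat.card_congr (Equiv.subtypeEquivRight fun u => ⟨fun ⟨g, hg, e⟩ => ⟨e ▸ cmem hg
    (mem_zpowers y), fun c => y1 (by simpa [← e] using c)⟩, fun ⟨hu, u1⟩ => ?_⟩)
  obtain ⟨k, hk, rfl⟩ := Finset.mem_image.1 (mem_zpowers_iff_mem_range_orderOf.1 hu)
  obtain ⟨g, e⟩ := h k (Nat.pos_of_ne_zero fun c => u1 (by simp [c])) (oy ▸ Finset.mem_range.1 hk)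
  refine ⟨g, mnor fun _ ⟨i, e'⟩ => ?_, e⟩
  rw [← e', ← conj_zpow, e]
  exact zpow_mem hu _

theorem inv_line (pp : p.Prime) (op : Odd p) (oz : orderOf z = 2) (hR : Nat.card R = p ^ 2)
    (zR : z ∈ Nor R) (yR : y ∈ R) (oy : orderOf y = p) (zy : z ∈ Cen1 y)
    (fx : R ⊓ Cen1 z ≤ zpowers y) : ∃ s ∈ R, orderOf s = p ∧ z * s * z⁻¹ = s⁻¹ ∧ R ≤ Cen1 s ∧
      Nor R ⊓ Cen1 z ≤ Nor (zpowers s) := by
  have := Fact.mk pp
  have ab : ∀ a ∈ R, ∀ b ∈ R, a * b = b * a := fun a ha b hb => congrArg Subtype.val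
    ((IsPGroup.isMulCommutative_of_card_eq_prime_sq hR).is_comm.comm ⟨a, ha⟩ ⟨b, hb⟩)
  have oR : Odd (Nat.card R) := hR ▸ op.pow
  let I : Subgroup G :=
    { carrier := {x | x ∈ R ∧ z * x * z⁻¹ = x⁻¹}
      one_mem' := ⟨one_mem _, by simp⟩
      mul_mem' := fun {a b} ha hb => ⟨mul_mem ha.1 hb.1, by
        rw [ab a ha.1 b hb.1, mul_inv_rev, ← ha.2, ← hb.2, ab b hb.1 a ha.1]; group⟩
      inv_mem' := fun {a} ha => ⟨inv_mem ha.1, by rw [← conj_inv, ha.2]⟩ }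
  have l : I ≤ R := fun _ h => h.1
  have cI : Nat.card I = p := by
    obtain ⟨k, hk, e⟩ := (Nat.dvd_prime_pow pp).1 (hR ▸ card_dvd_of_le l)
    obtain rfl | rfl | rfl : k = 0 ∨ k = 1 ∨ k = 2 := by omega
    · have : R ≤ zpowers y := fun n hn => by
        obtain ⟨c, hc, i, hi, e1, rfl⟩ := ci oR oz zR hn
        rw [show i = 1 from mem_bot.1 (card_eq_one.1 e ▸ (⟨hi, e1⟩ : i ∈ I)), mul_one]
        exact fx hc
      have := Nat.le_of_dvd pp.pos (hR ▸ oy ▸ Nat.card_zpowers y ▸ card_dvd_of_le this)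
      nlinarith [pp.two_le]
    · rw [e, pow_one]
    · have := eq_one_of_inv_cen (oy ▸ op) ((eq_of_le_of_card_ge l (by rw [e, hR])).ge yR).2 (c1s.1 zy)
      exact absurd (by rw [← oy, this, orderOf_one]) pp.one_lt.ne
  obtain ⟨s, e⟩ := (Subgroup.isCyclic_iff_exists_zpowers_eq_top I).1 (isCyclic_of_prime_card cI)
  have hs : s ∈ I := e ▸ mem_zpowers s
  refine ⟨s, hs.1, by rw [← Nat.card_zpowers, e, cI], hs.2, fun x hx => c1.2 (ab x hx s hs.1),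
    fun g hg => e ▸ mnor fun k hk => ⟨cmem hg.1 hk.1, ?_⟩⟩
  rw [conj_inv, ← hk.2, show z * (g * k * g⁻¹) * z⁻¹ = z * g * k * (z * g)⁻¹ by group, ← c1.1 hg.2]
  group

/-- the setting -/
structure LR (z y e : G) : Prop where
  oz : orderOf z = 2
  py : (orderOf y).Prime
  oy : Odd (orderOf y)
  zy : z ∈ Cen1 y
  ye : Commute y e
  e8 : e ^ 2 ^ 3 = 1
  cyc : Cen1 z ⊓ Cen1 y ≤ zpowers (y * e)

namespace LR

variable (h : LR z y e)
include h

theorem syl : ∃ T, IsSylowOf 2 T (Cen1 y) ∧ z ∈ T ∧ T ≤ zpowers (y * e) := by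
  obtain ⟨T, hT, l⟩ := exists_isSylowOf_ge (two_zp h.oz) (zpowers_le.2 h.zy)
  have zT := l (mem_zpowers z)
  obtain ⟨t, ht, t2, t1, c⟩ := H5.Dich.exists_central hT.isPGroup fun e => ine h.oz (mem_bot.1 (e ▸ zT))
  obtain rfl := inv_uniq (h.cyc ⟨c1s.1 (c zT), hT.le ht⟩) (h.cyc ⟨c1.2 rfl, h.zy⟩)
    (orderOf_eq_prime (pow_two t ▸ t2) t1) h.oz
  exact ⟨T, hT, zT, (le_inf c hT.le).trans h.cyc⟩

theorem npc : NPC 2 (Cen1 y) := by
  obtain ⟨T, hT, -, l⟩ := h.syl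
  obtain ⟨r, e⟩ := (Subgroup.isCyclic_iff_exists_zpowers_eq_top T).1 (isCyclic_of_le l)
  exact H8.Sq.npc_cyc hT e.symm

theorem solv : Group.IsSolvable (Nor (zpowers y)) := solv_nor (solv_of_npc h.npc)

theorem card : ∃ T : Subgroup G, IsPGroup 2 T ∧ z ∈ T ∧ T ≤ zpowers (y * e) ∧
    Nat.card (Cen1 y) = Nat.card (Uo y) * Nat.card T := by
  obtain ⟨T, hT, zT, l⟩ := h.syl
  refine ⟨T, hT.isPGroup, zT, l, ?_⟩
  obtain ⟨k, hk⟩ := hT.isPGroup.exists_card_eq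
  rw [← H5.card_sup_of_disjoint (hT.le.trans (nUo y)) (inf_eq_bot_of_coprime
    (hk ▸ Nat.Coprime.pow_right k (odd_iff_cop.1 (odd_Oo _)))), le_antisymm (sup_le (Uo_le y) hT.le)
      (le_sup_sylow (nUo y) (npc_iff_pPrimeCoreIn.1 h.npc) hT)]

theorem yO : y ∈ Uo y := le_Oo (zpowers_le.2 (c1.2 rfl)) (nzp le_rfl)
  (Nat.card_zpowers y ▸ h.oy) (mem_zpowers y)

theorem fx : Uo y ⊓ Cen1 z ≤ zpowers y := fun _ hg =>
  odd_zp h.ye h.e8 (h.cyc ⟨hg.2, Uo_le y hg.1⟩) (odd_ord (odd_Oo _) hg.1)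

omit h in
theorem nO : Nor (zpowers y) ≤ Nor (Uo y) := fun _ hg => nOo _ (cen_zp y ▸ mcen hg)

theorem com {a b : G} (ha : a ∈ Uo y) (hb : b ∈ Uo y) : a * b * a⁻¹ * b⁻¹ ∈ zpowers y := by
  have zn := nUo y h.zy
  have ce : ∀ c ∈ zpowers y, ∀ x ∈ Uo y, Commute x c := fun c hc x hx =>
    c1c.1 (c1s.1 (zpowers_le.2 (c1s.1 (Uo_le y hx)) hc))
  have k : ∀ n ∈ Uo y, ∃ c ∈ zpowers y, z * n * z⁻¹ = c * n⁻¹ := fun n hn => by
    obtain ⟨c, hc, i, hi, e, rfl⟩ := ci (odd_Oo _) h.oz zn hn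
    refine ⟨c * c, mul_mem (h.fx hc) (h.fx hc), ?_⟩
    rw [show z * (c * i) * z⁻¹ = z * c * z⁻¹ * (z * i * z⁻¹) by group, e, c1'.1 (c1s.1 hc.2),
      mul_inv_rev, (ce c (h.fx hc) i hi).inv_left.inv_right.eq]
    group
  obtain ⟨c1, h1, e1⟩ := k _ (inv_mem ha)
  obtain ⟨c2, h2, e2⟩ := k _ (inv_mem hb)
  obtain ⟨c3, h3, e3⟩ := k _ (mul_mem (inv_mem ha) (inv_mem hb))
  rw [show z * (a⁻¹ * b⁻¹) * z⁻¹ = z * a⁻¹ * z⁻¹ * (z * b⁻¹ * z⁻¹) by group, e1, e2, inv_inv, inv_inv,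
    mul_assoc, ← mul_assoc a, (ce c2 h2 a ha).eq] at e3
  convert mul_mem (inv_mem (mul_mem h1 h2)) h3 using 1
  rw [eq_mul_inv_of_mul_eq e3.symm]
  group

theorem nR [Fact p.Prime] (hR : IsSylowOf p R (Uo y)) : Nor (zpowers y) ≤ Nor R := by
  have pz : ∀ x ∈ R, ∀ g : G, IsPGroup p (zpowers (g * x * g⁻¹)) := fun x hx g => by
    obtain ⟨k, hk⟩ := hR.isPGroup ⟨x, hx⟩
    exact PElt.isPGroup_zpowers (PElt.conj ⟨k, congrArg Subtype.val hk⟩ g)
  have n : Uo y ≤ Nor R := fun g hg => mnor fun x hx => by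
    have m := h.com hg (hR.le hx)
    have ce : Uo y ≤ Cen1 (g * x * g⁻¹ * x⁻¹) := fun u hu => c1s.1 (zpowers_le.2 (c1s.1 (Uo_le y hu)) m)
    obtain ⟨k, hk⟩ := hR.isPGroup ⟨x, hx⟩
    have hk' : x ^ p ^ k = 1 := congrArg Subtype.val hk
    have : g * x * g⁻¹ * x⁻¹ ∈ R := hR.le_of_le_normalizer (PElt.isPGroup_zpowers ⟨k, by
      have := (c1c.1 (ce (hR.le hx))).symm.mul_pow (p ^ k)
      rw [inv_mul_cancel_right, conj_pow, hk', mul_one, mul_one, mul_inv_cancel] at this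
      exact this.symm⟩) (zpowers_le.2 (zpowers_le.2 h.yO m)) (nzp (hR.le.trans ce)) (mem_zpowers _)
    simpa using mul_mem this hx
  exact fun g hg => mnor fun x hx => hR.le_of_le_normalizer' (pz x hx g)
    (zpowers_le.2 (cmem (nO hg) (hR.le hx))) (zpowers_le.2 (n (cmem (nO hg) (hR.le hx)))) (mem_zpowers _)

theorem big (d : orderOf y ^ 2 ∣ Nat.card G) : orderOf y ^ 2 ∣ Nat.card (Uo y) := by
  have := Fact.mk h.py
  have py : IsPGroup (orderOf y) (zpowers y) := .of_card (n := 1) (by rw [Nat.card_zpowers, pow_one])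
  obtain ⟨P, hP, l⟩ := exists_isSylowOf_ge py le_top
  have y1 : zpowers y ≠ ⊥ := fun e => h.py.one_lt.ne (by rw [← Nat.card_zpowers, e, card_bot])
  obtain ⟨t, ht, t1, tp, c⟩ := H7.exists_fixed_order_p hP.isPGroup hP.isPGroup le_normalizer
    fun e => y1 (le_bot_iff.1 (e ▸ l))
  have l2 : zpowers y ≤ P ⊓ Cen1 y := le_inf l (zpowers_le.2 (c1.2 rfl))
  obtain ⟨k, hk⟩ := (hP.isPGroup.to_le (inf_le_left : P ⊓ Cen1 y ≤ P)).exists_card_eq
  have k2 : 2 ≤ k := by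
    by_contra! c2
    have e := eq_of_le_of_card_ge l2 (by
      rw [hk, Nat.card_zpowers]
      exact (Nat.pow_le_pow_right h.py.pos (Nat.le_of_lt_succ c2)).trans (pow_one _).le)
    have e2 : zpowers t = zpowers y := eq_of_le_of_card_ge
      (zpowers_le.2 (e.ge ⟨ht, c1.2 (c y (mem_sup_left (l (mem_zpowers y)))).symm⟩))
      (by rw [Nat.card_zpowers, Nat.card_zpowers, orderOf_eq_prime tp t1])
    have e3 : P ≤ zpowers y := (le_inf le_rfl fun x hx => cen_zp y ▸ e2 ▸ (cen_zp t).ge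
      (c1.2 (c x (mem_sup_left hx)))).trans e.ge
    refine hP.not_dvd ?_
    have := P.card_mul_index
    rw [le_antisymm e3 l, Nat.card_zpowers] at this
    rw [← this, pow_two, Nat.mul_dvd_mul_iff_left h.py.pos] at d
    rwa [relIndex_top_right, le_antisymm e3 l]
  obtain ⟨T, hT, -, -, e⟩ := h.card
  obtain ⟨j, hj⟩ := hT.exists_card_eq
  refine Nat.Coprime.dvd_of_dvd_mul_right (hj ▸ (odd_iff_cop.1 h.oy).pow 2 j) (e ▸ ?_)
  exact (pow_dvd_pow _ k2).trans (hk ▸ card_dvd_of_le inf_le_right)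

theorem line [Fact p.Prime] (oy : orderOf y = p) (hR : IsSylowOf p R (Uo y))
    (cR : Nat.card R = p ^ 2) : y ∈ R ∧ ∃ s ∈ R, orderOf s = p ∧ z * s * z⁻¹ = s⁻¹ ∧ R ≤ Cen1 s ∧
      Nor (zpowers y) ⊓ Cen1 z ≤ Nor (zpowers s) := by
  have yR : y ∈ R := hR.le_of_le_normalizer (.of_card (n := 1) (by rw [Nat.card_zpowers, pow_one, oy]))
    (zpowers_le.2 h.yO) (nzp (hR.le.trans (Uo_le y))) (mem_zpowers y)
  obtain ⟨s, h1, h2, h3, h4, h5⟩ := inv_line Fact.out (oy ▸ h.oy) h.oz cR (h.nR hR (mzp h.zy)) yR oy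
    h.zy ((inf_le_inf_right _ hR.le).trans h.fx)
  exact ⟨yR, s, h1, h2, h3, h4, (inf_le_inf_right _ (h.nR hR)).trans h5⟩

end LR

end LN.E
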