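import Cfsg.Agent.LN.E7

/-! Piece D2. -/

set_option autoImplicit false
set_option linter.unusedSectionVars false

namespace LN.E

open Cfsg Subgroup FT H4 H5 GW L ArithmeticFunction
open scoped Classical ArithmeticFunction.Omega

universe u

theorem omega_sq {p n : ℕ} (pp : p.Prime) (d : p ^ 2 ∣ n) (h0 : n ≠ 0) (h : Ω n ≤ 2) : n = p ^ 2 := by
  obtain ⟨k, rfl⟩ := d
  rw [cardFactors_mul (left_ne_zero_of_mul h0) (right_ne_zero_of_mul h0),
    cardFactors_apply_prime_pow pp] at h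
  rw [(cardFactors_eq_zero_iff_eq_zero_or_one.1 (show Ω k = 0 by omega)).resolve_left
    (right_ne_zero_of_mul h0), mul_one]

theorem om2 (k : ℕ) : Ω (2 ^ k) = k := cardFactors_apply_prime_pow Nat.prime_two

variable {G : Type u} [Group G] [Finite G] {z a b w x : G} {Q : ℤ} {q : ℕ}

theorem syl_self {R : Subgroup G} {p k : ℕ} (pp : p.Prime) (h : Nat.card R = p ^ k) :
    IsSylowOf p R R := ⟨le_rfl, .of_card h, by rw [relIndex_self]; exact pp.not_dvd_one⟩

theorem mem_zpowers_of_prime_card' {s c : G} {p : ℕ} (os : orderOf s = p) (pp : p.Prime)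
    (hc : c ∈ zpowers s) (c1 : c ≠ 1) : s ∈ zpowers c := by
  rcases (Nat.dvd_prime pp).1 (os ▸ orderOf_dvd_of_mem_zpowers hc) with e | e
  · exact absurd (orderOf_eq_one_iff.1 e) c1
  · exact (eq_of_le_of_card_ge (zpowers_le.2 hc) (by
      rw [Nat.card_zpowers, Nat.card_zpowers, os, e])).ge (mem_zpowers s)

namespace GD

variable (H : Hy G) (h : GD z a b w x Q q)
include H h

theorem nm (pm : (orderOf w).Prime) : ¬ orderOf w ∣ (Cen1 z).index := fun d => by
  have := H.sim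
  have := Fact.mk pm
  have w1 : w ≠ 1 := fun e => pm.one_lt.ne (by rw [e, orderOf_one])
  have wz : z ∈ Cen1 w := h.a4 ▸ pow_mem (c1c.2 h.cw.symm) 4
  have a8 : a ^ 2 ^ 3 = 1 := (show 2 ^ 3 = orderOf a from h.oa.symm) ▸ pow_orderOf_eq_one a
  have l : LR z w a := ⟨h.oz, pm, h.ow, wz, h.cw, a8, h.nw w1⟩
  have big := l.big (by
    rw [← (Cen1 z).card_mul_index, pow_two]
    exact Nat.mul_dvd_mul ((Cen1 z).orderOf_dvd_natCard (c1s.1 wz)) d)
  have aN : a ∈ Nor (zpowers w) := mzp (c1c.2 h.cw.symm)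
  have bN : b ∈ Nor (zpowers w) := mnor fun _ e => inv_zp h.bw e ▸ inv_mem e
  have az : a ∈ Cen1 z := h.a4 ▸ c1c.2 (Commute.self_pow a 4)
  have bz : b ∈ Cen1 z := c1'.2 (by
    rw [← h.a4, ← conj_pow, h.ab, ← pow_mul, show 3 * 4 = 2 ^ 3 + 4 from rfl, pow_add, a8, one_mul])
  have c16 : Nat.card ↥(zpowers a ⊔ zpowers b) = 2 ^ 4 := by
    rw [H7.card_sup_zpowers (p := 2) (N := zpowers a) (mnor fun _ ⟨i, e⟩ => by
      rw [← e, ← conj_zpow, h.ab]; exact zpow_mem (npow_mem_zpowers _ _) _) (fun e => ?_)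
      (by rw [pow_two, h.bb]; exact one_mem _), Nat.card_zpowers, h.oa]
    · rfl
    have := (c1'.1 (zpowers_le.2 (c1.2 rfl) e)).symm.trans h.ab
    rw [← pow_one a, ← pow_mul, pow_eq_pow_iff_modEq, h.oa] at this
    exact absurd this (by decide)
  have o := H.l7.omega (nor_ne H.hG (solv_zp w) (by simpa using w1)) l.solv
    (Nat.Coprime.mul_dvd_of_dvd_of_dvd (Nat.Coprime.pow_left 4 (odd_iff_cop.1 (odd_Oo _)).symm)
      (c16 ▸ card_dvd_of_le (sup_le (zpowers_le.2 aN) (zpowers_le.2 bN)))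
      (card_dvd_of_le ((Uo_le w).trans (cnor (cen_zp w).ge))))
  rw [cardFactors_mul (by norm_num) Nat.card_pos.ne', om2] at o
  have e := omega_sq pm big Nat.card_pos.ne' (Nat.le_of_add_le_add_left (a := 4) o)
  obtain ⟨-, s, -, os, zs, -, n⟩ := l.line rfl (syl_self pm e) e
  have := comm_nor (n ⟨bN, bz⟩) (n ⟨aN, az⟩)
  rw [h.ab, show a ^ 3 * a⁻¹ = a ^ 2 by group] at this
  have := eq_one_of_inv_cen (os ▸ h.ow) zs (c1s.1 (h.a4 ▸ pow_mul a 2 2 ▸ pow_mem this 2))
  exact pm.one_lt.ne (by rw [← os, this, orderOf_one])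

omit H in
theorem oq : Odd q := by
  have := h.Q8
  have := h.eq
  exact Nat.odd_iff.2 (by omega)

omit H in
theorem lr : LR z x z := ⟨h.oz, h.ox ▸ h.pq, h.ox ▸ h.oq, c1s.1 h.xz, c1c.1 h.xz, by
  rw [show 2 ^ 3 = 2 * 4 from rfl, pow_mul, pow_two z, ii h.oz, one_pow], h.cx⟩

omit H in
theorem cN : Nat.card (Nor (zpowers x)) = Nat.card (Uo x) * 2 * (q - 1) := by
  obtain ⟨T, hT, zT, l, e⟩ := h.lr.card
  obtain ⟨k, hk⟩ := hT.exists_card_eq
  have h1 := card_dvd_of_le l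
  rw [Nat.card_zpowers, h.lr.ye.orderOf_mul_eq_mul_orderOf_of_coprime
    (h.ox ▸ h.oz ▸ odd_iff_cop.1 h.oq), h.ox, h.oz] at h1
  have h2 := card_dvd_of_le (zpowers_le.2 zT)
  rw [Nat.card_zpowers, h.oz] at h2
  rw [card_nor h.pq h.ox fun k k0 kq => (h.xk k k0 kq).imp fun _ e => e.2, e, Nat.dvd_antisymm
    (Nat.Coprime.dvd_of_dvd_mul_left (hk ▸ Nat.Coprime.pow_left k (odd_iff_cop.1 h.oq).symm) h1) h2]

omit H in
theorem x1 : zpowers x ≠ ⊥ := fun e => h.pq.one_lt.ne (by rw [← h.ox, ← Nat.card_zpowers, e, card_bot])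

theorem om : Ω (Nat.card (Uo x)) + Ω (q - 1) ≤ 5 := by
  have := H.sim
  have o := H.l7.omega (nor_ne H.hG (solv_zp x) h.x1) h.lr.solv h.cN.symm.dvd
  have := h.five
  rw [cardFactors_mul (mul_ne_zero Nat.card_pos.ne' two_ne_zero) (by omega),
    cardFactors_mul Nat.card_pos.ne' two_ne_zero, cardFactors_apply_prime Nat.prime_two] at o
  omega

omit H in
theorem big (d : q ∣ (Cen1 z).index) : q ^ 2 ∣ Nat.card (Uo x) := h.ox ▸ h.lr.big (by
  rw [← (Cen1 z).card_mul_index, pow_two, h.ox, h.card]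
  exact Nat.mul_dvd_mul (Dvd.dvd.mul_left (Dvd.intro _ rfl) _) d)

theorem ng (e : Q = -q) (d : q ∣ (Cen1 z).index) : q = 5 ∧ q ^ 3 ∣ Nat.card G := by
  have := Fact.mk h.pq
  obtain ⟨R, hR⟩ := exists_isSylowOf q (Uo x)
  have cR := hR.card_eq
  have k2 : 2 ≤ (Nat.card (Uo x)).factorization q :=
    (h.pq.pow_dvd_iff_le_factorization Nat.card_pos.ne').1 (h.big d)
  have Q8 := h.Q8
  have five := h.five
  rcases k2.eq_or_lt with k2 | k2
  · rw [← k2] at cR
    obtain ⟨-, s, -, os, zs, -, n⟩ := h.lr.line h.ox hR cR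
    obtain ⟨g, hg, g4⟩ := h.g8 e
    obtain ⟨i, hi⟩ := cmem (n ⟨hg, g4 ▸ c1c.2 (Commute.self_pow g 4)⟩) (mem_zpowers s)
    have k : ∀ j : ℕ, g ^ j * s * (g ^ j)⁻¹ = s ^ i ^ j := fun j => by
      induction j with
      | zero => simp
      | succ j ih =>
        rw [pow_succ, pow_succ', zpow_mul, show s ^ i = _ from hi, conj_zpow, ← ih]
        rw [← pow_succ, pow_succ']; group
    have := k 4
    rw [g4, zs, eq_comm, ← mul_eq_one_iff_eq_inv, ← zpow_add_one, ← orderOf_dvd_iff_zpow_eq_one, os,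
      ← ZMod.intCast_zmod_eq_zero_iff_dvd] at this
    push_cast at this
    have i4 : (i : ZMod q) ^ 2 ^ 2 = -1 := eq_neg_of_add_eq_zero_left this
    have : Fact (2 < q) := ⟨by omega⟩
    have o : orderOf (i : ZMod q) = 2 ^ (2 + 1) := orderOf_eq_prime_pow
      (i4 ▸ ZMod.neg_one_ne_one) (by rw [pow_succ, pow_mul, i4, neg_one_sq])
    have := ZMod.orderOf_dvd_card_sub_one (a := (i : ZMod q)) fun c => by simp [c] at i4
    rw [o] at this
    omega
  have d3 := (h.pq.pow_dvd_iff_le_factorization (k := 3) Nat.card_pos.ne').2 k2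
  refine ⟨?_, d3.trans (card_subgroup_dvd_card _)⟩
  have o := h.om H
  have o3 := omega_le d3 Nat.card_pos.ne'
  rw [cardFactors_apply_prime_pow h.pq] at o3
  have m := h.mQ
  have e4 : q - 1 = 2 ^ 2 * orderOf w := by
    rcases sq_eq_sq_iff_eq_or_eq_neg.1 (show (Q + 1) ^ 2 = (4 * orderOf w : ℤ) ^ 2 by rw [m]; ring)
      with e' | e' <;> omega
  rw [e4, cardFactors_mul (by norm_num) (orderOf_pos w).ne', om2] at o
  have := (cardFactors_eq_zero_iff_eq_zero_or_one.1 (show Ω (orderOf w) = 0 by omega)).resolve_left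
    (orderOf_pos w).ne'
  omega

theorem ps (e : Q = q) (d : q ∣ (Cen1 z).index) : False := by
  have := H.sim
  have := Fact.mk h.pq
  have Q8 := h.Q8
  have five := h.five
  have n11 := h.n11
  have m := h.mQ
  have e4 : q + 1 = 4 * orderOf w := by
    rcases sq_eq_sq_iff_eq_or_eq_neg.1 (show (Q + 1) ^ 2 = (4 * orderOf w : ℤ) ^ 2 by rw [m]; ring)
      with e' | e' <;> omega
  have q3 : ¬ 3 ∣ q := fun c => by
    have := (Nat.prime_dvd_prime_iff_eq Nat.prime_three h.pq).1 c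
    omega
  have m3 : ¬ 3 ∣ orderOf w := fun c => by
    rcases h.m1 with e | e
    · omega
    · have := (Nat.prime_dvd_prime_iff_eq Nat.prime_three e).1 c
      omega
  have h3 : q % 3 = 1 := by
    rcases (by omega : orderOf w % 3 = 1 ∨ orderOf w % 3 = 2) with e | e <;> omega
  have h2 := Nat.odd_iff.1 h.oq
  obtain ⟨k, hk⟩ : ∃ k, q - 1 = 2 * (3 * k) := ⟨(q - 1) / 6, by omega⟩
  have o3 : 3 ≤ Ω (q - 1) := by
    rw [hk, cardFactors_mul two_ne_zero (by omega), cardFactors_mul (by norm_num) (by omega),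
      cardFactors_apply_prime Nat.prime_two, cardFactors_apply_prime Nat.prime_three]
    have := mt (cardFactors_eq_zero_iff_eq_zero_or_one (n := k)).1 (by omega)
    omega
  have o := h.om H
  have cO := omega_sq h.pq (h.big d) Nat.card_pos.ne' (by omega)
  obtain ⟨-, s, sO, os, zs, Os, n⟩ := h.lr.line h.ox (syl_self h.pq cO) cO
  have s1 : s ≠ 1 := fun c => h.pq.one_lt.ne (by rw [← os, c, orderOf_one])
  have mx : Nor (Uo x) = Nor (zpowers x) := by
    refine H.l7.max ((ht_solv h.lr.solv).le ?_) LR.nO (nor_ne H.hG (odd_solv (odd_Oo _))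
      fun c => s1 (mem_bot.1 (c ▸ sO)))
    rw [h.cN, cardFactors_mul (mul_ne_zero Nat.card_pos.ne' two_ne_zero) (by omega),
      cardFactors_mul Nat.card_pos.ne' two_ne_zero, cardFactors_apply_prime Nat.prime_two, cO,
      cardFactors_apply_prime_pow h.pq]
    omega
  obtain ⟨v, vz, vv, vx⟩ := h.neg e
  have nx : ∀ t, t * x * t⁻¹ = x⁻¹ → t ≠ 1 := fun t e c => h.x1 (by
    simpa using eq_one_of_inv_cen h.lr.oy e (c ▸ c1.2 (by simp)))
  obtain ⟨t, ot, ts⟩ : ∃ t, orderOf t = 2 ∧ s ∈ Cen1 t := by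
    obtain ⟨c, hc, i, hi, e1, e2⟩ := ci (K := zpowers s) (by rw [Nat.card_zpowers, os]; exact h.oq)
      (orderOf_eq_prime (pow_two v ▸ vv) (nx v vx))
      (n ⟨mnor fun _ e => inv_zp vx e ▸ inv_mem e, vz⟩) (mem_zpowers s)
    by_cases c1 : c = 1
    · rw [c1, one_mul] at e2
      refine ⟨v * z, orderOf_eq_prime (by
        rw [(c1c.1 vz).mul_pow, pow_two, pow_two, vv, ii h.oz, one_mul]) (nx _ (by
          rw [← vx, ← c1'.1 h.lr.zy, c1'.1 h.lr.zy, mul_inv_rev, ← mul_assoc, mul_assoc v, mul_assoc v,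
            c1'.1 h.lr.zy])), c1s.1 (c1'.2 ?_)⟩
      rw [show v * z * s * (v * z)⁻¹ = v * (z * s * z⁻¹) * v⁻¹ by group, zs, conj_inv.symm, e2, e1,
        inv_inv]
    · refine ⟨v, orderOf_eq_prime (pow_two v ▸ vv) (nx v vx), zpowers_le.2 hc.2 ?_⟩
      exact mem_zpowers_of_prime_card' os h.pq hc.1 c1
  obtain ⟨g, rfl⟩ := isConj_iff.1 (h.one t ot)
  obtain ⟨u, hu⟩ := H9.exists_conj_mem_zpowers (G := Cen1 z) (m := 2 * (q ^ 2 - 1))
    (by rw [h.card]; ring) (fun c => by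
      rcases (Nat.Prime.dvd_mul h.pq).1 c with c | c
      · have := Nat.le_of_dvd two_pos c
        omega
      · exact h.pq.not_dvd_one ((Nat.dvd_sub_iff_right (Nat.one_le_pow _ _ h.pq.pos)
          (dvd_pow_self q two_ne_zero)).1 c)) (x := ⟨x, h.xz⟩) (y := ⟨g⁻¹ * s * g, c1.2 (by
        have := c1.1 ts
        rw [show g⁻¹ * s * g * z = g⁻¹ * (s * (g * z * g⁻¹)) * g by group, this]; group)⟩)
    ((orderOf_coe _).symm.trans h.ox) (Subtype.ext (by
      simp only [coe_pow, OneMemClass.coe_one]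
      rw [← os, show g⁻¹ * s * g = g⁻¹ * s * g⁻¹⁻¹ by group, conj_pow, pow_orderOf_eq_one]; group))
  obtain ⟨k, hk⟩ : ∃ k : G, k * s * k⁻¹ ∈ zpowers x := by
    obtain ⟨i, e⟩ := hu
    exact ⟨u * g⁻¹, i, by simpa [mul_assoc] using congrArg Subtype.val e⟩
  have xs := mem_zpowers_of_prime_card' h.ox h.pq hk fun c => s1 (by simpa using c)
  have kO : k ∈ Nor (Uo x) := mnor fun r hr => by
    obtain ⟨j, hj⟩ := (IsPGroup.of_card cO) ⟨r, hr⟩
    have nd : ¬ q ∣ (Uo x).relIndex (Cen1 x) := by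
      obtain ⟨T, hT, -, -, e⟩ := h.lr.card
      obtain ⟨i, hi⟩ := hT.exists_card_eq
      rw [← H5.card_mul_relIndex (Uo_le x), Nat.mul_right_inj Nat.card_pos.ne'] at e
      rw [e, hi]
      exact fun c => h.oq.not_two_dvd_nat ((Nat.prime_dvd_prime_iff_eq h.pq Nat.prime_two).1
        (h.pq.dvd_of_dvd_pow c) ▸ dvd_rfl)
    have m : k * r * k⁻¹ ∈ Cen1 x := c1s.1 (zpowers_le.2 (c1s.1 (c1.2 (by
      rw [show k * r * k⁻¹ * (k * s * k⁻¹) = k * (r * s) * k⁻¹ by group, c1.1 (Os hr)]; group))) xs)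
    exact (⟨Uo_le x, .of_card cO, nd⟩ : IsSylowOf q (Uo x) (Cen1 x)).le_of_le_normalizer'
      (PElt.isPGroup_zpowers (PElt.conj ⟨j, congrArg Subtype.val hj⟩ k)) (zpowers_le.2 m)
      (zpowers_le.2 (nUo x m)) (mem_zpowers _)
  have := cmem' (mx ▸ kO) hk
  rw [show k⁻¹ * (k * s * k⁻¹) * k = s by group] at this
  exact s1 (eq_one_of_inv_cen (os ▸ h.oq) zs (zpowers_le.2 h.xz this))

theorem n357 (e : q = 5) (d : (Cen1 z).index = 357) : False := by
  have := H.sim
  subst e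
  have : Fact (Nat.Prime 5) := ⟨by norm_num⟩
  have cG : Nat.card G = 85680 := by rw [← (Cen1 z).card_mul_index, h.card, d]; rfl
  have cx : Nat.card (zpowers x) = 5 := by rw [Nat.card_zpowers, h.ox]
  have i5 := fun M => idx_one (M := M) (m := 17136) (p := 5) cG (by norm_num) cx
  obtain ⟨k, hk⟩ := cx ▸ card_dvd_of_le (zpowers_le.2 h.lr.yO)
  have e := (Nor (zpowers x)).card_mul_index
  have i1 := i5 _ le_rfl
  have ok := Nat.odd_iff.1 (odd_Oo (Cen1 x))
  rw [h.cN, cG, hk] at e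
  rw [hk] at ok
  have e' : k * (Nor (zpowers x)).index = 2142 := by linarith
  have key : ∀ r m : ℕ, r.Prime → 85680 = r * m → ¬ r ∣ m → r ∣ k →
      (∀ d ∈ (Nor (zpowers x)).index.divisors, d % 5 = 1 → d % r = 1 → d = 1) → False :=
    fun r m pr e1 e2 e3 e4 => by
      have := Fact.mk pr
      obtain ⟨R, hR⟩ := exists_isSylowOf r (Uo x)
      obtain ⟨j, hj⟩ := hR.isPGroup.exists_card_eq
      have R0 := hR.ne_bot (hk ▸ e3.mul_left 5)
      have cR : Nat.card R = r := by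
        have := card_subgroup_dvd_card R
        rw [cG, e1, hj] at this
        obtain rfl | rfl | j2 : j = 0 ∨ j = 1 ∨ 2 ≤ j := by omega
        · exact absurd (card_eq_one.1 hj) R0
        · rw [hj, pow_one]
        · have := (pow_dvd_pow r j2).trans this
          rw [pow_two, Nat.mul_dvd_mul_iff_left pr.pos] at this
          exact absurd this e2
      exact nor_ne H.hG (H5.isSolvable_of_isPGroup hR.isPGroup) R0 (index_eq_one.1 (e4 _
        (Nat.mem_divisors.2 ⟨index_dvd_of_le (h.lr.nR hR), index_ne_zero_of_finite⟩)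
        (i5 _ (h.lr.nR hR)) (idx_one (cG.trans e1) e2 cR le_rfl)))
  have : ∀ k ∈ Nat.divisors 2142, k % 2 = 1 → (2142 / k) % 5 = 1 → k = 7 ∨ k = 17 ∨ k = 357 := by
    decide +kernel
  rcases this k (Nat.mem_divisors.2 ⟨Dvd.intro _ e', by norm_num⟩) (by omega) (by
    rwa [← e', Nat.mul_div_cancel_left _ (by omega)]) with rfl | rfl | rfl
  · exact key 7 12240 (by norm_num) rfl (by norm_num) dvd_rfl (by
      rw [show (Nor (zpowers x)).index = 306 by omega]; decide +kernel)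
  · exact key 17 5040 (by norm_num) rfl (by norm_num) dvd_rfl (by
      rw [show (Nor (zpowers x)).index = 126 by omega]; decide +kernel)
  · exact key 17 5040 (by norm_num) rfl (by norm_num) (by norm_num) (by
      rw [show (Nor (zpowers x)).index = 6 by omega]; decide +kernel)

theorem fin : Nat.card G = 126000 := by
  obtain ⟨K, F, e2, e3⟩ := h.main
  have eq := h.eq
  have c := (Cen1 z).card_mul_index
  rw [h.card] at c
  rcases arith h.pq (m := orderOf w) h.eq (by have := Nat.odd_iff.1 h.odd; omega) h.Q8 h.five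
    (sq_eq_sq_iff_eq_or_eq_neg.1 (by rw [h.mQ]; ring)) (h.m1.imp (fun e => by rw [e]; rfl) fun e =>
      ⟨Nat.prime_iff_prime_int.1 e, fun d => h.nm H e (Int.natCast_dvd_natCast.1 d)⟩) e2 e3
    with ⟨d, e⟩ | ⟨e, d⟩
  · have d' : q ∣ (Cen1 z).index := by simpa [eq] using Int.natAbs_dvd_natAbs.2 d
    rcases Int.natAbs_eq Q with e' | e' <;> rw [eq] at e'
    · exact (h.ps H e' d').elim
    obtain ⟨rfl, d3⟩ := h.ng H e' d'
    rcases e e' with e | e <;> omega
  · exact (h.n357 H (by omega) (by omega)).elim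

end GD

end LN.E

universe u in
theorem LN.p2 : LN.PD2.{u} := fun _ _ _ _ _ _ H h ns => by
  obtain ⟨z, a, b, w, x, Q, q, d⟩ := LN.E.exists_GD H h ns
  exact Or.inr (Or.inr (Or.inr (Or.inr (Or.inr (d.fin H)))))
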