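import Cfsg.Agent.LN.Stmt
import Cfsg.Agent.J1.Main
import Cfsg.Agent.TW.Set

/-! Janko-Ree type groups of length at most seven: the centralizer of an involution. -/

set_option autoImplicit false

namespace LN

open Cfsg Subgroup FT H4 H5 GW ArithmeticFunction
open scoped MatrixGroups ArithmeticFunction.Omega

section
variable (F : Type) [Field F]

def Bor : Subgroup SL(2, F) where
  carrier := {g | g.1 1 0 = 0}
  one_mem' := by simp
  mul_mem' := fun {a b} ha hb => by
    simp only [Set.mem_ofPred_eq] at *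
    simp [Matrix.mul_apply, ha, hb]
  inv_mem' := fun {a} ha => by
    simp only [Set.mem_ofPred_eq] at *
    rw [Matrix.SpecialLinearGroup.coe_inv, Matrix.adjugate_fin_two]; simp [ha]
def borU : Multiplicative F →* Bor F where
  toFun x := ⟨H6.uT x.toAdd, by simp [Bor]⟩
  map_one' := by ext i j; fin_cases i <;> fin_cases j <;> simp
  map_mul' x y := by ext i j; fin_cases i <;> fin_cases j <;> simp [Matrix.mul_apply, add_comm]
def borD : Fˣ →* Bor F where
  toFun x := ⟨⟨!![(x : F), 0; 0, (x⁻¹ : Fˣ)], by simp⟩, rfl⟩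
  map_one' := by ext i j; fin_cases i <;> fin_cases j <;> simp
  map_mul' x y := Subtype.ext (Subtype.ext (by
    change _ = !![(x : F), 0; 0, (x⁻¹ : Fˣ)] * !![(y : F), 0; 0, (y⁻¹ : Fˣ)]
    simp [mul_comm]))
def borδ : Bor F →* F where
  toFun g := g.1.1 0 0
  map_one' := by simp
  map_mul' x y := by
    have : y.1.1 1 0 = 0 := y.2
    simp [Matrix.mul_apply, this]
theorem bor_solv : Group.IsSolvable (Bor F) :=
  Group.isSolvable_of_ker_le_range (borU F) (borδ F).toHomUnits fun g hg => by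
    have h0 : g.1.1 0 0 = 1 := congrArg Units.val hg
    have h1 : g.1.1 1 0 = 0 := g.2
    have h2 := Dg.sl_det g.1
    rw [h0, h1, mul_zero, sub_zero, one_mul] at h2
    refine ⟨Multiplicative.ofAdd (g.1.1 0 1), ?_⟩
    ext i j; fin_cases i <;> fin_cases j <;> simp [borU, h0, h1, h2]
variable {F} [Fintype F]
theorem bor_card : Fintype.card F * (Fintype.card F - 1) ∣ Nat.card (Bor F) := by
  classical
  have h1 := card_dvd_of_injective (borU F) fun x y e => by
    simpa [borU] using congrArg (fun g : Bor F => g.1.1 0 1) e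
  have h2 := card_dvd_of_injective (borD F) fun x y e =>
    Units.ext (congrArg (fun g : Bor F => g.1.1 0 0) e)
  rw [Nat.card_eq_fintype_card, Fintype.card_multiplicative] at h1
  rw [Nat.card_eq_fintype_card, Fintype.card_units] at h2
  refine Nat.Coprime.mul_dvd_of_dvd_of_dvd ?_ h1 h2
  have := Fintype.card_pos (α := F)
  exact (Nat.coprime_self_sub_right this).2 (Nat.coprime_one_right _)
theorem bor_ht (ho : Odd (Fintype.card F)) (hq : 3 < Fintype.card F) {m : ℕ}
    (hm : 2 * m = Fintype.card F * (Fintype.card F - 1)) :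
    Ht (⊤ : Subgroup PSL(2, F)) (Ω m + 1) := by
  have := bor_solv F
  have s : Group.IsSolvable ((Bor F).map (QuotientGroup.mk' (center SL(2, F)))) :=
    Group.isSolvable_of_surjective (MonoidHom.subgroupMap_surjective _ _)
  refine .succ (ht_dvd s ?_) (lt_top_iff_ne_top.2 fun e => ?_)
  · have h1 := card_inf_mul_relIndex (center SL(2, F)) (Bor F)
    have h2 : Nat.card (center SL(2, F) ⊓ Bor F : Subgroup _) ∣ 2 := by
      have := card_dvd_of_le (inf_le_left : center SL(2, F) ⊓ Bor F ≤ _)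
      rwa [center_sl (F := F), Nat.card_zpowers, ord_neg_one (ftwo_ne ho), ← center_sl] at this
    rw [← relIndex_ker, QuotientGroup.ker_mk']
    exact Nat.dvd_of_mul_dvd_mul_left two_pos
      (hm ▸ bor_card.trans (h1 ▸ Nat.mul_dvd_mul_right h2 _))
  · rw [e] at s
    have := TW.psl_perf hq
    have := H8.psl_simple (slok hq)
    exact TW.psl_nc hq ⟨⟨IsSimpleGroup.comm_iff_isSolvable.2
      (Group.isSolvable_of_surjective (f := (topEquiv (G := PSL(2, F))).toMonoidHom)
        topEquiv.surjective)⟩⟩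
theorem sq_inn {X : Type*} [Group X] [Finite X] {L : Subgroup X} [L.Normal] (hC : Cen L = ⊥)
    (ho : Odd (Fintype.card F)) (hp : (Fintype.card F).Prime) (e : L ≃* PSL(2, F)) (x : X) :
    x * x ∈ L := by
  obtain ⟨π, c⟩ := Dg.exists_ctx hC ho e
  obtain ⟨A, φ, hx⟩ := c.rep x
  have := Fact.mk hp
  obtain rfl : φ = RingEquiv.refl F := RingEquiv.ext fun a => by
    obtain ⟨n, rfl⟩ := (ZMod.ringEquivOfPrime F hp rfl).surjective a
    obtain ⟨n, rfl⟩ := ZMod.natCast_zmod_surjective n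
    simp
  rw [c.mem_iff (Dg.Lr.mul hx hx), Matrix.det_mul]
  exact ⟨_, rfl⟩
end

theorem om_pow {p f : ℕ} (hp : p.Prime) (h8 : p ^ f % 8 = 3 ∨ p ^ f % 8 = 5) {m : ℕ}
    (hm : 2 * m = p ^ f * (p ^ f - 1)) (h : Ω m ≤ 4) :
    (p ^ f).Prime ∨ (p ^ f = 27 ∧ Ω m = 4) := by
  have op : p % 2 = 1 := by
    by_contra c
    obtain rfl : p = 2 := (hp.eq_two_or_odd).resolve_right c
    rcases f with _ | f
    · omega
    · rw [pow_succ] at h8; omega
  obtain ⟨k, hk⟩ : ∃ k, p ^ f - 1 = 2 * k := ⟨(p ^ f - 1) / 2, by omega⟩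
  have k0 : k ≠ 0 := by omega
  obtain rfl : m = p ^ f * k := by rw [hk] at hm; nlinarith
  rw [cardFactors_mul (pow_pos hp.pos f).ne' k0, cardFactors_apply_prime_pow hp] at h ⊢
  have h5 : f ≤ 4 := by omega
  have h2 : p ^ 2 % 8 = 1 := by
    have : p % 8 = 1 ∨ p % 8 = 3 ∨ p % 8 = 5 ∨ p % 8 = 7 := by omega
    rcases this with e | e | e | e <;> simp [Nat.pow_mod, e]
  interval_cases f
  · simp at h8
  · exact Or.inl (by simpa)
  · omega
  · obtain ⟨a, rfl⟩ : ∃ a, p = 2 * a + 1 := ⟨p / 2, by omega⟩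
    have e : k = a * (4 * a ^ 2 + 6 * a + 3) := by
      have : (2 * a + 1) ^ 3 = 2 * (a * (4 * a ^ 2 + 6 * a + 3)) + 1 := by ring
      omega
    have a0 : a ≠ 0 := by rintro rfl; exact Nat.not_prime_one hp
    rw [e, cardFactors_mul a0 (by omega)] at h
    have h1 : Ω (4 * a ^ 2 + 6 * a + 3) ≠ 0 := by
      rw [ne_eq, cardFactors_eq_zero_iff_eq_zero_or_one]; omega
    obtain rfl : a = 1 := (cardFactors_eq_zero_iff_eq_zero_or_one.1 (by omega)).resolve_left a0
    subst e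
    exact Or.inr ⟨rfl, by simp [cardFactors_apply_prime (show Nat.Prime 13 by norm_num)]⟩
  · rw [show p ^ 4 = p ^ 2 * p ^ 2 by ring, Nat.mul_mod, h2] at h8; omega

variable {G : Type*} [Group G] [Finite G] {T N : Subgroup G} {t : G}

theorem jr_one (a : W.AS T ⊤) (j : W.JR ⊤ T t N) (u : G) (h : u * u = 1) (h1 : u ≠ 1) :
    IsConj t u := by
  obtain ⟨Y, y⟩ := j.p0.ex
  obtain ⟨g, -, hg⟩ := a.syl.exists_conj_le (TW.two_zp' h) le_top
  obtain ⟨x, -, hx⟩ := y.tr t j.tS _ (hg ⟨u, mem_zpowers u, rfl⟩)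
    (fun e => by simpa [e] using j.ot) (by simpa using h1)
  exact (isConj_iff.2 ⟨x, hx⟩).trans (isConj_iff.2 ⟨g, rfl⟩).symm

theorem j0 (h : Hy G) (a : W.AS T ⊤) (j : W.JR ⊤ T t N) : Spor.IsoJ1 G ∨
    ((∀ g, Commute g t → g ∈ N ∨ t * g ∈ N) ∧ ∃ (F : Type) (_ : Field F) (_ : Fintype F),
      5 < Fintype.card F ∧ (Fintype.card F % 8 = 3 ∨ Fintype.card F % 8 = 5) ∧
      ((Fintype.card F).Prime ∨ Fintype.card F = 27) ∧ Nonempty (N ≃* PSL(2, F))) := by
  have := h.sim
  obtain ⟨F, _, _, ho, hq, ⟨e⟩⟩ := j.l2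
  have NC : N ≤ Cen1 t := j.le.trans inf_le_right
  have CN : Cen1 t ≤ Nor N := fun x hx => j.nor ⟨trivial, hx⟩
  have TC : T ≤ Cen1 t := fun x hx => c1.2 (congrArg Subtype.val (a.ab.1.1 ⟨x, hx⟩ ⟨t, j.tS⟩))
  have tt : t * t = 1 := ii j.ot
  have mz : ∀ {x}, x ∈ zpowers t → x = 1 ∨ x = t := (H9.mem_zpowers_two j.ot).1
  have CG : Cen1 t ≠ ⊤ := fun c => by
    have : t ∈ Cen (⊤ : Subgroup G) := cen.2 fun x _ => (c1.1 (c.ge (mem_top x))).symm
    rw [cen_top_simple h.hG, mem_bot] at this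
    simpa [this] using j.ot
  have cN : 2 * Nat.card N = Fintype.card F * (Fintype.card F ^ 2 - 1) := by
    rw [Nat.card_congr e.toEquiv, card_psl ho]
  have h8 : Fintype.card F % 8 = 3 ∨ Fintype.card F % 8 = 5 := by
    have s := a.syl.inf_of_le_normalizer (N := N) le_top (TC.trans CN)
    have h1 := card_inf_mul_relIndex (T ⊓ N) N
    rw [inf_assoc, inf_idem, j.c4] at h1
    have h2 := s.not_dvd
    by_contra c
    obtain ⟨k, hk⟩ : 16 ∣ Fintype.card F ^ 2 - 1 := by
      rw [Nat.odd_iff] at ho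
      have : Fintype.card F % 16 = 1 ∨ Fintype.card F % 16 = 7 ∨ Fintype.card F % 16 = 9 ∨
        Fintype.card F % 16 = 15 := by omega
      have : Fintype.card F ^ 2 % 16 = 1 := by
        rcases this with e | e | e | e <;> simp [Nat.pow_mod, e]
      omega
    rw [hk, ← h1] at cN
    exact h2 ⟨Fintype.card F * k, by nlinarith⟩
  let M : Subgroup G := N ⊔ zpowers t
  have MC : M ≤ Cen1 t := sup_le NC (zpowers_le.2 (c1.2 rfl))
  have mM : ∀ g ∈ M, g ∈ N ∨ t * g ∈ N := fun g hg => by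
    obtain ⟨n, hn, x, hx, rfl⟩ := (mem_sup_left_iff ((le_sup_right.trans MC).trans CN)).1 hg
    rcases mz hx with rfl | rfl
    · exact Or.inl (by simpa)
    · exact Or.inr (by rwa [c1.1 (NC hn), ← mul_assoc, tt, one_mul])
  obtain ⟨m, hm⟩ : ∃ m, 2 * m = Fintype.card F * (Fintype.card F - 1) :=
    ⟨_, Nat.mul_div_cancel' (Nat.even_mul_pred_self _).two_dvd⟩
  have H : Ht M (Ω m + 2) := .succ (Ht.of_top ((bor_ht ho hq hm).equiv e.symm))
    (lt_of_le_of_ne le_sup_left fun c => j.tN (c.ge (mem_sup_right (mem_zpowers t))))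
  have H6 := h.l7.le6 CG (H.mono MC)
  obtain ⟨p, -, f, hp, hf⟩ := FiniteField.card' F
  have key := om_pow (f := f) (m := m) hp (hf ▸ h8) (hf ▸ hm) (by omega)
  rw [← hf] at key
  have nz : Cen1 t ≤ Nor (zpowers t) :=
    (zpowers_eq_closure t ▸ (centralizer_closure {t}).ge).trans (centralizer_le_normalizer _)
  have CM : Cen1 t ≤ M := by
    rcases key with k | ⟨-, k⟩
    swap
    · exact (h.l7.max (by rwa [k] at H) MC CG).le
    obtain ⟨X, _, _, φ, hφ, hk⟩ := exists_quo (L := Cen1 t) (M := zpowers t)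
      nz
    have k1 : ∀ x : Cen1 t, φ x = 1 → x.1 ∈ zpowers t := fun x hx => hk.le hx
    have nL : (H5.im φ N).Normal := ⟨by
      rintro _ ⟨n, hn, rfl⟩ g
      obtain ⟨g, rfl⟩ := hφ g
      exact ⟨g * n * g⁻¹, (mem_normalizer_iff.1 (CN g.2) _).1 hn, by simp⟩⟩
    have cL : Cen (H5.im φ N) = ⊥ := eq_bot_iff.2 fun x hx => by
      obtain ⟨x, rfl⟩ := hφ x
      refine (hk.ge (j.cen ⟨⟨trivial, x.2⟩, cen.2 fun n hn => ?_⟩) :)
      have h1 := cen.1 hx _ (mem_im_of_mem (f := φ) (NC hn) hn)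
      have h2 := k1 (x * ⟨n, NC hn⟩ * x⁻¹ * ⟨n, NC hn⟩⁻¹) (by simp [h1])
      have h3 : x.1 * n * x.1⁻¹ * n⁻¹ ∈ N :=
        mul_mem ((mem_normalizer_iff.1 (CN x.2) _).1 hn) (inv_mem hn)
      rcases mz h2 with h4 | h4
      · rwa [← mul_inv_eq_iff_eq_mul, ← mul_inv_eq_one]
      · exact absurd (h4 ▸ h3) j.tN
    let ψ : N →* H5.im φ N := (φ.comp (inclusion NC)).codRestrict _ fun n =>
      mem_im_of_mem (f := φ) (NC n.2) n.2
    have hψ : Function.Bijective ψ := ⟨(injective_iff_map_eq_one _).2 fun n hn =>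
      (mz (k1 _ (congrArg Subtype.val hn))).elim (fun c => Subtype.ext c) fun c => absurd (c ▸ n.2) j.tN, by
        rintro ⟨_, n, hn, rfl⟩; exact ⟨⟨n, hn⟩, rfl⟩⟩
    have sq : ∀ x : Cen1 t, x * x ∈ M.subgroupOf (Cen1 t) := fun x => by
      obtain ⟨n, hn, c⟩ := sq_inn cL ho k ((MulEquiv.ofBijective ψ hψ).symm.trans e) (φ x)
      have := k1 (n⁻¹ * (x * x)) (by simp [c])
      exact (mul_mem_cancel_left (inv_mem (mem_sup_left hn : n.1 ∈ M))).1 (mem_sup_right this)
    have nM : (M.subgroupOf (Cen1 t)).Normal := normal_subgroupOf_of_le_normalizer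
      ((le_inf CN nz).trans
        (normalizer_inf_normalizer_le_normalizer_sup _ _))
    have TM : T ≤ M := fun x hx => by
      have h1 := card_inf_mul_relIndex N T
      rw [inf_comm, j.c4, j.c8] at h1
      have := (mul_mem_iff_of_index_two (H := N.subgroupOf T) (by rw [← relIndex]; omega)
        (a := ⟨x, hx⟩) (b := ⟨t, j.tS⟩))
      by_cases c : x ∈ N
      · exact mem_sup_left c
      · exact (mul_mem_cancel_right (mem_sup_right (mem_zpowers t) : t ∈ M)).1
          (mem_sup_left (this.2 (iff_of_false c j.tN)))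
    intro x hx
    by_contra c
    refine (a.syl.of_le TC le_top).not_dvd (Dvd.dvd.trans ?_ (relIndex_dvd_of_le_left _ TM))
    have : orderOf (QuotientGroup.mk (s := M.subgroupOf (Cen1 t)) ⟨x, hx⟩) = 2 :=
      orderOf_eq_prime (by rw [_root_.sq, ← QuotientGroup.mk_mul, QuotientGroup.eq_one_iff]; exact sq _)
        (mt (QuotientGroup.eq_one_iff _).1 c)
    exact this ▸ orderOf_dvd_natCard _
  by_cases q5 : Fintype.card F = 5
  · have := H8.psl_simple (slok hq)
    have : IsSimpleGroup N := e.isSimpleGroup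
    refine Or.inl (J1.janko (W.simple_perfect h.hG) tt (iso60 (by rw [q5] at cN; omega)) j.tN NC
      (fun g hg => mM g (CM hg)) (jr_one a j))
  exact Or.inr ⟨fun g hg => mM g (CM (c1.2 hg)), F, inferInstance, inferInstance, by omega, h8,
    key.imp_right And.left, ⟨e⟩⟩

end LN
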