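import Cfsg.Agent.LN.JI
import Cfsg.Agent.GW.Dg7
import Cfsg.Agent.L.Quat

/-! The facts about `L₂(q)` used for groups of Janko-Ree type. -/

set_option autoImplicit false
set_option linter.unusedSectionVars false

namespace LN.JA

open Cfsg Subgroup FT H4 H5 GW GW.Dg H6 Matrix Function
open scoped MatrixGroups

section transport
variable {X G : Type*} [Group X] [Group G] {f : X →* G} (hf : Injective f) {L P : Subgroup X}
include hf

theorem tor_map {a u : X} (t : Tor L a u) : Tor (L.map f) (f a) (f u) where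
  aL := mem_map_of_mem f t.aL
  uL := mem_map_of_mem f t.uL
  ou := (orderOf_injective f hf u).trans t.ou
  uA := by rw [← f.map_zpowers, mem_map_iff_mem hf]; exact t.uA
  inv := by rw [← map_inv, ← map_mul, ← map_mul, t.inv, map_inv]
  cen := by
    rw [← f.map_zpowers]
    rintro _ ⟨y, hy, rfl⟩ h _ ⟨g, hg, rfl⟩ c
    exact mem_map_of_mem f (t.cen y hy (fun e => h (by rw [← map_mul, e, map_one])) g hg
      (hf (by simpa using c.eq)))
  ti := by
    rw [← f.map_zpowers]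
    rintro _ ⟨y, hy, rfl⟩ h _ ⟨g, hg, rfl⟩ c
    rw [← map_inv, ← map_mul, ← map_mul, mem_map_iff_mem hf] at c
    rw [← map_mul, mem_map_iff_mem hf, mem_map_iff_mem hf]
    exact t.ti y hy (fun e => h (by rw [e, map_one])) g hg c

theorem inf_map (x : X) : L.map f ⊓ Cen1 (f x) = (L ⊓ Cen1 x).map f := by
  refine le_antisymm ?_ ?_
  · rintro _ ⟨⟨g, hg, rfl⟩, c⟩
    exact ⟨g, ⟨hg, c1.2 (hf (by simpa using c1.1 c))⟩, rfl⟩
  · rintro _ ⟨g, hg, rfl⟩
    exact ⟨⟨g, hg.1, rfl⟩, c1.2 (by rw [← map_mul, c1.1 hg.2, map_mul])⟩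

theorem uni_map {q : ℕ} : Uni (L.map f) (P.map f) q ↔ Uni L P q := by
  have e := Nat.card_congr (P.equivMapOfInjective f hf).toEquiv
  refine ⟨fun u => ⟨e.trans u.card, fun x hx x1 => map_injective hf ?_⟩,
    fun u => ⟨e.symm.trans u.card, ?_⟩⟩
  · rw [← inf_map hf, u.cen _ (mem_map_of_mem f hx) ((map_ne_one_iff f hf).2 x1)]
  · rintro _ ⟨x, hx, rfl⟩ x1
    rw [inf_map hf, u.cen x hx ((map_ne_one_iff f hf).1 x1)]

theorem lq_map {q r h : ℕ} (l : LQ L q r h) : LQ (L.map f) q r h := by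
  have o := orderOf_injective f hf
  have n := fun x => map_ne_one_iff f hf (x := x)
  have := l.sim
  refine ⟨(L.equivMapOfInjective f hf).symm.isSimpleGroup,
    (Nat.card_congr (L.equivMapOfInjective f hf).toEquiv).symm.trans l.card, l.num, l.odr, l.q5,
    l.pr, ?_, ?_, fun P u x hx x1 => ?_, fun N n0 d => ?_, fun e => ?_⟩
  · rintro _ ⟨x, hx, rfl⟩ x1
    refine (l.typ x hx ((n x).1 x1)).imp (fun ⟨P, u, m⟩ => ⟨_, (uni_map hf).2 u, mem_map_of_mem f m⟩)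
      fun ⟨a, u, t, m, e⟩ => ⟨_, _, tor_map hf t, ?_, by rwa [o]⟩
    rw [← f.map_zpowers]; exact mem_map_of_mem f m
  · rintro _ ⟨x, hx, rfl⟩ _ ⟨y, hy, rfl⟩
    rw [o, o, ← f.map_zpowers]
    intro p e
    obtain ⟨k, hk, m⟩ := l.cj x hx y hy p e
    exact ⟨_, mem_map_of_mem f hk, by simpa using mem_map_of_mem f m⟩
  · obtain ⟨P, rfl⟩ : ∃ P' : Subgroup X, P'.map f = P :=
      ⟨P.comap f, map_comap_eq_self (((u.cen x hx x1).ge.trans inf_le_left).trans (map_le_range f L))⟩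
    obtain ⟨x, hx, rfl⟩ := hx
    rintro _ ⟨v, hv, rfl⟩ ov e
    obtain ⟨p, m⟩ := l.bor P ((uni_map hf).1 u) x hx ((n x).1 x1) v hv ((o v).symm.trans ov)
      (hf (by simpa using e))
    refine ⟨p, ?_⟩
    rintro _ ⟨y, hy, rfl⟩ oy c
    exact le_normalizer_map f (mem_map_of_mem f (m y hy (o y ▸ oy) (hf (by simpa using c.eq))))
  · rw [← Nat.card_congr (L.equivMapOfInjective f hf).toEquiv] at d
    obtain ⟨P, k, u, c, e, m⟩ := l.gal N n0 d
    refine ⟨_, k, (uni_map hf).2 u, c, e, ?_⟩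
    rintro _ ⟨x, hx, rfl⟩ _ ⟨y, hy, rfl⟩ x1 y1
    obtain ⟨g, hg, e⟩ := m x hx y hy ((n x).1 x1) ((n y).1 y1)
    exact ⟨_, mem_map_of_mem f hg, e.imp (fun e => by simp [← e]) fun e => by
      rw [← map_pow, ← e]; simp⟩
  · rintro _ ⟨y, hy, rfl⟩
    obtain ⟨g, hg, e⟩ := l.real e y hy
    exact ⟨_, mem_map_of_mem f hg, by rw [← map_inv f y, ← e]; simp⟩

end transport

variable {X : Type*} [Group X] [Finite X] {L A : Subgroup X} {x y a u : X}

/-- an element of odd prime order is conjugate into a centralizer-closed subgroup -/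
theorem into (hA : ∀ z ∈ A, Odd (orderOf z) → z ≠ 1 → ∀ g ∈ L, Commute g z → g ∈ A)
    (hx : x ∈ L) (hy : y ∈ L) (yA : y ∈ A) (p : (orderOf x).Prime) (p2 : orderOf x ≠ 2)
    (e : orderOf y = orderOf x) : ∃ l ∈ L, l * x * l⁻¹ ∈ A := by
  have := Fact.mk p
  have y1 : y ≠ 1 := fun h => p.one_lt.ne (by rw [← e, h, orderOf_one])
  obtain ⟨S, hS, le⟩ := exists_isSylowOf_ge (q := orderOf x) (Q := zpowers y)
    (H9.isPGroup_zpowers (k := 1) (by rw [pow_one, ← e, pow_orderOf_eq_one])) (zpowers_le.2 hy)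
  obtain ⟨l, hl, m⟩ := hS.exists_conj_le (Q := zpowers x)
    (H9.isPGroup_zpowers (k := 1) (by rw [pow_one, pow_orderOf_eq_one])) (zpowers_le.2 hx)
  have : Nontrivial S := ⟨⟨⟨y, le (mem_zpowers y)⟩, 1, fun h => y1 (congrArg Subtype.val h)⟩⟩
  have := hS.isPGroup.center_nontrivial
  obtain ⟨⟨z, hz⟩, z1⟩ := exists_ne (1 : center S)
  have c := fun g (hg : g ∈ S) => congrArg Subtype.val (mem_center_iff.1 hz ⟨g, hg⟩)
  obtain ⟨n, hn⟩ := hS.isPGroup z
  have mS := m (conj_mem_conjS (mem_zpowers x))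
  exact ⟨l, hl, hA z (hA y yA (e ▸ p.odd_of_ne_two p2) y1 z (hS.le z.2)
    (c y (le (mem_zpowers y))).symm) (Odd.of_dvd_nat (p.odd_of_ne_two p2).pow
      (orderOf_dvd_of_pow_eq_one (congrArg Subtype.val hn)))
    (fun h => z1 (Subtype.ext (Subtype.ext h))) _ (hS.le mS) (c _ mS)⟩

theorem tor_inv (t : Tor L a u) (hy : y ∈ zpowers a) : u * y * u⁻¹ = y⁻¹ := by
  obtain ⟨i, rfl⟩ := hy
  simp only [← conj_zpow, t.inv, _root_.inv_zpow]

variable {F : Type} [Field F] [Fintype F] {π : SL(2, F) →* X} {J : M2 F} {g k : SL(2, F)}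

/-- the upper unitriangular matrices -/
def uh (F : Type) [Field F] : Multiplicative F →* SL(2, F) where
  toFun x := uT x.toAdd
  map_one' := uT_zero
  map_mul' _ _ := uT_add _ _

/-- their image -/
def Up (π : SL(2, F) →* X) : Subgroup X := (π.comp (uh F)).range

theorem mem_Up : x ∈ Up π ↔ ∃ s, π (uT s) = x := Iff.rfl

theorem bu (h : g.1 1 0 = 0) (s : F) : g * uT s * g⁻¹ = uT (g.1 0 0 ^ 2 * s) := by
  have := sl_det g
  rw [mul_inv_eq_iff_eq_mul]
  simp only [sl_ext, sl_mul, uT_coe, mx, h] at this ⊢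
  exact ⟨trivial, by linear_combination (-g.1 0 0 * s) * this, trivial, trivial⟩

theorem ex_u (h : g.1.trace = 2) : ∃ m s, g = m * uT s * m⁻¹ := by
  have d := sl_det g
  simp only [mx] at h
  by_cases c : g.1 1 0 = 0
  · have : g.1 0 0 = 1 := by
      rw [← sub_eq_zero, ← mul_self_eq_zero]
      linear_combination g.1 0 0 * h - d - g.1 0 1 * c
    refine ⟨1, g.1 0 1, ?_⟩
    simp only [one_mul, inv_one, mul_one, sl_ext, uT_coe, mx, c, this, true_and]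
    linear_combination h - this
  · obtain ⟨m, e⟩ := exists_sl (A := !![g.1 0 0 - 1, -(g.1 1 0)⁻¹; g.1 1 0, 0])
      (by simp only [mx]; field_simp; ring)
    refine ⟨m, -(g.1 1 0)⁻¹, eq_mul_inv_of_mul_eq ?_⟩
    simp only [sl_ext, sl_mul, uT_coe, e, mx]
    exact ⟨by linear_combination g.1 0 0 * h - d, by ring, by linear_combination g.1 1 0 * h,
      trivial⟩

variable (c : Ctx π L)
include c

theorem un1 {s : F} (h : π (uT s) ≠ 1) : s ≠ 0 := fun e => h (by rw [e, uT_zero, map_one])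

theorem uni : Uni L (Up π) (Fintype.card F) := by
  refine ⟨?_, ?_⟩
  · rw [← Nat.card_eq_fintype_card]
    exact (Nat.card_congr (MonoidHom.ofInjective (f := π.comp (uh F))
      fun _ _ e => c.uT_inj e).toEquiv).symm
  rintro _ ⟨s, rfl⟩ x1
  refine le_antisymm (fun x hx => ?_) ?_
  · obtain ⟨k, rfl⟩ := c.ex hx.1
    exact (c.comm_u (un1 c x1) (c1.1 hx.2)).imp fun _ e => e.symm
  · rintro _ ⟨t, rfl⟩
    exact ⟨c.mem _, c1.2 (by rw [← map_mul, ← map_mul, mul_comm])⟩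

theorem usq {s t : F} (h0 : s ≠ 0) (h : IsSquare (t * s⁻¹)) (h1 : t ≠ 0) :
    ∃ l ∈ L, l * π (uT s) * l⁻¹ = π (uT t) := by
  obtain ⟨d, e⟩ := h
  have d0 : d ≠ 0 := fun h => by simp [h, h0, h1] at e
  obtain ⟨m, e'⟩ := exists_sl (A := !![d, 0; 0, d⁻¹]) (by simp only [mx]; field_simp; ring)
  refine ⟨π m, c.mem m, ?_⟩
  rw [← map_inv, ← map_mul, ← map_mul, bu (by simp only [e', mx])]
  simp only [e', mx, sq, ← e, inv_mul_cancel_right₀ h0]

theorem ucj {n : ℕ} (hn : ¬ IsSquare (n : F)) : ∀ x ∈ Up π, ∀ x' ∈ Up π, x ≠ 1 → x' ≠ 1 →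
    ∃ l ∈ L, l * x * l⁻¹ = x' ∨ l * x * l⁻¹ = x' ^ n := by
  intro _ hx _ hx' x1 y1
  obtain ⟨s, rfl⟩ := mem_Up.1 hx
  obtain ⟨t, rfl⟩ := mem_Up.1 hx'
  by_cases h : IsSquare (t * s⁻¹)
  · exact (usq c (un1 c x1) h (un1 c y1)).imp fun _ e => ⟨e.1, Or.inl e.2⟩
  · rw [← map_pow, uT_pow]
    exact (usq c (un1 c x1) (mul_assoc (n : F) t _ ▸ H9.isSquare_mul_of_not hn h)
      (mul_ne_zero (fun e => hn (by simp [e])) (un1 c y1))).imp fun _ e => ⟨e.1, Or.inr e.2⟩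

theorem map_mem (h : π g ∈ (Nt J).map π) : g ∈ Nt J := by
  obtain ⟨k, hk, e⟩ := h
  rcases c.eq_iff.1 e.symm with rfl | rfl
  exacts [hk, neg_one_mul k ▸ mul_mem (neg_one_mem_Nt J) hk]

theorem form (hJ : J.trace = 0) (hd : J.det ≠ 0) (hg : g ∈ Nt J) (g1 : π g ≠ 1) :
    ∃ v : F, v ≠ 0 ∧ tl g.1 = v • J := by
  obtain ⟨v, e⟩ := prop_of_comm c.two hJ (ne_zero_of_det hd) (trace_tl g.1) (comm_tl hg)
  exact ⟨v, fun h => c.tl_ne g1 (by rw [e, h, zero_smul]), e⟩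

theorem tor (hJ : J.trace = 0) (hd : J.det ≠ 0) : ∃ a u, Tor L a u ∧ zpowers a = (Nt J).map π := by
  obtain ⟨⟨a, ha⟩, ea⟩ := (cyc_Nt c.two hJ hd).exists_generator
  obtain ⟨b, hb⟩ := exists_anti c.two hJ hd
  have e : zpowers (π a) = (Nt J).map π := by
    rw [← π.map_zpowers]
    congr 1
    exact le_antisymm (zpowers_le.2 ha) fun g hg =>
      (ea ⟨g, hg⟩).imp fun _ e => congrArg Subtype.val e
  refine ⟨π a, π b, ⟨c.mem a, c.mem b, c.ord_trl (lr_pi π b) (trace_of_anti c.two hd hb), ?_,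
    c.inv_N hJ hd hb (lr_pi π b) ha, ?_, ?_⟩, e⟩ <;> rw [e]
  · exact fun m => not_both c.two hd (sl_det_ne b) (map_mem c m) hb
  · rintro _ ⟨g, hg, rfl⟩ g2 x hx h
    obtain ⟨k, rfl⟩ := c.ex hx
    obtain ⟨v, v0, e⟩ := form c hJ hd hg fun e => g2 (by rw [e, one_mul])
    have := comm_tl (c.mem_N (lr_pi π k) (c1c.2 h.symm) fun e => g2 (ii e))
    rw [e, smul_mul_assoc, mul_smul_comm] at this
    exact mem_map_of_mem π (smul_right_injective _ v0 this).symm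
  · rintro _ ⟨g, hg, rfl⟩ g1 x hx ⟨g', hg', h⟩
    obtain ⟨k, rfl⟩ := c.ex hx
    obtain ⟨v, v0, e⟩ := form c hJ hd hg g1
    obtain ⟨v', -, e'⟩ := form c hJ hd hg' fun e => g1 (conj_eq_one_iff.1 (h.symm.trans e))
    obtain ⟨w, m⟩ := c.rel_tl (lr_pi π k) h.symm
    rw [mp_refl, e, e', mul_smul_comm, smul_mul_assoc, smul_smul, ← eq_inv_smul_iff₀ v0,
      smul_smul] at m
    refine (det_rel_pm (sl_det_ne k) hd m).imp (mem_map_of_mem π) fun e => ?_
    rw [← map_mul]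
    refine mem_map_of_mem π (mem_Nt.2 ?_)
    rw [sl_mul, mul_assoc, e, mul_neg, ← mul_assoc, hb, neg_mul, neg_neg, mul_assoc]

theorem typ (hx : x ∈ L) (x1 : x ≠ 1) : (∃ m s, x = π m * π (uT s) * (π m)⁻¹) ∨ ∃ a u, Tor L a u ∧
    x ∈ zpowers a ∧ (2 * orderOf a + 1 = Fintype.card F ∨ 2 * orderOf a = Fintype.card F + 1) := by
  obtain ⟨g, rfl⟩ := c.ex hx
  by_cases hd : (tl g.1).det = 0
  · have d := sl_det g
    have : (g.1.trace - 2) * (g.1.trace + 2) = 0 := by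
      simp only [tl, mx] at hd ⊢
      linear_combination 4 * d - hd
    obtain ⟨g', e, h⟩ : ∃ g', π g = π g' ∧ g'.1.trace = 2 := by
      rcases mul_eq_zero.1 this with h | h
      exacts [⟨g, rfl, sub_eq_zero.1 h⟩,
        ⟨-g, (c.neg g).symm, by rw [sl_neg, trace_neg]; linear_combination -h⟩]
    obtain ⟨m, s, rfl⟩ := ex_u h
    exact Or.inl ⟨m, s, by simp [e]⟩
  obtain ⟨a, u, t, e⟩ := tor c (trace_tl g.1) hd
  have h1 := card_Nt c.two (trace_tl g.1) hd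
  rw [c.card_map (neg_one_mem_Nt _), ← e, Nat.card_zpowers] at h1
  refine Or.inr ⟨a, u, t, e ▸ mem_map_of_mem π (comm_tl rfl).symm, ?_⟩
  split_ifs at h1 <;> omega

theorem typ' (hx : x ∈ L) (x1 : x ≠ 1) : (∃ m ∈ L, ∃ θ : SL(2, F) →* X, Ctx θ L ∧ x ∈ Up θ ∧
      m⁻¹ * x * m⁻¹⁻¹ ∈ Up π) ∨ ∃ a u, Tor L a u ∧
    x ∈ zpowers a ∧ (2 * orderOf a + 1 = Fintype.card F ∨ 2 * orderOf a = Fintype.card F + 1) :=
  (typ c hx x1).imp_left fun ⟨m, s, e⟩ => ⟨π m, c.mem m, _, c.conjx (π m), mem_Up.2 ⟨s, e.symm⟩,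
    mem_Up.2 ⟨s, by rw [e]; group⟩⟩

variable (h8 : Fintype.card F % 8 = 3 ∨ Fintype.card F % 8 = 5)
include h8

theorem cj (hx : x ∈ L) (hy : y ∈ L) (p : (orderOf x).Prime) (e : orderOf y = orderOf x) :
    ∃ l ∈ L, l * x * l⁻¹ ∈ zpowers y := by
  by_cases p2 : orderOf x = 2
  · obtain ⟨l, hl, k⟩ := c.conj hx hy p2 (e.trans p2)
    exact ⟨l, hl, k ▸ mem_zpowers _⟩
  have y1 : y ≠ 1 := fun h => p.one_lt.ne (by rw [← e, h, orderOf_one])
  rcases typ' c hy y1 with ⟨-, -, θ, d, m, -⟩ | ⟨a, u, t, m, -⟩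
  · obtain ⟨l, hl, k⟩ := into (fun z hz _ z1 g hg h => ((uni d).cen z hz z1).le ⟨hg, c1c.2 h⟩)
      hx hy m p p2 e
    obtain ⟨l', hl', k'⟩ := ucj d (n := 2) (by
      rw [Nat.cast_ofNat, FiniteField.isSquare_two_iff]; omega) _ k y m (fun h => p.one_lt.ne (by
        rw [conj_eq_one_iff.1 h, orderOf_one])) y1
    refine ⟨l' * l, mul_mem hl' hl, ?_⟩
    rw [show l' * l * x * (l' * l)⁻¹ = l' * (l * x * l⁻¹) * l'⁻¹ by group]
    rcases k' with k' | k' <;> rw [k']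
    exacts [mem_zpowers y, pow_mem (mem_zpowers y) 2]
  · obtain ⟨l, hl, k⟩ := into (fun z hz o z1 => t.cen z hz fun h => z1 (by
      rw [← pow_orderOf_eq_one z, o.choose_spec, pow_succ, pow_mul, sq, h, one_pow, one_mul]))
      hx hy m p p2 e
    exact ⟨l, hl, _root_.L.mem_zpowers_of_orderOf_dvd m k (by rw [oconj, e])⟩

omit h8 in
theorem bor {P : Subgroup X} (u : Uni L P (Fintype.card F)) (hx : x ∈ P) (x1 : x ≠ 1) {v : X}
    (hv : v ∈ L) (e : v * x * v⁻¹ = x⁻¹) :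
    IsSquare (-1 : F) ∧ ∀ y ∈ L, Odd (orderOf y) → Commute y v → y ∈ Nor P := by
  have eP := u.cen x hx x1
  rcases typ' c (eP.ge hx).1 x1 with ⟨-, -, θ, d, m, -⟩ | ⟨a, _, t, m, o⟩
  · rw [← eP, (uni d).cen x m x1]
    obtain ⟨s, rfl⟩ := mem_Up.1 m
    obtain ⟨k, rfl⟩ := d.ex hv
    rw [← map_inv θ (uT s), uT_inv, mul_inv_eq_iff_eq_mul] at e
    have e1 := d.rel_of_trace e (d.tr_uT _) (d.tr_uT _)
    have e0 := sl_det k
    have s0 := un1 d x1
    simp only [uT_coe, mx] at e1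
    have e2 : k.1 1 0 = 0 := mul_left_cancel₀ s0 (by linear_combination e1.1)
    have e3 : k.1 1 1 = -k.1 0 0 := mul_left_cancel₀ s0 (by linear_combination e1.2.1)
    rw [e2, e3] at e0
    refine ⟨⟨k.1 0 0, by linear_combination e0⟩, fun y hy o h => ?_⟩
    obtain ⟨g, rfl⟩ := d.ex hy
    have := d.comm_odd o (c1c.2 h)
    simp only [mx, e2, e3] at this
    have g0 : g.1 1 0 = 0 := by
      linear_combination (-k.1 0 0) * eq_zero_of_neg d.two (a := g.1 1 0 * k.1 0 0)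
        (by linear_combination this.2.2.1) - g.1 1 0 * e0
    refine mnor fun z hz => ?_
    obtain ⟨t, rfl⟩ := mem_Up.1 hz
    exact mem_Up.2 ⟨_, by rw [← bu g0, map_mul, map_mul, map_inv]⟩
  · have h := orderOf_dvd_natCard P (eP.le ⟨t.aL, c1s.1 (zpowers_le.2 (c1.2 rfl) m)⟩)
    rw [u.card] at h
    have : orderOf a ∣ 1 := by
      rcases o with o | o
      · rw [← o] at h; exact (Nat.dvd_add_right (dvd_mul_left _ _)).1 h
      · exact (Nat.dvd_add_right h).1 (o ▸ dvd_mul_left _ _)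
    rw [orderOf_eq_one_iff.1 (Nat.dvd_one.1 this), zpowers_one_eq_bot] at m
    exact absurd m x1

theorem lq (h5 : 5 < Fintype.card F) (hp : (Fintype.card F).Prime ∨ Fintype.card F = 27)
    (hs : IsSimpleGroup L) {r h : ℕ} (num : (Fintype.card F = 4 * r + 1 ∧ 2 * h = Fintype.card F + 1) ∨
      (Fintype.card F + 1 = 4 * r ∧ Fintype.card F = 2 * h + 1)) : LQ L (Fintype.card F) r h := by
  have sq := FiniteField.isSquare_neg_one_iff (F := F)
  have cd : Nat.card L = 4 * (Fintype.card F * r * h) := by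
    have := c.card_L
    rw [show Fintype.card F ^ 2 - 1 = 8 * (r * h) from Nat.sub_eq_of_eq_add (by
      rcases num with ⟨a, b⟩ | ⟨a, b⟩ <;> nlinarith)] at this
    nlinarith
  refine ⟨hs, cd, num, Nat.odd_iff.2 (by omega), h5, hp, fun x hx x1 => ?_,
    fun x hx y hy => cj c h8 hx hy, fun P u x hx x1 v hv _ e => ?_, fun N n0 d => ?_,
    fun e y hy => ?_⟩
  · exact (typ' c hx x1).imp (fun ⟨_, _, θ, d, m, _⟩ => ⟨_, uni d, m⟩) fun ⟨a, u, t, m, o⟩ =>
      ⟨a, u, t, m, by omega⟩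
  · exact (bor c u hx x1 hv e).imp_left fun s => hp.resolve_right fun e => sq.1 s (by omega)
  · rcases num with a | a
    · obtain ⟨k, lt, p, m⟩ := Nat.forall_exists_prime_gt_and_modEq N (a := 2) (q := Fintype.card F)
        (by omega) (Nat.coprime_two_left.2 (Nat.odd_iff.2 (by omega)))
      refine ⟨_, k, uni c, Nat.coprime_of_lt_prime n0 lt p, by omega, ucj c ?_⟩
      rw [CharP.natCast_eq_natCast' F (ringChar F) (m.of_dvd (ringChar.dvd
        (FiniteField.cast_card_eq_zero F))), Nat.cast_ofNat, FiniteField.isSquare_two_iff]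
      omega
    · refine ⟨_, N - 1, uni c, (Nat.coprime_self_sub_left (Nat.pos_of_ne_zero n0)).2 (by simp),
        fun _ => by rw [Nat.sub_add_cancel (Nat.pos_of_ne_zero n0)],
        ucj c ?_⟩
      obtain ⟨m, rfl⟩ := (cd ▸ d :)
      rw [Nat.cast_pred (Nat.pos_of_ne_zero n0)]
      simpa [FiniteField.cast_card_eq_zero, sq] using by omega
  · by_cases y1 : y = 1
    · exact ⟨1, one_mem _, by simp [y1]⟩
    rcases typ' c hy y1 with ⟨-, -, θ, d, m, -⟩ | ⟨a, u, t, m, -⟩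
    · obtain ⟨s, rfl⟩ := mem_Up.1 m
      rw [← map_inv, uT_inv]
      exact usq d (un1 d y1) (by rw [neg_mul, mul_inv_cancel₀ (un1 d y1), sq]; omega)
        (neg_ne_zero.2 (un1 d y1))
    · exact ⟨u, t.uL, tor_inv t m⟩

end LN.JA

open LN.JA GW GW.Dg Subgroup in
open scoped MatrixGroups in
theorem LN.lq_of {G : Type*} [Group G] [Finite G] (F : Type) [Field F] [Fintype F]
    (h5 : 5 < Fintype.card F) (h8 : Fintype.card F % 8 = 3 ∨ Fintype.card F % 8 = 5)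
    (hp : (Fintype.card F).Prime ∨ Fintype.card F = 27) : ∃ r h, ∀ M : Subgroup G,
      Nonempty (M ≃* PSL(2, F)) → LQ M (Fintype.card F) r h := by
  obtain ⟨r, h, num⟩ : ∃ r h, (Fintype.card F = 4 * r + 1 ∧ 2 * h = Fintype.card F + 1) ∨
      (Fintype.card F + 1 = 4 * r ∧ Fintype.card F = 2 * h + 1) := by
    rcases h8 with a | a
    exacts [⟨(Fintype.card F + 1) / 4, Fintype.card F / 2, by omega⟩,
      ⟨Fintype.card F / 4, (Fintype.card F + 1) / 2, by omega⟩]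
  refine ⟨r, h, fun M ⟨e⟩ => ?_⟩
  have ho : Odd (Fintype.card F) := Nat.odd_iff.2 (by omega)
  obtain ⟨hs, hn⟩ := simple_L2 (X := M) ⟨F, _, _, ho, by omega, ⟨e⟩⟩
  obtain ⟨π, c⟩ := exists_ctx (L := (⊤ : Subgroup M))
    ((IsSimpleGroup.eq_bot_or_eq_top_of_normal _ inferInstance).resolve_right fun e =>
      hn ⟨⟨fun a b => cen.1 (e.ge (mem_top a)) b trivial⟩⟩) ho (topEquiv.trans e)
  simpa [← MonoidHom.range_eq_map] using lq_map M.subtype_injective
    (lq c h8 h5 hp topEquiv.isSimpleGroup num)
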