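import Cfsg.Agent.LN.JI
import Cfsg.Agent.LN.J0
import Cfsg.Agent.H8.Sq1

/-! Ward's condition IV. -/

set_option autoImplicit false
set_option linter.unusedSectionVars false

namespace LN

open Cfsg Subgroup FT H4 H5 GW H7

variable {G : Type*} [Group G] [Finite G] {t w y a : G} {L : Subgroup G} {q r h : ℕ}

theorem sylw (h4 : ∀ x : G, ¬ 4 ∣ orderOf x) {X : Subgroup G} (ow : orderOf w = 2) (wX : w ∈ X)
    (u : ∀ s ∈ X, s * s = 1 → Commute s w → s = 1 ∨ s = w) : IsSylowOf 2 (zpowers w) X := by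
  obtain ⟨T, hT, l⟩ := exists_isSylowOf_ge (two_zp ow) (zpowers_le.2 wX)
  have wT := l (mem_zpowers w)
  obtain ⟨s, hs, s2, s1, c⟩ :=
    H5.Dich.exists_central hT.isPGroup fun e => ine ow (mem_bot.1 (e ▸ wT))
  obtain rfl := (u s (hT.le hs) s2 (c1c.1 (c1s.1 (c wT)))).resolve_left s1
  suffices e : T = zpowers s from e ▸ hT
  refine le_antisymm (fun x hx => ?_) l
  obtain ⟨k, hk⟩ := (IsPGroup.iff_orderOf.1 hT.isPGroup) ⟨x, hx⟩
  rw [← Subgroup.orderOf_coe] at hk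
  have : x * x = 1 := by
    rw [← sq, ← orderOf_dvd_iff_pow_eq_one, hk]
    refine (pow_dvd_pow 2 (n := 1) ?_).trans (by norm_num)
    by_contra c
    exact h4 x (hk ▸ pow_dvd_pow 2 (show 2 ≤ k by omega))
  rcases u x (hT.le hx) this (c1c.1 (c hx)) with e | e <;> rw [e]
  exacts [one_mem _, mem_zpowers _]

theorem inv_zp' {x s z : G} (h : s * x * s⁻¹ = x⁻¹) (hz : z ∈ zpowers x) : s * z * s⁻¹ = z⁻¹ := by
  obtain ⟨n, rfl⟩ := hz
  simp only [← conj_zpow, h, inv_zpow]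
theorem ex_prime {K : Subgroup G} (h : K ≠ ⊥) : ∃ a ∈ K, (orderOf a).Prime := by
  obtain ⟨x, x1⟩ := ne_bot_iff_exists_ne_one.1 h
  have o : orderOf x.1 ≠ 1 := fun e => x1 (Subtype.ext (orderOf_eq_one_iff.1 e))
  refine ⟨x.1 ^ (orderOf x.1 / (orderOf x.1).minFac), pow_mem x.2 _, ?_⟩
  rw [orderOf_pow_orderOf_div (orderOf_pos _).ne' (Nat.minFac_dvd _)]
  exact Nat.minFac_prime o

namespace JG
variable (j : JG t L q r h)
include j

theorem odd_mem {x : G} (c : Commute x t) (o : Odd (orderOf x)) : x ∈ L :=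
  (j.dec x c).elim id fun e => GW.mem_of_sq_mem o (by
    have := mul_mem e e
    rwa [mul_assoc, ← mul_assoc x, c.eq, mul_assoc, ← mul_assoc, ii j.ot, one_mul] at this)
theorem typ3 {x : G} (hx : x ∈ L) (x1 : x ≠ 1) : (∃ P, Uni L P q ∧ x ∈ P ∧ orderOf x ∣ q) ∨
    (∃ b u, Tor L b u ∧ x ∈ zpowers b ∧ orderOf b = 2 * r ∧ orderOf x ∣ 2 * r) ∨
    ∃ b u, Tor L b u ∧ x ∈ zpowers b ∧ orderOf b = h ∧ orderOf x ∣ h := by
  rcases j.lq.typ x hx x1 with ⟨P, p, m⟩ | ⟨b, u, p, m, e | e⟩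
  · exact Or.inl ⟨P, p, m, p.card ▸ Subgroup.orderOf_dvd_natCard _ m⟩
  · exact Or.inr (Or.inl ⟨b, u, p, m, e, e ▸ orderOf_dvd_of_mem_zpowers m⟩)
  · exact Or.inr (Or.inr ⟨b, u, p, m, e, e ▸ orderOf_dvd_of_mem_zpowers m⟩)
theorem typT {x : G} (hx : x ∈ L) (x1 : x ≠ 1) (d : orderOf x ∣ h) :
    ∃ b u, Tor L b u ∧ x ∈ zpowers b ∧ orderOf b = h := by
  rcases j.typ3 hx x1 with ⟨P, -, -, e⟩ | ⟨b, u, -, -, -, e⟩ | ⟨b, u, p, m, e, -⟩
  · exact absurd (orderOf_eq_one_iff.1 (Nat.eq_one_of_dvd_coprimes j.lq.cqh e d)) x1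
  · exact absurd (orderOf_eq_one_iff.1 (Nat.eq_one_of_dvd_coprimes
      ((odd_iff_cop.1 j.lq.odh).symm.mul_left j.lq.crh) e d)) x1
  · exact ⟨b, u, p, m, e⟩

theorem cfP (c : Cf t w y a) (hy : orderOf y ∣ h) (ha : orderOf a ∣ q) : False := by
  obtain ⟨M, k⟩ := j.all c.ow
  have l := j.lq
  have oa := l.odq.of_dvd_nat ha
  have oy := l.odh.of_dvd_nat hy
  have a1 : a ≠ 1 := fun e => c.pa.ne_one (orderOf_eq_one_iff.2 e)
  have y1 : y ≠ 1 := fun e => c.py.ne_one (orderOf_eq_one_iff.2 e)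
  have aM := k.odd_mem c.wa.symm oa
  obtain ⟨v, vM, ov, va, vt⟩ : ∃ v ∈ M, orderOf v = 2 ∧ v * a * v⁻¹ = a⁻¹ ∧
      ∀ z ∈ M, Commute z v → Commute z t := by
    rcases k.dec t c.tw with e | e
    · exact ⟨t, e, c.ot, c.ta, fun _ _ e => e⟩
    · refine ⟨w * t, e, (F4.mk c.ow c.ot c.tw.symm.eq c.ne).hta, ?_, fun z hz e => ?_⟩
      · rw [mul_inv_rev, ← mul_assoc, mul_assoc w, mul_assoc w, c.ta, c.wa.inv_right.eq,
          mul_inv_cancel_right]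
      · simpa using (c1c.1 (k.le hz)).inv_right.mul_right e
  obtain ⟨P, p, aP⟩ : ∃ P, Uni M P q ∧ a ∈ P := by
    rcases k.typ3 aM a1 with ⟨P, p, m, -⟩ | ⟨b, u, -, -, -, e⟩ | ⟨b, u, -, -, -, e⟩
    · exact ⟨P, p, m⟩
    · exact absurd (Nat.eq_one_of_dvd_coprimes ((odd_iff_cop.1 l.odq).mul_right l.cqr) ha e)
        c.pa.ne_one
    · exact absurd (Nat.eq_one_of_dvd_coprimes l.cqh ha e) c.pa.ne_one
  obtain ⟨qp, hN⟩ := k.lq.bor P p a aP a1 v vM ov va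
  obtain rfl : zpowers a = P := eq_of_le_of_card_ge (zpowers_le.2 aP) (by
    rw [p.card, Nat.card_zpowers, (Nat.prime_dvd_prime_iff_eq c.pa qp).1 ha])
  obtain ⟨z, zM, oz, zv⟩ : ∃ z ∈ M, orderOf z = r ∧ Commute z v := by
    rcases k.typ3 vM (ine ov) with ⟨P, -, -, e⟩ | ⟨b, u, p, m, e, -⟩ | ⟨b, u, -, -, -, e⟩
    · exact absurd (l.odq.of_dvd_nat e) (by rw [ov]; decide)
    · refine ⟨b ^ 2, pow_mem p.aL 2, ?_, ?_⟩
      · rw [orderOf_pow, e, Nat.gcd_mul_right_left, Nat.mul_div_cancel_left _ two_pos]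
      · obtain ⟨n, rfl⟩ := m
        exact ((Commute.refl b).zpow_right n).pow_left 2
    · exact absurd (l.odh.of_dvd_nat e) (by rw [ov]; decide)
  have oz' : Odd (orderOf z) := oz ▸ l.odr
  have zt := vt z zM zv
  have zX : z ∈ Nor (Cen1 a ⊓ Cen1 t) :=
    minf (cen_zp a ▸ mcen (hN z zM oz' zv)) (mc1 (c1c.2 zt))
  have yX : y ∈ Cen1 a ⊓ Cen1 t := ⟨c1c.2 c.ya, c1c.2 c.ty.symm⟩
  have wX : w ∈ Cen1 a ⊓ Cen1 t := ⟨c1c.2 c.wa, c1c.2 c.tw.symm⟩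
  have u : ∀ s ∈ Cen1 a ⊓ Cen1 t, Commute s w → s = 1 ∨ s = w := fun s hs e => by
    have : ∀ s ∈ Cen1 a ⊓ Cen1 t, s ∈ M → s = 1 := fun s hs m =>
      have m' := (p.cen a aP a1).le ⟨m, hs.1⟩
      eq_one_of_inv_cen (oa.of_dvd_nat (orderOf_dvd_of_mem_zpowers m')) (inv_zp' c.ta m') hs.2
    refine (k.dec s e).imp (this s hs) fun m => ?_
    rw [← iinv c.ow]; exact eq_inv_of_mul_eq_one_right (this _ (mul_mem wX hs) m)
  have n := H8.Sq.npc_cyc (sylw j.h4 c.ow wX fun s hs _ => u s hs) rfl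
  have cm := comm_of_inv (fun _ => inv_of_fpf (odd_Oo (Cen1 a ⊓ Cen1 t)) c.ow (lOo _ wX)
    (eq_bot_iff.2 fun s hs => (u s (pPrimeCoreIn_le _ _ hs.1) (c1c.1 hs.2)).resolve_right
      fun e => not_mem_odd (odd_Oo _) c.ow (e ▸ hs.1)))
    (n.mem_of_coprime (cmem zX yX) (odd_iff_cop.1 (by rwa [oconj])))
    (n.mem_of_coprime yX (odd_iff_cop.1 oy))
  have yL := j.odd_mem c.ty.symm oy
  have zL := j.odd_mem zt oz'
  obtain ⟨b, u, p, m, ob⟩ := j.typT yL y1 hy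
  have r3 := l.r3
  rcases p.ti y m y1 z zL (p.cen y m (fun e => y1 (eq_one_of_odd_sq oy e)) _
    (mul_mem (mul_mem zL yL) (inv_mem zL)) cm) with e | e
  · have := Nat.eq_one_of_dvd_coprimes l.crh oz.dvd
      (ob ▸ orderOf_dvd_of_mem_zpowers e)
    omega
  · have := inv_zp' p.inv e
    rw [iinv p.ou, ← mul_assoc, ii p.ou, one_mul, eq_inv_iff_mul_eq_one, mul_assoc,
      ← mul_assoc u, ii p.ou, one_mul] at this
    rw [eq_one_of_odd_sq oz' this, orderOf_one] at oz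
    omega

theorem iv (hT : ∀ {t w y a : G} {L : Subgroup G}, JG t L q r h → Cf t w y a → orderOf y ∣ h →
      orderOf a = orderOf y → False)
    (hR : ∀ {w y a : G}, Cf t w y a → orderOf y ∣ h → orderOf a ∣ r → False) : IV t L h := by
  suffices H : ∀ y ∈ L, (orderOf y).Prime → orderOf y ∣ h → Cen1 y ≤ Cen1 t by
    intro y hy y1 d g c
    obtain ⟨x, hx, px⟩ := ex_prime (K := zpowers y) (mt zpowers_eq_bot.1 y1)
    refine c1c.1 (H x (zpowers_le.2 hy hx) px ((orderOf_dvd_of_mem_zpowers hx).trans d) ?_)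
    exact c1s.1 (zpowers_le.2 (c1s.1 (c1c.2 c)) hx)
  intro y yL py hy
  have l := j.lq
  have oy := l.odh.of_dvd_nat hy
  have y1 : y ≠ 1 := fun e => py.ne_one (orderOf_eq_one_iff.2 e)
  obtain ⟨b, u, p, m, ob⟩ := j.typT yL y1 hy
  have odb : ∀ {x}, x ∈ zpowers b → Odd (orderOf x) := fun hx =>
    l.odh.of_dvd_nat (ob ▸ orderOf_dvd_of_mem_zpowers hx)
  have cy := p.cen y m fun e => y1 (eq_one_of_odd_sq oy e)
  have ty : t ∈ Cen1 y := c1s.1 (j.le yL)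
  have syl := sylw j.h4 j.ot ty fun s hs s2 c => by
    refine (j.dec s c).imp (fun e => eq_one_of_odd_sq (odb (cy s e (c1c.1 hs))) s2) fun e => ?_
    rw [← iinv j.ot]
    refine eq_inv_of_mul_eq_one_right
      (eq_one_of_odd_sq (odb (cy _ e (c1c.1 (mul_mem ty hs)))) ?_)
    rw [mul_assoc, ← mul_assoc s, c.eq, mul_assoc, s2, mul_one, ii j.ot]
  have n := H8.Sq.npc_cyc syl rfl
  refine (le_sup_sylow (nUo y) (npc_iff_pPrimeCoreIn.1 n) syl).trans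
    (sup_le ?_ (zpowers_le.2 (c1.2 rfl)))
  have f : F4 t u := ⟨j.ot, p.ou, (c1.1 (j.le p.uL)).symm, fun e => j.tL (e ▸ p.uL)⟩
  have uy := inv_zp' p.inv m
  have VN : V4 t u ≤ Nor (Uo y) := V_le (nUo y ty) (nOo _ (cen_zp y ▸ mcen
    (nor_of_inv fun _ => inv_zp' uy)))
  have oO := odd_Oo (Cen1 y)
  have inv : ∀ v ∈ V4 t u, ∀ v' ∈ V4 t u, v ≠ 1 → v' ≠ 1 → v' ≠ v → ∀ x ∈ Uo y ⊓ Cen1 v,
      v' * x * v'⁻¹ = x⁻¹ := fun v hv v' hv' v1 v1' ne x hx => by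
    obtain ⟨f', e⟩ := f.of_V hv hv' v1 v1' ne
    refine inv_of_fpf (odd_of_le inf_le_left oO) f'.ha (minf (VN hv') (mc1 f'.aH))
      (eq_bot_iff.2 fun s hs => ?_) hx
    have s1 : s ∈ Cen1 t ⊓ Cen1 u := by rw [← cen_V, ← e, cen_V]; exact ⟨hs.1.2, hs.2⟩
    have os := odd_ord oO hs.1.1
    exact eq_one_of_inv_cen os (inv_zp' p.inv
      (cy s (j.odd_mem (c1c.1 s1.1) os) (c1c.1 (Uo_le y hs.1.1)))) s1.2
  have cf : ∀ v ∈ V4 t u, ∀ v' ∈ V4 t u, v ≠ 1 → v' ≠ 1 → v' ≠ v → ∀ x ∈ Uo y ⊓ Cen1 v,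
      ∀ x' ∈ Uo y ⊓ Cen1 v', (orderOf x).Prime → (orderOf x').Prime → Commute x x' →
      Cf v v' x x' := fun v hv v' hv' v1 v1' ne x hx x' hx' px px' c =>
    have f' := (f.of_V hv hv' v1 v1' ne).1
    ⟨f'.ht, f'.ha, f'.comm, ne.symm, px, px', c, (c1c.1 hx.2).symm,
      inv v' hv' v hv v1' v1 ne.symm x' hx', (c1c.1 hx'.2).symm, inv v hv v' hv' v1 v1' ne x hx⟩
  have key : ∀ w ∈ V4 t u, w ≠ 1 → w ≠ t → Uo y ⊓ Cen1 w ≤ Cen1 t := fun w hw w1 wt => by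
    by_contra c
    obtain ⟨a, ha, pa⟩ := ex_prime (K := Uo y ⊓ Cen1 w) fun e => c (e ▸ bot_le)
    have c := cf t (t_V t u) w hw (ine j.ot) w1 wt y
      ⟨n.mem_of_coprime (c1.2 rfl) (odd_iff_cop.1 oy), j.le yL⟩ a ha py pa
      (c1c.1 (Uo_le y ha.1)).symm
    obtain ⟨M, k⟩ := j.all c.ow
    have oa := odd_ord oO ha.1
    rcases k.typ3 (k.odd_mem c.wa.symm oa) (fun e => pa.ne_one (orderOf_eq_one_iff.2 e)) with
      ⟨P, -, -, e⟩ | ⟨_, _, -, -, -, e⟩ | ⟨_, _, -, -, -, e⟩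
    · exact j.cfP c hy e
    · exact hR c hy ((odd_iff_cop.1 oa).dvd_of_dvd_mul_left e)
    have := Fact.mk pa
    obtain ⟨S, hS, VS⟩ := exists_invariant_isSylowOf (orderOf a) VN (f.cop_V oO) (Or.inl f.solv_V)
    have ex : ∀ v ∈ V4 t u, v ≠ 1 → orderOf a ∣ Nat.card (Uo y ⊓ Cen1 v : Subgroup G) →
        S ⊓ Cen1 v ≠ ⊥ := fun v hv v1 d => by
      have := hS.inf_centralizer (A := zpowers v) ((zpowers_le.2 hv).trans VN)
        (cop_zp (f.inv_V hv v1) oO) (Or.inl (solv_zp v)) ((zpowers_le.2 hv).trans VS)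
      rw [show centralizer (zpowers v : Set G) = Cen1 v from cen_zp v] at this
      exact this.ne_bot d
    have St := ex t (t_V t u) (ine j.ot) (e.trans (ob ▸ Subgroup.orderOf_dvd_natCard _
      ⟨n.mem_of_coprime (c1s.1 (zpowers_le.2 (c1.2 rfl) m))
        (odd_iff_cop.1 (odb (mem_zpowers b))), j.le p.aL⟩))
    have Sw := ex w hw w1 (Subgroup.orderOf_dvd_natCard _ ha)
    have ord : ∀ x ∈ S, (orderOf x).Prime → orderOf x = orderOf a := fun x hx px => by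
      obtain ⟨k, hk⟩ := (IsPGroup.iff_orderOf.1 hS.isPGroup) ⟨x, hx⟩
      rw [← Subgroup.orderOf_coe] at hk
      exact (Nat.prime_dvd_prime_iff_eq px pa).1 (px.dvd_of_dvd_pow hk.dvd)
    obtain ⟨v, hv, v1, Zv⟩ : ∃ v ∈ V4 t u, v ≠ 1 ∧ Zc S ⊓ Cen1 v ≠ ⊥ := by
      by_contra c
      push Not at c
      have VZ := nZc VS
      exact zc_ne (nil_p hS.isPGroup) (fun e => St (by rw [e, bot_inf_eq])) (eq_bot_iff.2
        (f.gen (VZ (t_V t u)) (VZ (a_V t u)) (odd_of_le (inf_le_left.trans hS.le) oO)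
          (c _ (t_V t u) (ine f.ht)).le (c _ (a_V t u) (ine f.ha)).le
          (c _ (mul_mem (t_V t u) (a_V t u)) (ine f.hta)).le))
    obtain ⟨v', hv', v1', ne, Sv⟩ : ∃ v' ∈ V4 t u, v' ≠ 1 ∧ v' ≠ v ∧ S ⊓ Cen1 v' ≠ ⊥ := by
      by_cases e : t = v
      exacts [⟨w, hw, w1, e ▸ wt, Sw⟩, ⟨t, t_V t u, ine j.ot, e, St⟩]
    obtain ⟨x, hx, px⟩ := ex_prime Zv
    obtain ⟨x', hx', px'⟩ := ex_prime Sv
    obtain ⟨M', k'⟩ := j.all (f.inv_V hv v1)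
    exact hT k' (cf v hv v' hv' v1 v1' ne x ⟨hS.le hx.1.1, hx.2⟩ x' ⟨hS.le hx'.1, hx'.2⟩ px px'
      (cen.1 hx.1.2 x' hx'.1)) (ord x hx.1.1 px ▸ e) ((ord x' hx'.1 px').trans (ord x hx.1.1 px).symm)
  exact f.gen (VN (t_V t u)) (VN (a_V t u)) oO inf_le_right
    (key u (a_V t u) (ine f.ha) f.ne) (key _ (mul_mem (t_V t u) (a_V t u)) (ine f.hta) f.mul.ne)

end JG

theorem exists_jg {T N : Subgroup G} (H : Hy G) (a : W.AS T ⊤) (j : W.JR ⊤ T t N)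
    (dec : ∀ g, Commute g t → g ∈ N ∨ t * g ∈ N)
    (lq : ∀ M : Subgroup G, Nonempty (M ≃* N) → LQ M q r h) : JG t N q r h := by
  have NC : N ≤ Cen1 t := j.le.trans inf_le_right
  obtain ⟨ρ, ρN, ρT, fx⟩ := j.rho
  have ab : ∀ x ∈ T, ∀ y ∈ T, x * y = y * x := fun x hx y hy => comm_of_isMulCommutative a.ab hx hy
  have mz : ∀ x ∈ N, x ∈ zpowers t → x = 1 := fun x hx m =>
    ((H9.mem_zpowers_two j.ot).1 m).resolve_right fun e => j.tN (e ▸ hx)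
  have ρW : ρ ∈ Nor (T ⊓ N) := minf ρT (le_normalizer ρN)
  have o2 : ∀ x ∈ T, x ≠ 1 → orderOf x = 2 := fun x hx =>
    orderOf_eq_prime (by rw [sq, j.p0.sq x hx])
  have c3 : ∀ w ∈ T ⊓ N, ρ * (ρ * (ρ * w * ρ⁻¹) * ρ⁻¹) * ρ⁻¹ = w := fun w hw => by
    by_cases w1 : w = 1
    · simp [w1]
    have h1 := cmem ρW hw
    have nf : ∀ w ∈ T ⊓ N, w ≠ 1 → ρ * w * ρ⁻¹ ≠ w := fun w hw w1 e => w1 (mz w hw.2 (fx w hw.1 e))
    have f : F4 w (ρ * w * ρ⁻¹) :=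
      ⟨o2 w hw.1 w1, iconj (o2 w hw.1 w1) ρ, ab _ hw.1 _ h1.1, nf w hw w1⟩
    have e : V4 w (ρ * w * ρ⁻¹) = T ⊓ N :=
      eq_of_le_of_card_ge (V_le hw h1) (by rw [j.c4, f.card_V])
    rcases f.mem_V.1 (e.ge (cmem ρW h1)) with k | k | k | k
    · exact absurd k (ine (iconj f.ha ρ))
    · exact absurd (by rw [← conj_mul, k, ← f.c]) (nf _ (mul_mem hw h1) (ine f.hta))
    · exact absurd k (nf _ h1 (ine f.ha))
    · rw [k, ← conj_mul, k, f.ata]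
  have c3' : ρ ^ 3 ∈ Cen T := cen.2 fun x hx => by
    have k : ∀ w ∈ T ⊓ N, ρ ^ 3 * w = w * ρ ^ 3 := fun w hw => by
      rw [← mul_inv_eq_iff_eq_mul, ← c3 w hw]
      conv_lhs => rw [c3 w hw]
      simp only [pow_succ, pow_zero, one_mul, mul_inv_rev, mul_assoc]
    rcases dec x (ab x hx t j.tS) with e | e
    · exact k x ⟨hx, e⟩
    · have := k _ ⟨mul_mem j.tS hx, e⟩
      rwa [← mul_assoc, c1.1 (NC (pow_mem ρN 3)), mul_assoc, mul_assoc, mul_right_inj] at this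
  have fx2 : ∀ v ∈ T, ρ ^ 2 * v * (ρ ^ 2)⁻¹ = v → v ∈ zpowers t := fun v hv e => fx v hv (by
    have := cen.1 c3' v hv
    rw [pow_succ', mul_assoc, mul_inv_eq_iff_eq_mul.1 e, ← mul_assoc, ← mul_assoc,
      mul_left_inj] at this
    rw [this, mul_inv_cancel_right])
  have : Fact (Nat.Prime 3) := ⟨Nat.prime_three⟩
  refine ⟨H, j.ot, fun w hw => jr_one a j w (ii hw) (ine hw), NC, j.tN, dec, lq, T, ρ ^ 2, a, j.c8,
    j.p0.sq, j.tS, pow_mem ρN 2, orderOf_eq_prime ?_ fun e => ?_, pow_mem ρT 2, fx2⟩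
  · rw [← pow_mul, mul_comm, pow_mul, sq, j.p0.sq _ (j.sc ⟨pow_mem ρN 3, c3'⟩)]
  · have := card_le_of_le (show T ≤ zpowers t from fun v hv => fx2 v hv (by simp [e]))
    rw [j.c8, Nat.card_zpowers, j.ot] at this
    omega

universe u
open scoped MatrixGroups in
theorem pj_of
    (lq : ∀ {G : Type u} [Group G] [Finite G] (F : Type) [Field F] [Fintype F], 5 < Fintype.card F →
      (Fintype.card F % 8 = 3 ∨ Fintype.card F % 8 = 5) →
      ((Fintype.card F).Prime ∨ Fintype.card F = 27) → ∃ r h, ∀ M : Subgroup G,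
        Nonempty (M ≃* PSL(2, F)) → LQ M (Fintype.card F) r h)
    (hT : ∀ {G : Type u} [Group G] [Finite G] {t w y a : G} {L : Subgroup G} {q r h : ℕ},
      JG t L q r h → Cf t w y a → orderOf y ∣ h → orderOf a = orderOf y → False)
    (hR : ∀ {G : Type u} [Group G] [Finite G] {t w y a : G} {L : Subgroup G} {q r h : ℕ},
      JG t L q r h → Cf t w y a → orderOf y ∣ h → orderOf a ∣ r → False)
    (ch : ∀ {G : Type u} [Group G] [Finite G] {t : G} {L : Subgroup G} {q r h : ℕ},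
      JG t L q r h → IV t L h → False) : PJ.{u} := fun G _ _ T N t H a j => by
  rcases j0 H a j with e | ⟨dec, F, _, _, h5, h8, hp, ⟨e⟩⟩
  · exact Or.inr (Or.inr (Or.inr (Or.inr (Or.inl e))))
  obtain ⟨r, h, l⟩ := lq (G := G) F h5 h8 hp
  have k := exists_jg H a j dec fun M ⟨φ⟩ => l M ⟨φ.trans e⟩
  exact (ch k (k.iv hT (hR k))).elim

end LN
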