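import Cfsg.Agent.LN.JD1
import Cfsg.Agent.LN.JP1

/-! Groups of Janko-Ree type: counting in a torus. -/

set_option autoImplicit false
set_option linter.unusedSectionVars false

namespace LN.J

open Cfsg Subgroup H8 L Z6 CK H2
open scoped ComplexConjugate Classical

variable {G : Type*} [Group G] [Fintype G] {L : Subgroup G} {a u : G} {q r h : ℕ}

theorem zcm {x y : G} (hx : x ∈ zpowers a) (hy : y ∈ zpowers a) : Commute x y := by
  obtain ⟨i, rfl⟩ := hx
  obtain ⟨j, rfl⟩ := hy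
  exact Commute.zpow_zpow_self a i j

theorem o2 {X : Type*} [Group X] {x : X} : orderOf x = 2 ↔ x * x = 1 ∧ x ≠ 1 :=
  ⟨fun h => ⟨GW.ii h, GW.ine h⟩, fun h => orderOf_eq_prime (by rw [sq, h.1]) h.2⟩

theorem tor_sum (T : Tor L a u) (f : L → ℂ) {c d : ℂ}
    (h : ∀ g, f g ≠ 0 → (g : G) ∈ zpowers a ∨ u * g ∈ zpowers a)
    (h1 : ∀ g : L, (g : G) ∈ zpowers a → f g = c)
    (h2 : ∀ g : L, u * g ∈ zpowers a → f g = d) : ∑ g, f g = orderOf a * (c + d) := by
  have u2 := GW.ii T.ou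
  rw [sum2 (A := (zpowers a).subgroupOf L) (u := ⟨u, T.uL⟩) (Subtype.ext u2) T.uA f h,
    Finset.sum_congr rfl (g := fun _ => c + d), Finset.sum_const, Finset.card_univ,
    ← Nat.card_eq_fintype_card, Nat.card_congr (subgroupOfEquivOfLe (zpowers_le.2 T.aL)).toEquiv,
    Nat.card_zpowers, nsmul_eq_mul]
  intro g _
  rw [h1 _ g.2, h2 _ (by rw [coe_mul, ← mul_assoc, u2, one_mul]; exact g.2)]

theorem Tor_inv (T : Tor L a u) {g y : G} (hg : u * g ∈ zpowers a) (hy : y ∈ zpowers a) :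
    g * y = y⁻¹ * g := by
  have u2 := GW.ii T.ou
  have e := inv_zp' T.inv hy
  calc g * y = u * (u * g * y) := by rw [mul_assoc u g, ← mul_assoc u u, u2, one_mul]
    _ = u * y * u⁻¹ * (u * u * g) := by rw [(zcm hg hy).eq]; group
    _ = _ := by rw [e, u2, one_mul]

theorem tor_col (T : Tor L a u) {y y' : L} (hy : (y : G) ∈ zpowers a)
    (hy' : (y' : G) ∈ zpowers a) (n : y' ≠ 1) :
    col y' y = orderOf a * ((if y' = y then 1 else 0) + if y' = y⁻¹ then 1 else 0) := by
  refine tor_sum T _ (fun g e => T.ti _ hy' (fun k => n (Subtype.ext k)) g g.2 ?_)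
    (fun g hg => ?_) fun g hg => ?_
  · have e' : g * y' = y * g := by by_contra k; exact e (if_neg k)
    rwa [← coe_mul, e', coe_mul, mul_inv_cancel_right]
  · rw [show g * y' = y' * g from Subtype.ext (zcm hg hy').eq]
    simp
  · rw [show g * y' = y'⁻¹ * g from Subtype.ext (Tor_inv T hg hy')]
    simp [inv_eq_iff_eq_inv]

theorem tor_pc (T : Tor L a u) {g : L} (hg : (g : G) ∈ zpowers a) (n : g ≠ 1) :
    pc g = orderOf a := by
  rw [pc, tor_sum T _ (c := 0) (d := 1), zero_add, mul_one]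
  · intro x e
    have e' : orderOf x = 2 ∧ orderOf (x * g) = 2 := by by_contra k; exact e (if_neg k)
    refine T.ti _ hg (fun k => n (Subtype.ext k)) x x.2 ?_
    have : x * g * x⁻¹ = g⁻¹ := by
      rw [GW.iinv e'.1, eq_inv_iff_mul_eq_one, mul_assoc (x * g), GW.ii e'.2]
    rw [← coe_inv, ← coe_mul, ← coe_mul, this]
    exact inv_mem hg
  · refine fun x hx => if_neg fun e => n ?_
    have e1 : orderOf (⟨x, hx⟩ : zpowers a) = 2 := by rw [← orderOf_coe, orderOf_coe x, e.1]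
    have e2 : orderOf (⟨x * g, mul_mem hx hg⟩ : zpowers a) = 2 := by
      rw [← orderOf_coe]; exact (orderOf_coe (x * g)).trans e.2
    have := IsCyclic.card_orderOf_eq_totient (α := zpowers a) (d := 2) (e1 ▸ orderOf_dvd_card)
    have k := Finset.card_le_one.1 this.le ⟨x, hx⟩ (by simp [e1]) ⟨x * g, mul_mem hx hg⟩
      (by simp [e2])
    exact Subtype.ext (by simpa using congrArg Subtype.val k)
  · have k : ∀ x : L, u * x ∈ zpowers a → orderOf x = 2 := fun x hx => o2.2 ⟨Subtype.ext (by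
      have e := Tor_inv T hx hx
      rw [mul_inv_rev, mul_assoc, ← mul_assoc, eq_comm, mul_assoc, inv_mul_eq_iff_eq_mul,
        GW.iinv T.ou, ← mul_assoc, ← mul_assoc, mul_assoc _ u] at e
      simpa using e), fun e => T.uA (by simpa [e] using hx)⟩
    exact fun x hx => if_pos ⟨k x hx, k _ (by rw [coe_mul, ← mul_assoc]; exact mul_mem hx hg)⟩

theorem _root_.LN.LQ.inv (l : LQ L q r h) {v w : L} (ov : orderOf v = 2) (ow : orderOf w = 2) :
    IsConj v w := by
  obtain ⟨g, hg, e⟩ := l.cj v v.2 w w.2 (by rw [orderOf_coe, ov]; exact Nat.prime_two)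
    (by rw [orderOf_coe, orderOf_coe, ov, ow])
  refine isConj_iff.2 ⟨⟨g, hg⟩, Subtype.ext ?_⟩
  rcases (H9.mem_zpowers_two ((orderOf_coe w).trans ow)).1 e with k | k
  · exact absurd (Subtype.ext (by simpa using k)) (GW.ine ov)
  · exact k

theorem tor_v (l : LQ L q r h) {v : L} (ov : orderOf v = 2) :
    ∃ b u, Tor L b u ∧ (v : G) ∈ zpowers b ∧ orderOf b = 2 * r := by
  have o : orderOf (v : G) = 2 := (orderOf_coe v).trans ov
  rcases l.typ v v.2 (GW.ine o) with ⟨P, U, hv⟩ | ⟨b, u, T, hv, e | e⟩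
  · have := orderOf_dvd_natCard P hv
    rw [o, U.card] at this
    exact absurd this l.odq.not_two_dvd_nat
  · exact ⟨b, u, T, hv, e⟩
  · have := orderOf_dvd_of_mem_zpowers hv
    rw [o, e] at this
    exact absurd this l.odh.not_two_dvd_nat

theorem card_cen (l : LQ L q r h) (v : L) (ov : orderOf v = 2) :
    Nat.card (FT.Cen1 v) = 4 * r := by
  obtain ⟨b, u, T, hv, e⟩ := tor_v l ov
  have e1 := tor_col T hv hv (GW.ine ov)
  have e2 := sum_conj_mul_eq v v
  rw [col_eq, if_pos (IsConj.refl v)] at e2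
  rw [if_pos rfl, if_pos (GW.iinv ov).symm, e, col, e2] at e1
  exact_mod_cast (show ((Nat.card (FT.Cen1 v) : ℕ) : ℂ) = ((4 * r : ℕ) : ℂ) by
    rw [e1]; push_cast; ring)

end LN.J
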