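import Cfsg.Agent.LN.JB1
import Cfsg.Agent.LN.JD2

/-! The principal block of `L₂(q)`, `q ≡ 3, 5 mod 8`: degrees and Galois action. -/

set_option autoImplicit false
set_option linter.unusedSectionVars false

namespace LN.J

open Cfsg Subgroup H8 L Z6 CK H2
open FT (Cen1)
open scoped ComplexConjugate Classical

section
variable {X A B : Type*} [Group X] [Fintype X] [Group A] [Fintype A] [IsMulCommutative A]
  [Group B] [Fintype B] [IsMulCommutative B] {v w : X}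

theorem gal_B0 {k : ℕ} (hk : k.Coprime (Nat.card X)) {χ : IrrCharacter X} (h : χ ∈ B0 2 X) :
    galC χ hk ∈ B0 2 X := by
  rw [mem_B0] at h ⊢
  rwa [Fintype.sum_equiv (powCoprime hk.symm) _ (fun g => regInd 2 g * χ.1 g) fun g => ?_]
  have : orderOf (g ^ k) = orderOf g :=
    (hk.symm.coprime_dvd_left (orderOf_dvd_natCard g)).orderOf_pow
  show _ = regInd 2 (g ^ k) * χ.1 (g ^ k)
  rw [regInd, regInd, show Reg 2 (g ^ k) = Reg 2 g by rw [Reg, this, Reg]]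
  rfl

theorem num23 {Q D x y : ℤ} (hQ : Q = 2 * D - 1) (x0 : x ≠ 0) (y0 : y ≠ 0)
    (h1 : 1 + Q + x + y = 0) (h2 : (1 + 1 / Q + 1 / x + 1 / y : ℂ) * (Q * (Q + 1)) = (Q - 1) ^ 2) :
    x = -D ∧ y = -D := by
  have : (Q : ℂ) ≠ 0 := Int.cast_ne_zero.2 (by omega)
  have : (x : ℂ) ≠ 0 := Int.cast_ne_zero.2 x0
  have : (y : ℂ) ≠ 0 := Int.cast_ne_zero.2 y0
  field_simp at h2
  have h3 : ((Q + 1) * x * y + Q * y + Q * x) * (Q + 1) = x * y * (Q - 1) ^ 2 := by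
    have : (((Q + 1) * x * y + Q * y + Q * x) * (Q + 1) : ℂ) = x * y * (Q - 1) ^ 2 := by
      linear_combination h2
    exact_mod_cast this
  obtain rfl : y = -2 * D - x := by omega
  subst hQ
  have : (4 * (2 * D - 1)) * (x + D) ^ 2 = 0 := by linear_combination -h3
  have := pow_eq_zero_iff two_ne_zero |>.1 ((mul_eq_zero.1 this).resolve_left (by omega))
  omega

theorem BK.main (b : BK v w) [IsSimpleGroup X] {ι : A →* X} (ho : Odd (Nat.card A))
    (hc : ∀ y y', y ≠ 1 → y' ≠ 1 → col (ι y') (ι y) =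
      Nat.card A * ((if y' = y then 1 else 0) + if y' = y⁻¹ then 1 else 0))
    (hp : ∀ y, y ≠ 1 → pc (ι y) = Nat.card A) {κ : B →* X} (hκ : Function.Injective κ) {k : ℕ}
    (hk : k.Coprime (Nat.card X))
    (hg : ∀ x x', x ≠ 1 → x' ≠ 1 → IsConj (κ x) (κ x') ∨ IsConj (κ x) (κ x' ^ k))
    {s Q D : ℤ} (s2 : s = 1 ∨ s = -1) (hQ : Q = s * Nat.card B) (hr : Q - 1 = s * (4 * orderOf w))
    (hD : D = s * Nat.card A) (hQD : Q = 2 * D - 1)
    (idx : (Cen1 v).index = Nat.card B * Nat.card A) (q5 : 5 < Nat.card B) :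
    ∃ (ψ : Fin 4 → IrrCharacter X) (δ : Fin 4 → ℤ), Function.Injective ψ ∧
      (∀ χ, χ ∈ B0 2 X ↔ ∃ i, ψ i = χ) ∧ ψ 0 = triv X ∧ δ 0 = 1 ∧ (∀ i, δ i * δ i = 1) ∧
      (∀ i g, ¬ Reg 2 g → (ψ i).1 g = δ i) ∧
      (∀ y, Reg 2 y → ∑ i, (δ i : ℂ) * (ψ i).1 y = 0) ∧
      (∀ i, (δ i : ℂ) * (ψ i).1 1 = (![1, Q, -D, -D] i : ℤ)) ∧
      (∀ ξ : IrrCharacter A, ξ ≠ triv _ → ∀ i, (δ i : ℂ) * fz ι 1 (1 - ξ.1) (ψ i).1 =
        (![1, -1, 0, 0] i : ℤ)) ∧
      ∀ g, (ψ 1).1 (g ^ k) = (ψ 1).1 g ∧ (ψ 2).1 (g ^ k) = (ψ 3).1 g ∧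
        (ψ 3).1 (g ^ k) = (ψ 2).1 g := by
  obtain ⟨δ, hδ, sq, c4⟩ := b.four
  let d : IrrCharacter X → ℤ := fun χ => δ χ * deg χ
  have hd : ∀ χ, (δ χ : ℂ) * χ.1 1 = d χ := fun χ => by simp [d, deg_eq]
  have d0 : ∀ χ ∈ B0 2 X, d χ ≠ 0 := fun χ h =>
    mul_ne_zero (left_ne_zero_of_mul_eq_one (sq χ h)) (Nat.cast_ne_zero.2 (deg_pos χ).ne')
  have d1 : δ (triv X) = 1 := by exact_mod_cast (hδ (triv X)).symm.trans (triv_apply v)
  have d2 : d (triv X) = 1 := by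
    have := hd (triv X)
    rw [d1, triv_apply] at this
    exact_mod_cast this.symm
  have lin : Q = Nat.card B ∧ D = Nat.card A ∨ Q = -Nat.card B ∧ D = -Nat.card A := by
    rcases s2 with rfl | rfl <;> omega
  have cA := card_ne_zero_complex (G := A)
  have cB := card_ne_zero_complex (G := B)
  have eQ : (Q : ℂ) = s * Nat.card B := by exact_mod_cast hQ
  have er : (Q : ℂ) - 1 = s * (4 * orderOf w) := by exact_mod_cast hr
  have eD : (Q : ℂ) + 1 = 2 * s * Nat.card A := by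
    exact_mod_cast (by linear_combination hQD + 2 * hD : Q + 1 = 2 * s * Nat.card A)
  have C : ∀ ξ : IrrCharacter A, ξ ≠ triv A → ∃ φ ∈ B0 2 X, φ ≠ triv X ∧
      δ φ * fz ι 1 (1 - ξ.1) φ.1 = -1 ∧
      (∀ χ ∈ B0 2 X, χ ≠ triv X → χ ≠ φ → fz ι 1 (1 - ξ.1) χ.1 = 0) ∧ d φ = Q := fun ξ hξ => by
    obtain ⟨φ, h1, h2, h3, h4, h5⟩ := b.colm hδ sq ho hc hp hξ
    refine ⟨φ, h1, h2, h3, h4, ?_⟩
    have : (d φ : ℂ) ≠ 0 := Int.cast_ne_zero.2 (d0 φ h1)
    rw [hd, idx] at h5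
    push_cast at h5
    field_simp at h5
    have : (d φ : ℂ) = Q := by linear_combination s * h5 + (d φ - 1) * eQ - d φ * er
    exact_mod_cast this
  obtain ⟨ξ0, h0⟩ := ex_irr (A := A) (by omega)
  obtain ⟨φ, p1, p2, -, -, p3⟩ := C ξ0 h0
  obtain ⟨x, y, xy, e⟩ := Finset.card_eq_two.1 (show (B0 2 X \ {triv X, φ}).card = 2 by
    rw [Finset.card_sdiff_of_subset (by simp [Finset.subset_iff, triv_mem_B0, p1]), c4,
      Finset.card_pair p2.symm])
  have m : ∀ χ, χ ∈ B0 2 X ∧ χ ≠ triv X ∧ χ ≠ φ ↔ χ = x ∨ χ = y := fun χ => by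
    simpa [not_or] using Finset.ext_iff.1 e χ
  obtain ⟨x1, x2, x3⟩ := (m x).2 (.inl rfl)
  obtain ⟨y1, y2, y3⟩ := (m y).2 (.inr rfl)
  have mB : ∀ χ, χ ∈ B0 2 X ↔ ∃ i, ![triv X, φ, x, y] i = χ := fun χ => ⟨fun h => by
    by_cases a : χ = triv X
    · exact ⟨0, a.symm⟩
    by_cases a' : χ = φ
    · exact ⟨1, a'.symm⟩
    rcases (m χ).1 ⟨h, a, a'⟩ with a | a
    exacts [⟨2, a.symm⟩, ⟨3, a.symm⟩], by
      rintro ⟨i, rfl⟩; fin_cases i; exacts [triv_mem_B0, p1, x1, y1]⟩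
  have inj : Function.Injective ![triv X, φ, x, y] := by
    intro i j; fin_cases i <;> fin_cases j <;>
      simp [p2, x2, x3, y2, y3, xy, p2.symm, x2.symm, x3.symm, y2.symm, y3.symm, xy.symm]
  have S : ∀ f : IrrCharacter X → ℂ, ∑ χ ∈ B0 2 X, f χ = ∑ i, f (![triv X, φ, x, y] i) :=
    fun f => by
      rw [← Finset.sum_image (s := Finset.univ) inj.injOn]
      congr 1; ext; simp [mB]
  have R : ∀ g, Reg 2 g → ∑ i, (δ (![triv X, φ, x, y] i) : ℂ) * (![triv X, φ, x, y] i).1 g = 0 :=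
    fun g h => by simpa only [S, hδ, map_intCast] using b.rel h
  obtain ⟨dx, dy⟩ : d x = -D ∧ d y = -D := by
    refine num23 hQD (d0 x x1) (d0 y y1) ?_ ?_
    · have := R 1 Reg_one
      simp only [hd, Fin.sum_univ_four] at this
      rw [← d2, ← p3]
      exact_mod_cast this
    · have := b.pair
      rw [Finset.sum_congr rfl (g := fun χ => 1 / (d χ : ℂ)), S, idx] at this
      · simp only [Fin.sum_univ_four, Matrix.cons_val, d2, p3] at this
        have s3 : (s : ℂ) * s = 1 := by rcases s2 with a | a <;> simp [a]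
        rw [er, eD]
        nth_rewrite 2 [eQ]
        push_cast at this
        linear_combination 2 * s * s * this
      intro χ h
      have t3 : (δ χ : ℂ) * δ χ = 1 := by exact_mod_cast sq χ h
      have : χ.1 1 ≠ 0 := by rw [deg_eq]; exact Nat.cast_ne_zero.2 (deg_pos χ).ne'
      have : (δ χ : ℂ) ≠ 0 := left_ne_zero_of_mul_eq_one t3
      rw [← hd, hδ]
      field_simp
      linear_combination (δ χ * δ χ + 1) * t3
  have uq : ∀ χ ∈ B0 2 X, d χ = Q → χ = φ := fun χ h e => by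
    by_contra a
    rcases (m χ).1 ⟨h, fun a => by rw [a] at e; omega, a⟩ with rfl | rfl <;> omega
  have gd : ∀ χ, d (galC χ hk) = d χ := fun χ => by
    have k2 : Odd k := Nat.coprime_two_right.1
      (hk.coprime_dvd_right (b.ov ▸ orderOf_dvd_natCard v))
    obtain ⟨j, rfl⟩ := k2
    have : (galC χ hk).1 v = χ.1 v := by
      show χ.1 _ = _
      rw [pow_succ, pow_mul, ← b.ov, pow_orderOf_eq_one, one_pow, one_mul]
    rw [hδ, hδ] at this
    simp only [d, deg_galC, Int.cast_injective this]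
  have nf : ∀ χ ∈ B0 2 X, d χ = -D → galC χ hk ≠ χ := fun χ h e f => by
    obtain ⟨ξ, hξ⟩ := ex_irr (A := B) (by omega)
    have : Nontrivial B := Finite.one_lt_card_iff_nontrivial.1 (by omega)
    obtain ⟨z, z1⟩ := exists_ne (1 : B)
    have e1 : deg χ = Nat.card A := by
      rcases pm (sq χ h) with a | a <;> simp only [d, a] at e <;> omega
    have := const_deg (char_comp (ch χ) κ) (c := χ.1 (κ z)) (fun z' n => by
      rcases hg z' z n z1 with a | a <;> obtain ⟨a, e⟩ := isConj_iff.1 a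
      · rw [← e, cf]
      · rw [← cf χ _ a, e]; exact congrFun (congrArg Subtype.val f) _)
      (by rw [map_one, deg_eq]) (by omega) hξ
    refine z1 (hκ ((irr_faithful_of_simple χ.2 (fun a => ?_) (this.trans (deg_eq χ).symm)).trans
      (map_one κ).symm))
    rw [show χ = triv X from Subtype.ext a] at e
    omega
  have sw : ∀ χ ∈ B0 2 X, d χ = -D → galC χ hk = x ∨ galC χ hk = y := fun χ h e =>
    (m _).1 ⟨gal_B0 hk h, fun a => by have := gd χ; rw [a] at this; omega,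
      fun a => by have := gd χ; rw [a] at this; omega⟩
  refine ⟨_, fun i => δ (![triv X, φ, x, y] i), inj, mB, rfl, d1,
    fun i => sq _ ((mB _).2 ⟨i, rfl⟩), fun i g h => (b.sec ((mB _).2 ⟨i, rfl⟩) h).trans (hδ _), R,
    fun i => ?_, fun ξ hξ i => ?_, fun g => ⟨?_, ?_, ?_⟩⟩
  · rw [hd]; fin_cases i <;> simp [d2, p3, dx, dy]
  · obtain ⟨φ', h1, -, h3, h4, h5⟩ := C ξ hξ
    obtain rfl := uq _ h1 h5
    fin_cases i
    · simpa [d1] using fz_const (ι := ι) (z := 1) hξ (θ := (triv X).1) fun _ _ => triv_apply _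
    · simpa using h3
    · simp [h4 x x1 x2 x3]
    · simp [h4 y y1 y2 y3]
  · exact congrFun (congrArg Subtype.val (uq _ (gal_B0 hk p1) ((gd φ).trans p3))) g
  · exact congrFun (congrArg Subtype.val ((sw x x1 dx).resolve_left (nf x x1 dx))) g
  · exact congrFun (congrArg Subtype.val ((sw y y1 dy).resolve_right (nf y y1 dy))) g

end

variable {G : Type*} [Group G] [Fintype G] {L : Subgroup G} {a u : G} {q r h : ℕ}

theorem ex_bk (l : LQ L q r h) (h4 : ∀ x : G, ¬ 4 ∣ orderOf x) {v : L} (ov : orderOf v = 2) :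
    ∃ w, BK v w ∧ orderOf w = r ∧ (Cen1 v).index = q * h := by
  obtain ⟨b, u, T, hv, e⟩ := tor_v l ov
  have r3 := l.r3
  have ow : orderOf ((⟨b, T.aL⟩ : L) ^ 2) = r := by
    rw [orderOf_pow', ← orderOf_coe, e, Nat.gcd_eq_right (Dvd.intro _ rfl)] <;> simp
  have cc := card_cen l v ov
  have idx : (Cen1 v).index = q * h := by
    have := (Cen1 v).card_mul_index
    rw [cc, l.card] at this
    exact Nat.eq_of_mul_eq_mul_left (show 0 < 4 * r by omega) (by linarith)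
  have mw : ∀ i : ℕ, ((((⟨b, T.aL⟩ : L) ^ 2) ^ i : L) : G) ∈ zpowers b := fun i =>
    pow_mem (pow_mem (mem_zpowers b) 2) i
  have rw : Reg 2 ((⟨b, T.aL⟩ : L) ^ 2) := by
    rw [Reg, ow]; exact Nat.coprime_two_right.2 l.odr
  refine ⟨_, ⟨ov, fun x hx => l.inv ov hx, fun x => orderOf_coe x ▸ h4 x,
    ⟨PElt_of_orderOf (k := 1) ov, rw, Subtype.ext (zcm hv (pow_mem (mem_zpowers b) 2)).eq,
      fun k c rk => ?_⟩, ow.symm ▸ cc, idx ▸ (l.odq.mul l.odh).not_two_dvd_nat, fun i => ?_⟩,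
    ow, idx⟩
  · obtain ⟨j, hj⟩ := Nat.coprime_two_right.1 rk
    have e2 : k = (k ^ 2) ^ (j + 1) := by
      rw [← pow_mul, show 2 * (j + 1) = orderOf k + 1 by omega, pow_succ, pow_orderOf_eq_one,
        one_mul]
    rw [e2]
    refine pow_mem ?_ _
    rcases T.ti _ hv (fun a => GW.ine ov (Subtype.ext a)) k k.2 (by
      rwa [← coe_mul, ← c.eq, coe_mul, mul_inv_cancel_right]) with ⟨n, a⟩ | a
    · rw [show k = ⟨b, T.aL⟩ ^ n from Subtype.ext a.symm, sq (_ ^ n), ← Commute.mul_zpow (.refl _),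
        ← sq]
      exact zpow_mem_zpowers _ n
    · have e := Tor_inv T a a
      rw [mul_inv_rev, mul_assoc, ← mul_assoc, eq_comm, mul_assoc, inv_mul_eq_iff_eq_mul,
        GW.iinv T.ou, ← mul_assoc, ← mul_assoc, mul_assoc _ u] at e
      rw [show k ^ 2 = 1 from Subtype.ext (by simpa [sq] using e)]
      exact one_mem _
  · rw [tor_pc T (mul_mem hv (mw i)) fun a => ?_, e, ow]
    · simp
    have := rw.pow i
    rw [eq_inv_of_mul_eq_one_right a, Reg_inv, Reg, ov] at this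
    simp at this

theorem blk (l : LQ L q r h) (h4 : ∀ x : G, ¬ 4 ∣ orderOf x) (T : Tor L a u)
    (oa : orderOf a = h) {Q D : ℤ} (hQ : Q = 2 * D - 1)
    (hq : (q = 4 * r + 1 ∧ Q = q) ∨ (q + 1 = 4 * r ∧ Q = -q)) {N : ℕ} (N0 : N ≠ 0)
    (hN : Nat.card L ∣ N) :
    ∃ (ψ : Fin 4 → IrrCharacter L) (δ : Fin 4 → ℤ) (k : ℕ), k.Coprime N ∧
      (q + 1 = 4 * r → N ∣ k + 1) ∧ Function.Injective ψ ∧
      (∀ χ, χ ∈ B0 2 L ↔ ∃ i, ψ i = χ) ∧ ψ 0 = triv L ∧ δ 0 = 1 ∧ (∀ i, δ i * δ i = 1) ∧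
      (∀ i g, ¬ Reg 2 g → (ψ i).1 g = δ i) ∧
      (∀ y, Reg 2 y → ∑ i, (δ i : ℂ) * (ψ i).1 y = 0) ∧
      (∀ i, (δ i : ℂ) * (ψ i).1 1 = (![1, Q, -D, -D] i : ℤ)) ∧
      (∀ ξ : IrrCharacter (zpowers a), ξ ≠ triv _ → ∀ i, (δ i : ℂ) *
        fz (inclusion (zpowers_le.2 T.aL)) 1 (1 - ξ.1) (ψ i).1 = (![1, -1, 0, 0] i : ℤ)) ∧
      ∀ g, (ψ 1).1 (g ^ k) = (ψ 1).1 g ∧ (ψ 2).1 (g ^ k) = (ψ 3).1 g ∧
        (ψ 3).1 (g ^ k) = (ψ 2).1 g := by
  obtain ⟨w, b, ow, idx⟩ := ex_bk l h4 (v := ⟨u, T.uL⟩) ((orderOf_coe _).symm.trans T.ou)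
  obtain ⟨P, k, U, hk, hk', hg⟩ := l.gal N N0 hN
  have q5 := l.q5
  have := l.sim
  have cA : Nat.card (zpowers a) = h := by rw [Nat.card_zpowers, oa]
  have : Nontrivial P := Finite.one_lt_card_iff_nontrivial.1 (by rw [U.card]; omega)
  obtain ⟨z, z1⟩ := exists_ne (1 : P)
  have PL : P ≤ L := (U.cen z z.2 fun e => z1 (Subtype.ext e)).ge.trans inf_le_left
  have : IsMulCommutative P := ⟨⟨fun x y => by
    by_cases e : y = 1
    · simp [e]
    · exact Subtype.ext (GW.c1.1 ((U.cen y y.2 fun k => e (Subtype.ext k)).ge x.2).2)⟩⟩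
  have inj := inclusion_injective (zpowers_le.2 T.aL)
  obtain ⟨s, s2, e1, e2, e3⟩ : ∃ s : ℤ, (s = 1 ∨ s = -1) ∧ Q = s * q ∧ Q - 1 = s * (4 * r) ∧
      D = s * h := by
    have := l.num
    rcases hq with e | e
    exacts [⟨1, .inl rfl, by omega⟩, ⟨-1, .inr rfl, by omega⟩]
  obtain ⟨ψ, δ, H⟩ := b.main (ι := inclusion (zpowers_le.2 T.aL)) (cA ▸ l.odh)
    (fun y y' _ n => by
      rw [tor_col T y.2 y'.2 fun e => n (inj (e.trans (map_one _).symm)), cA, oa, ← map_inv]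
      simp only [inj.eq_iff]
      congr)
    (fun y n => by rw [tor_pc T y.2 fun e => n (inj (e.trans (map_one _).symm)), cA, oa])
    (inclusion_injective PL) (hk.coprime_dvd_right hN) (fun x x' n n' => by
      obtain ⟨g, gL, e⟩ := hg x x.2 x' x'.2 (fun k => n (Subtype.ext k)) fun k => n' (Subtype.ext k)
      exact e.imp (fun e => isConj_iff.2 ⟨⟨g, gL⟩, Subtype.ext e⟩)
        fun e => isConj_iff.2 ⟨⟨g, gL⟩, Subtype.ext e⟩)
    s2 (U.card.symm ▸ e1) (ow.symm ▸ e2) (cA.symm ▸ e3) hQ (by rw [idx, cA, U.card])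
    (U.card.symm ▸ q5)
  exact ⟨ψ, δ, k, hk, hk', H⟩

end LN.J
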