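import Cfsg.Agent.LN.JD1

/-! The principal block of `L₂(q)`, `q ≡ 3, 5 mod 8`. -/

set_option autoImplicit false
set_option linter.unusedSectionVars false

namespace LN.J

open Cfsg Subgroup H8 L Z6 CK H2
open FT (Cen1)
open scoped ComplexConjugate Classical

variable {X A : Type*} [Group X] [Fintype X] [Group A] [Fintype A] [IsMulCommutative A]

/-- a character of an abelian group that is constant off the identity -/
theorem const_deg {θ : A → ℂ} (h : IsCharacter A θ) {c : ℂ} (e : ∀ x, x ≠ 1 → θ x = c) {n : ℕ}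
    (e1 : θ 1 = n) (hn : n + 1 < Nat.card A) {ξ : IrrCharacter A} (hξ : ξ ≠ triv A) : c = n := by
  obtain ⟨m0, h0⟩ := char_classInner_nat h char_one
  obtain ⟨m, hm⟩ := char_classInner_nat h (ch ξ)
  have k : ∀ f : A → ℂ, f 1 = 1 → ∑ x, θ x * conj (f x) = n - c + c * conj (∑ x, f x) :=
    fun f hf => by
      rw [map_sum, Finset.mul_sum, Finset.sum_congr rfl
        (g := fun x => (if x = 1 then (n : ℂ) - c else 0) + c * conj (f x)), Finset.sum_add_distrib]
      · simp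
      intro x _
      split_ifs with e2
      · rw [e2, hf, e1]; simp
      · rw [e x e2]; simp
  have c0 := card_ne_zero_complex (G := A)
  rw [classInner, k _ rfl] at h0
  rw [classInner, k _ (irr_apply_one_of_comm ξ.2), sum_irr_eq_zero hξ] at hm
  simp only [Pi.one_apply, Finset.sum_const, Finset.card_univ, ← Nat.card_eq_fintype_card,
    nsmul_eq_mul, mul_one, map_natCast, map_zero, mul_zero, add_zero] at h0 hm
  field_simp at h0 hm
  have e2 : n + m = m0 + Nat.card A * m := by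
    have : (Nat.card A : ℂ) * (n + m) = Nat.card A * (m0 + Nat.card A * m) := by
      linear_combination h0 + (Nat.card A - 1) * hm
    exact_mod_cast mul_left_cancel₀ c0 this
  obtain rfl : m = 0 := by
    by_contra m1
    obtain ⟨m, rfl⟩ := Nat.exists_eq_succ_of_ne_zero m1
    nlinarith
  linear_combination (norm := (push_cast; ring_nf)) -hm

theorem ex_irr (h : 1 < Nat.card A) : ∃ ξ : IrrCharacter A, ξ ≠ triv A := by
  by_contra e
  push Not at e
  have := sum_irr_degree_sq (G := A)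
  rw [Finset.sum_eq_single (triv A) (fun χ _ n => absurd (e χ) n) (by simp)] at this
  have : ((1 : ℕ) : ℂ) = Nat.card A := by simpa using this
  exact h.ne (Nat.cast_injective this)

/-- the facts on the involutions -/
structure BK (v w : X) : Prop where
  ov : orderOf v = 2
  inv : ∀ x, orderOf x = 2 → IsConj v x
  h4 : ∀ x : X, ¬ 4 ∣ orderOf x
  tw : E.Tw v w
  cc : Nat.card (Cen1 v) = 4 * orderOf w
  odd : ¬ 2 ∣ (Cen1 v).index
  pv : ∀ i : ℕ, pc (v * w ^ i) = 2 * orderOf w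

variable {v w : X}

namespace BK
variable (b : BK v w)
include b

theorem sec {χ : IrrCharacter X} (hχ : χ ∈ B0 2 X) {g : X} (hg : ¬ Reg 2 g) : χ.1 g = χ.1 v := by
  obtain ⟨u, y, ⟨j, pu⟩, ry, c, rfl, -⟩ := exists_decomp (p := 2) g
  obtain ⟨i, -, e⟩ := (Nat.dvd_prime_pow Nat.prime_two).1 (orderOf_dvd_of_pow_eq_one pu)
  have ou : orderOf u = 2 := by
    rcases i with _ | _ | i
    · rw [orderOf_eq_one_iff.1 e, one_mul] at hg; exact absurd ry hg
    · exact e
    · exact absurd ⟨2 ^ i, by rw [e]; ring⟩ (b.h4 u)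
  obtain ⟨a, rfl⟩ := isConj_iff.1 (b.inv u ou)
  have m : a⁻¹ * y * a⁻¹⁻¹ ∈ zpowers w := b.tw.reg _ (by
    show _ = _
    calc _ = a⁻¹ * (a * v * a⁻¹ * y) * a := by group
      _ = _ := by rw [c.eq]; group) ((Reg_conj _).2 ry)
  have e1 := P0_cen b.tw.pu b.tw.rw b.tw.c b.tw.reg m (cf χ)
  rw [← P0_cen b.tw.pu b.tw.rw b.tw.c b.tw.reg (one_mem _) (cf χ), P0_irr hχ, P0_irr hχ,
    mul_one] at e1
  rw [← e1, ← cf χ (v * _) a]
  group

theorem rel {y : X} (hy : Reg 2 y) : ∑ χ ∈ B0 2 X, conj (χ.1 v) * χ.1 y = 0 := by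
  have := KK_eq_zero PElt_one hy (Commute.one_left y) b.tw.pu Reg_one (Commute.one_right v)
    fun c => GW.ine b.ov (isConj_one_right.1 c)
  simpa only [KK, one_mul, mul_one, mul_comm] using this

theorem four : ∃ δ : IrrCharacter X → ℤ, (∀ χ, χ.1 v = δ χ) ∧ (∀ χ ∈ B0 2 X, δ χ * δ χ = 1) ∧
    (B0 2 X).card = 4 := by
  choose δ hδ using fun χ : IrrCharacter X => char_involution_int (ch χ)
    (z := v) (b.ov ▸ pow_orderOf_eq_one v)
  have e := b.tw.kk b.cc
  simp only [KK, hδ, map_intCast] at e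
  have e1 : ∑ χ ∈ B0 2 X, δ χ * δ χ = 4 := by exact_mod_cast e
  have d1 : δ (triv X) = 1 := by exact_mod_cast (hδ (triv X)).symm.trans (triv_apply v)
  have k : ∀ χ ∈ B0 2 X, δ χ * δ χ = 1 := fun χ hχ => by
    by_cases n : χ = triv X
    · rw [n, d1]; rfl
    have := le_l (n := δ) (B := B0 2 X) (l := [χ, triv X]) (by simpa using n)
      (by simp [hχ, triv_mem_B0])
    simp only [List.map, List.sum_cons, List.sum_nil, e1, d1] at this
    exact sq_one (fun e => B0_apply_ne_zero hχ b.odd (by rw [hδ, e, Int.cast_zero])) (by omega)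
  rw [Finset.sum_congr rfl k] at e1
  exact ⟨δ, hδ, k, by exact_mod_cast (by simpa using e1 : ((B0 2 X).card : ℤ) = 4)⟩

theorem pair : (∑ χ ∈ B0 2 X, χ.1 v ^ 2 / χ.1 1 * χ.1 v) * (Cen1 v).index =
    8 * (orderOf w : ℂ) ^ 2 := by
  have i0 : ((Cen1 v).index : ℂ) ≠ 0 := Nat.cast_ne_zero.2 index_ne_zero_of_finite
  have := P0_cen b.tw.pu b.tw.rw b.tw.c b.tw.reg (one_mem _)
    (class_sum_irr fun χ => χ.1 v ^ 2 / χ.1 1)
  rw [mul_one, P0_sum_irr, Finset.sum_congr rfl fun i _ =>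
    (eq_div_iff i0).2 (pc_eq b.ov b.inv (v * w ^ i))] at this
  have := E.ord_ne w
  simp only [b.pv, b.cc] at *
  rw [‹∑ χ ∈ _, _ = _›, Finset.sum_const, Finset.card_range, nsmul_eq_mul]
  push_cast
  field_simp
  ring

/-- the column of a torus of odd order -/
theorem colm {δ : IrrCharacter X → ℤ} (hδ : ∀ χ, χ.1 v = δ χ) (sq : ∀ χ ∈ B0 2 X, δ χ * δ χ = 1)
    {ι : A →* X} (ho : Odd (Nat.card A)) (hc : ∀ y y', y ≠ 1 → y' ≠ 1 → col (ι y') (ι y) =
      Nat.card A * ((if y' = y then 1 else 0) + if y' = y⁻¹ then 1 else 0))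
    (hp : ∀ y, y ≠ 1 → pc (ι y) = Nat.card A) {ξ : IrrCharacter A} (hξ : ξ ≠ triv A) :
    ∃ φ ∈ B0 2 X, φ ≠ triv X ∧ δ φ * fz ι 1 (1 - ξ.1) φ.1 = -1 ∧
      (∀ χ ∈ B0 2 X, χ ≠ triv X → χ ≠ φ → fz ι 1 (1 - ξ.1) χ.1 = 0) ∧
      (1 - 1 / (δ φ * φ.1 1)) * (Cen1 v).index = Nat.card A * (4 * orderOf w) := by
  choose c hc' using fun χ : IrrCharacter X => genChar_classInner_int
    (genChar_of_char (char_comp (ch χ) ι)) (genChar_sub genChar_one (genChar_of_irr ξ.2))
  have fc : ∀ χ, fz ι 1 (1 - ξ.1) χ.1 = c χ := fun χ => by simpa only [fz, one_mul] using hc' χ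
  have c0 := card_ne_zero_complex (G := A)
  have rg : ∀ y, Reg 2 (ι y) := fun y =>
    (Reg_of_pow_eq_one (Nat.coprime_two_right.2 ho) pow_card_eq_one').map ι
  have n3 : ∑ χ, c χ * c χ = 3 := by
    have := fz_norm (ι := ι) (z := 1) (z' := 1) hξ ho (by simpa only [one_mul] using hc)
    simp only [fc, map_intCast, mul_div_cancel_right₀ _ c0] at this
    exact_mod_cast this
  have c1 : c (triv X) = 1 := by
    exact_mod_cast (fc _).symm.trans (fz_const hξ fun _ _ => triv_apply _)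
  have d1 : δ (triv X) = 1 := by exact_mod_cast (hδ (triv X)).symm.trans (triv_apply v)
  have s0 : ∑ χ, c χ * (if χ ∈ B0 2 X then δ χ else 0) = 0 := by
    have := fz_sw (ι := ι) (z := 1) (μ := 1 - ξ.1) (B0 2 X) (fun χ => conj (χ.1 v)) (·.1)
    rw [fz_zero fun y _ => by rw [one_mul]; exact b.rel (rg y)] at this
    simp only [fc, hδ, map_intCast, mul_comm _ (c _ : ℂ)] at this
    simp only [mul_ite, mul_zero, ← Finset.sum_filter, Finset.filter_mem_eq_inter,
      Finset.univ_inter]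
    exact_mod_cast this
  have s1 := fz_at (ι := ι) (z := 1) (μ := 1 - ξ.1) (x := v) fun y _ e => by
    obtain ⟨a, e⟩ := isConj_iff.1 e
    have := rg y
    rw [one_mul] at e
    rw [← e, Reg_conj, Reg, b.ov] at this
    simp at this
  have i0 : ((Cen1 v).index : ℂ) ≠ 0 := Nat.cast_ne_zero.2 index_ne_zero_of_finite
  have s2 := fz_sw (ι := ι) (z := 1) (μ := 1 - ξ.1) Finset.univ
    (fun χ : IrrCharacter X => χ.1 v ^ 2 / χ.1 1) (·.1)
  rw [fz_const hξ fun y hy => by
    rw [one_mul, (eq_div_iff i0).2 (pc_eq b.ov b.inv (ι y)), hp y hy]] at s2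
  simp only [fc, hδ, map_intCast, mul_comm _ (c _ : ℂ)] at s1 s2
  obtain ⟨φ, -, Λ, -, e1, e2, e3, f1, f2, z⟩ := supp3 (Finset.mem_univ _) (by rw [c1]; rfl) n3
  wlog hφ : φ ∈ B0 2 X generalizing φ Λ
  · refine this Λ φ e2 e1 e3.symm f2 f1 (fun x hx a b c => z x hx a c b) ?_
    by_contra hΛ
    have := S3 (Finset.mem_univ _) (Finset.mem_univ _) (Finset.mem_univ _) e1 e2 e3 z
      fun χ => if χ ∈ B0 2 X then δ χ else 0
    simp only [Int.cast_id, s0, hφ, hΛ, triv_mem_B0, c1, d1] at this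
    simp at this
  have S := fun {R : Type} [CommRing R] => S3 (R := R) (Finset.mem_univ _) (Finset.mem_univ _)
    (Finset.mem_univ _) e1 e2 e3 z
  have t0 := S fun χ => if χ ∈ B0 2 X then δ χ else 0
  simp only [Int.cast_id, s0, hφ, triv_mem_B0, c1, d1, if_true] at t0
  have g1 := pm (sq φ hφ)
  have g2 := pm f1
  have g3 := pm f2
  have hΛ : Λ ∉ B0 2 X := fun hΛ => by
    have := pm (sq Λ hΛ)
    rw [if_pos hΛ] at t0
    rcases g1 with a | a <;> rcases g2 with b | b <;> rcases g3 with c | c <;>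
      rcases this with d | d <;> rw [a, b, c, d] at t0 <;> omega
  rw [if_neg hΛ] at t0
  have t1 : (δ φ : ℂ) * c φ = -1 := by exact_mod_cast (by linarith : δ φ * c φ = -1)
  rw [S] at s1 s2
  simp only [c1, d1, triv_apply] at s1 s2
  have t2 : (δ Λ : ℂ) = 0 := by
    have : (c Λ : ℂ) * c Λ = 1 := by exact_mod_cast f2
    push_cast at s1
    linear_combination c Λ * s1 - δ Λ * this - c Λ * t1
  refine ⟨φ, hφ, e1, by rw [fc, t1], fun χ hχ a b => ?_, ?_⟩
  · rw [fc, z χ (Finset.mem_univ _) a b fun e => hΛ (e ▸ hχ), Int.cast_zero]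
  · rw [← eq_div_iff i0, ← Nat.cast_ofNat, ← Nat.cast_mul, ← b.cc, ← s2, t2]
    have : φ.1 1 ≠ 0 := by rw [deg_eq]; exact Nat.cast_ne_zero.2 (deg_pos φ).ne'
    have t3 : (δ φ : ℂ) * δ φ = 1 := by exact_mod_cast sq φ hφ
    have : (δ φ : ℂ) ≠ 0 := left_ne_zero_of_mul_eq_one t3
    push_cast
    field_simp
    linear_combination -(δ φ : ℂ) ^ 2 * t1 + t3

end BK

end LN.J
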