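import Cfsg.Agent.LN.E2

/-! Groups of Janko-Ree type: character theoretic tools. -/

set_option autoImplicit false
set_option linter.unusedSectionVars false

namespace LN.J

open Cfsg Subgroup H8 L Z6 CK H2
open scoped ComplexConjugate Classical Matrix

variable {G H : Type*} [Group G] [Fintype G] [Group H] [Fintype H]

theorem ch (χ : IrrCharacter G) : IsCharacter G χ.1 := irr_isCharacter χ.2
theorem cf (χ : IrrCharacter G) : IsClassFunction G χ.1 := char_isClassFunction (ch χ)

theorem fs_sum (χ : IrrCharacter G) : ∑ g, χ.1 (g ^ 2) = Nat.card G * fsI χ :=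
  (exists_fs_ind χ).choose_spec.1

theorem sq_sum {χ : IrrCharacter G} (h : cc χ = χ) : ∑ g, χ.1 g ^ 2 = Nat.card G := by
  have e := irr_classInner_self χ.2
  rw [classInner, inv_mul_eq_one₀ card_ne_zero_complex] at e
  rw [e]
  exact Finset.sum_congr rfl fun g _ => by rw [irr_conj_eq, real_of_cc h, sq]

theorem fs_real {χ : IrrCharacter G} (h : cc χ = χ) : fsI χ ≠ 0 := fun e => by
  obtain ⟨a, ha⟩ := char_classInner_nat (char_sym_sq (ch χ)) char_one
  simp only [classInner, Pi.one_apply, map_one, mul_one, ← Finset.sum_div,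
    Finset.sum_add_distrib, sq_sum h, fs_sum, e] at ha
  have := card_ne_zero_complex (G := G)
  have e2 : ((2 * a : ℕ) : ℂ) = (1 : ℕ) := by
    push_cast at ha ⊢
    rw [← ha]; field_simp; simp
  have := Nat.cast_injective e2
  omega

theorem fs_odd {χ : IrrCharacter G} (h : cc χ = χ) (ho : deg χ % 2 = 1) : fsI χ = 1 := by
  have e1 := sq_sum h
  have e2 := fs_sum χ
  have e3 := deg_eq χ
  generalize deg χ = d, fsI χ = f at *
  obtain ⟨_, n, ρ, hρ, rfl⟩ := χ
  obtain rfl : n = d := by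
    have e4 : ρ.character 1 = d := e3
    rw [Representation.char_one] at e4
    simpa using e4
  let M : G → Matrix (Fin n) (Fin n) ℂ := fun g => LinearMap.toMatrix' (ρ g)
  have Mm : ∀ g k, M (g * k) = M g * M k := fun g k => by simp [M, LinearMap.toMatrix'_mul]
  have M1 : M 1 = 1 := by simp [M]
  have tr : ∀ g, ρ.character g = ∑ i, M g i i := fun g => by
    rw [Representation.character, LinearMap.trace_eq_matrix_trace ℂ (Pi.basisFun ℂ (Fin n)),
      LinearMap.toMatrix_eq_toMatrix']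
    rfl
  have z : ∀ B : Matrix (Fin n) (Fin n) ℂ, Bᵀ = -B → (∀ g, (M g)ᵀ * B * M g = B) → B = 0 := by
    intro B hB hi
    have d0 : B.det = 0 := by
      have := congrArg Matrix.det hB
      rw [Matrix.det_transpose, Matrix.det_neg, Fintype.card_fin,
        (Nat.odd_iff.2 ho).neg_one_pow] at this
      linear_combination this / 2
    obtain ⟨v, v0, hv⟩ := Matrix.exists_mulVec_eq_zero_iff.2 d0
    let K : Subrepresentation ρ := ⟨LinearMap.ker (Matrix.toLin' B), fun g x hx => by
      have hx' : B *ᵥ x = 0 := hx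
      show B *ᵥ (ρ g x) = 0
      rw [← hi g⁻¹, ← LinearMap.toMatrix'_mulVec, Matrix.mulVec_mulVec, Matrix.mul_assoc,
        show M g⁻¹ * LinearMap.toMatrix' (ρ g) = 1 by rw [← M1, ← inv_mul_cancel g, Mm],
        Matrix.mul_one, ← Matrix.mulVec_mulVec, hx', Matrix.mulVec_zero]⟩
    rcases eq_bot_or_eq_top K with e | e
    · have : v ∈ K.toSubmodule := hv
      rw [e] at this
      exact absurd this v0
    · refine Matrix.toLin'.injective (LinearMap.ext fun x => ?_)
      have : x ∈ K.toSubmodule := by rw [e]; trivial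
      rw [map_zero]; exact this
  have s : ∀ i j, ∑ g, M g i i * M g j j = ∑ g, M g i j * M g j i := fun i j => by
    let A := ∑ g, (M g)ᵀ * Matrix.single i j (1 : ℂ) * M g
    have inv : ∀ k, (M k)ᵀ * A * M k = A := fun k => by
      rw [Finset.mul_sum, Finset.sum_mul]
      refine Fintype.sum_equiv (Equiv.mulRight k) _ _ fun g => ?_
      simp [Mm, Matrix.mul_assoc]
    have en : ∀ k l, A k l = ∑ g, M g i k * M g j l := fun k l => by
      simp [A, Matrix.sum_apply, Matrix.mul_apply, Matrix.single, ite_and]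
    have := z (A - Aᵀ) (by simp) fun k => by
      rw [Matrix.mul_sub, Matrix.sub_mul, inv]
      congr 1
      rw [← Matrix.transpose_transpose (M k), ← Matrix.transpose_mul, ← Matrix.transpose_mul,
        Matrix.transpose_transpose, ← Matrix.mul_assoc, inv]
    rw [← en, ← en]
    exact sub_eq_zero.1 (congrFun (congrFun this i) j)
  have : ∑ g, ρ.character g ^ 2 = ∑ g, ρ.character (g ^ 2) := by
    simp only [tr, sq, Mm, Finset.sum_mul_sum, Matrix.mul_apply]
    rw [Finset.sum_comm, Finset.sum_comm (s := (Finset.univ : Finset G))]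
    refine Finset.sum_congr rfl fun i _ => ?_
    rw [Finset.sum_comm, Finset.sum_comm (s := (Finset.univ : Finset G))]
    exact Finset.sum_congr rfl fun j _ => s i j
  have e4 : (Nat.card G : ℂ) * 1 = Nat.card G * f := by rw [← e2, ← this, mul_one]; exact e1.symm
  exact_mod_cast (mul_left_cancel₀ card_ne_zero_complex e4).symm

theorem half {χ : G → ℂ} (h : IsCharacter G χ) (ι : H →* G) {t : G} (t2 : t * t = 1)
    (c : ∀ x, Commute (ι x) t) {s : ℂ} (hs : s * s = 1) :
    IsCharacter H fun x => (χ (ι x) + s * χ (t * ι x)) / 2 := by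
  obtain ⟨n, ρ, rfl⟩ := h
  have := isCharacter_of_involution (ρ.comp ι) (s • ρ t)
    (by rw [smul_mul_smul_comm, hs, one_smul, ← map_mul, t2, map_one]) fun g => by
      rw [mul_smul_comm, smul_mul_assoc, MonoidHom.comp_apply, ← map_mul, ← map_mul, (c g).eq]
  convert this using 4 with x
  · rfl
  rw [mul_smul_comm, map_smul, MonoidHom.comp_apply, ← map_mul, (c x).eq]
  rfl

/-- a linear functional on class functions -/
noncomputable def fz (ι : H →* G) (z : G) (μ : H → ℂ) (θ : G → ℂ) : ℂ :=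
  classInner (fun y => θ (z * ι y)) μ

variable {ι : H →* G} {z : G} {μ : H → ℂ}

theorem fz_sw {I : Type*} (s : Finset I) (k : I → ℂ) (f : I → G → ℂ) :
    ∑ i ∈ s, k i * fz ι z μ (f i) = fz ι z μ fun g => ∑ i ∈ s, k i * f i g := by
  simp only [fz, classInner, Finset.mul_sum, Finset.sum_mul]
  rw [Finset.sum_comm]
  exact Finset.sum_congr rfl fun _ _ => Finset.sum_congr rfl fun _ _ => by ring

theorem fz_congr {θ : G → ℂ} {φ : H → ℂ} (h : ∀ y, μ y ≠ 0 → θ (z * ι y) = φ y) :
    fz ι z μ θ = classInner φ μ := by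
  simp only [fz, classInner]
  congr 1
  refine Finset.sum_congr rfl fun y _ => ?_
  by_cases e : μ y = 0
  · simp [e]
  · rw [h y e]

theorem fz_zero {θ : G → ℂ} (h : ∀ y, μ y ≠ 0 → θ (z * ι y) = 0) : fz ι z μ θ = 0 :=
  (fz_congr (φ := 0) h).trans (classInner_zero_left _)

theorem fz_col (g : G) : ∑ χ : IrrCharacter G, conj (fz ι z μ χ.1) * χ.1 g =
    (Nat.card H : ℂ)⁻¹ * ∑ y, μ y * col (z * ι y) g := by
  simp only [fz, classInner, col, ← col_eq, map_mul, map_sum, map_inv₀, Complex.conj_natCast,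
    Complex.conj_conj, Finset.mul_sum, Finset.sum_mul]
  rw [Finset.sum_comm]
  exact Finset.sum_congr rfl fun _ _ => Finset.sum_congr rfl fun _ _ => by ring

/-- vanishing at an element -/
theorem fz_at {x : G} (h : ∀ y, μ y ≠ 0 → ¬ IsConj x (z * ι y)) :
    ∑ χ : IrrCharacter G, conj (χ.1 x) * fz ι z μ χ.1 = 0 := by
  rw [fz_sw]
  exact fz_zero fun y hy => (col_eq _ _).trans (col_not (h y hy))

theorem rep {μ : H → ℂ} (h : IsClassFunction H μ) (g : H) :
    (Nat.card H : ℂ)⁻¹ * ∑ y, μ y * col y g = μ g := by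
  simp only [col, Finset.mul_sum, mul_ite, mul_one, mul_zero]
  rw [Finset.sum_comm, Finset.sum_congr rfl (g := fun _ => (Nat.card H : ℂ)⁻¹ * μ g)]
  · have := card_ne_zero_complex (G := H)
    rw [Finset.sum_const, Finset.card_univ, ← Nat.card_eq_fintype_card, nsmul_eq_mul]
    field_simp
  intro c _
  rw [Finset.sum_eq_single (c⁻¹ * g * c), if_pos (by group)]
  · simpa using congrArg ((Nat.card H : ℂ)⁻¹ * ·) (h g c⁻¹)
  · exact fun y _ n => if_neg fun e => n (by rw [mul_assoc, ← e]; group)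
  · simp

theorem sum2 {A : Subgroup G} {u : G} (u2 : u * u = 1) (uA : u ∉ A) (f : G → ℂ)
    (h : ∀ g, f g ≠ 0 → g ∈ A ∨ u * g ∈ A) : ∑ g, f g = ∑ a : A, (f a + f (u * a)) := by
  rw [Finset.sum_add_distrib, sum_eq_sum_subgroup_add A f, add_right_inj,
    ← Equiv.sum_comp (Equiv.mulLeft u), sum_eq_sum_subgroup_add A]
  simp only [Equiv.coe_mulLeft]
  rw [Finset.sum_eq_zero (s := (Finset.univ : Finset G)), add_zero]
  · exact Finset.sum_congr rfl fun a _ => if_neg fun e => uA ((A.mul_mem_cancel_right a.2).1 e)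
  intro g _
  by_cases h1 : g ∈ A
  · exact if_pos h1
  by_cases h2 : u * g ∈ A
  · exact (if_neg h1).trans (if_pos h2)
  refine (if_neg h1).trans ((if_neg h2).trans ?_)
  by_contra e
  rcases h _ e with k | k
  · exact h2 k
  · exact h1 (by rwa [← mul_assoc, u2, one_mul] at k)

/-- the number of involutions `x` with `x * g` an involution -/
noncomputable def pc (g : G) : ℂ := ∑ x, if orderOf x = 2 ∧ orderOf (x * g) = 2 then 1 else 0

theorem pc_eq {t : G} (ot : orderOf t = 2) (h : ∀ w, orderOf w = 2 → IsConj t w) (g : G) :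
    (∑ χ : IrrCharacter G, χ.1 t ^ 2 / χ.1 1 * χ.1 g) * (FT.Cen1 t).index =
      pc g * Nat.card (FT.Cen1 t) := by
  have k : ∀ w, IsConj t w ↔ orderOf w = 2 := fun w => ⟨fun e => by
    obtain ⟨c, rfl⟩ := isConj_iff.1 e
    exact ((MulAut.conj c).orderOf_eq t).trans ot, h w⟩
  have e := pair_sum t g
  rw [← index_centralizer_eq, ← card_mul_index (FT.Cen1 t)] at e
  have e2 : (Nat.card {p : G × G // IsConj t p.1 ∧ IsConj t p.2 ∧ p.1 * p.2 = g⁻¹} : ℂ) = pc g := by
    rw [pc, Finset.sum_boole, ← Fintype.card_subtype, ← Nat.card_eq_fintype_card]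
    have key : ∀ a b : G, IsConj t a → a * b = g⁻¹ → b * g = a := fun a b ha e => by
      rw [← inv_inv g, ← e, mul_inv_rev, mul_inv_cancel_left, GW.iinv ((k _).1 ha)]
    exact congrArg _ (Nat.card_congr ⟨fun p => ⟨p.1.2, (k _).1 p.2.2.1,
      (key _ _ p.2.1 p.2.2.2).symm ▸ (k _).1 p.2.1⟩, fun x => ⟨(x.1 * g, x.1), h _ x.2.2, h _ x.2.1,
        eq_inv_of_mul_eq_one_left (by rw [mul_assoc, GW.ii x.2.2])⟩,
      fun p => Subtype.ext (Prod.ext (key _ _ p.2.1 p.2.2.2) rfl), fun x => rfl⟩)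
  have i0 : ((FT.Cen1 t).index : ℂ) ≠ 0 := Nat.cast_ne_zero.2 index_ne_zero_of_finite
  have c0 : (Nat.card (FT.Cen1 t) : ℂ) ≠ 0 := Nat.cast_ne_zero.2 Nat.card_pos.ne'
  rw [← e2, e]
  push_cast
  field_simp

/-! The functions `1 - ξ` on an abelian group of odd order. -/
section
variable {ξ : IrrCharacter H} (hξ : ξ ≠ triv H)
include hξ

theorem in1 : classInner (1 : H → ℂ) (1 - ξ.1) = 1 := by
  rw [classInner_sub_right, irr_classInner_self irr_one,
    irr_classInner_of_ne irr_one ξ.2 fun e => hξ (Subtype.ext e.symm), sub_zero]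

variable [IsMulCommutative H]

omit hξ in
theorem x1 {y : H} (h : (1 - ξ.1) y ≠ 0) : y ≠ 1 := fun e => h (by
  rw [e, Pi.sub_apply, irr_apply_one_of_comm ξ.2]; simp)

theorem fz_const {θ : G → ℂ} {c : ℂ} (h : ∀ y, y ≠ 1 → θ (z * ι y) = c) :
    fz ι z (1 - ξ.1) θ = c := by
  rw [fz_congr (φ := c • (1 : H → ℂ)) fun y hy => by simp [h y (x1 hy)], classInner_smul_left,
    in1 hξ, mul_one]

theorem fz_norm (ho : Odd (Nat.card H)) {z' : G} {c : ℂ} (h : ∀ y y', y ≠ 1 → y' ≠ 1 →
    col (z' * ι y') (z * ι y) = c * ((if y' = y then 1 else 0) + if y' = y⁻¹ then 1 else 0)) :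
    ∑ χ : IrrCharacter G, conj (fz ι z' (1 - ξ.1) χ.1) * fz ι z (1 - ξ.1) χ.1 =
      3 * c / Nat.card H := by
  have n : cc ξ ≠ ξ := fun e => hξ (Subtype.ext (funext fun y => by
    obtain ⟨l, hl⟩ := exists_hom_of_irr_of_comm ξ.2
    obtain ⟨k, hk⟩ := ho
    have := real_of_cc e (y ^ (k + 1))
    have e2 : y = y ^ (k + 1) * y ^ (k + 1) := by
      rw [← pow_add, show k + 1 + (k + 1) = Nat.card H + 1 by omega, pow_succ, pow_card_eq_one',
        one_mul]
    rw [hl] at this
    rw [hl, e2, map_mul, ← this, this.symm.symm, ← this]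
    nth_rewrite 2 [this]
    rw [← map_mul, inv_mul_cancel, map_one]; rfl))
  have n1 : cc ξ ≠ triv H := fun e => hξ (Subtype.ext (funext fun y => by
    have := congrFun (congrArg Subtype.val e) y⁻¹
    rwa [cc_apply, inv_inv] at this))
  rw [fz_sw, fz_congr (φ := ((Nat.card H : ℂ)⁻¹ * c) • ((1 - ξ.1) + (1 - (cc ξ).1)))]
  · simp only [classInner_smul_left, classInner_add_left, classInner_sub_left, in1 hξ]
    simp only [classInner_sub_right]
    rw [irr_classInner_self ξ.2, irr_classInner_of_ne ξ.2 irr_one fun e => hξ (Subtype.ext e),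
      irr_classInner_of_ne (cc ξ).2 irr_one fun e => n1 (Subtype.ext e),
      irr_classInner_of_ne (cc ξ).2 ξ.2 fun e => n (Subtype.ext e)]
    ring
  intro y hy
  rw [fz_col, Finset.sum_congr rfl (g := fun y' => c * ((if y' = y then (1 - ξ.1) y' else 0) +
    if y' = y⁻¹ then (1 - ξ.1) y' else 0))]
  · simp [← Finset.mul_sum, Finset.sum_add_distrib, cc_apply, mul_assoc]
  intro y' _
  by_cases e : (1 - ξ.1) y' = 0
  · simp only [e]; simp
  · rw [h y y' (x1 hy) (x1 e)]
    split_ifs <;> ring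

end

theorem deg_cong [IsMulCommutative H] {θ : H → ℂ} (h : IsGeneralizedCharacter H θ) {k d : ℤ}
    (e : ∀ ξ : IrrCharacter H, ξ ≠ triv H → classInner θ (1 - ξ.1) = k) (e1 : θ 1 = d) :
    (Nat.card H : ℤ) ∣ d - k := by
  obtain ⟨m, hm⟩ := genChar_classInner_int h genChar_one
  have c : ∑ χ : IrrCharacter H, (1 : ℂ) = Nat.card H := by
    rw [← sum_irr_degree_sq]
    exact Finset.sum_congr rfl fun χ _ => by rw [irr_apply_one_of_comm χ.2, one_mul]
  rw [classFun_apply_eq_sum (genChar_isClassFunction h), Finset.sum_congr rfl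
    (g := fun ξ => ((m : ℂ) - k) * 1 + if ξ = triv H then (k : ℂ) else 0), Finset.sum_add_distrib,
    ← Finset.mul_sum, c] at e1
  · refine ⟨m - k, ?_⟩
    simp only [Finset.sum_ite_eq', Finset.mem_univ, if_true] at e1
    have : ((d - k : ℤ) : ℂ) = ((Nat.card H * (m - k) : ℤ) : ℂ) := by
      push_cast; rw [← e1]; ring
    exact_mod_cast this
  intro ξ _
  rw [irr_apply_one_of_comm ξ.2]
  split_ifs with k
  · rw [k, show classInner θ (triv H).1 = m from hm]; ring
  · have := e ξ k
    rw [classInner_sub_right, hm] at this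
    rw [← this]; ring

end LN.J
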