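import Cfsg.Agent.LN.JI
import Cfsg.Agent.LN.E8

/-! An elementary abelian group of rank two whose axes are fused. -/

set_option autoImplicit false
set_option linter.unusedSectionVars false

namespace LN

open Cfsg Subgroup FT H4 H5 GW LN.E

variable {G : Type*} [Group G] [Finite G] {y a t g : G} {l : ℕ}

theorem odd_sq (h4 : ∀ x : G, ¬ 4 ∣ orderOf x) (x : G) : Odd (orderOf (x ^ 2)) := by
  rcases Nat.even_or_odd' (orderOf x) with ⟨k, e | e⟩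
  · have := h4 x
    refine Odd.of_dvd_nat (Nat.odd_iff.2 (show k % 2 = 1 by omega)) (orderOf_dvd_of_pow_eq_one ?_)
    rw [← pow_mul, ← e, pow_orderOf_eq_one]
  · exact Odd.of_dvd_nat ⟨k, e⟩ (orderOf_pow_dvd 2)

theorem ex_odd (h4 : ∀ x : G, ¬ 4 ∣ orderOf x) (x z : G) :
    ∃ m, Odd m ∧ (x ^ 2) ^ m = 1 ∧ (z ^ 2) ^ m = 1 :=
  ⟨_, (odd_sq h4 x).mul (odd_sq h4 z), by rw [pow_mul, pow_orderOf_eq_one, one_pow],
    by rw [mul_comm, pow_mul, pow_orderOf_eq_one, one_pow]⟩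

omit [Finite G] in
theorem cj_pow {x : G} {i : ℤ} (h : x * y * x⁻¹ = y ^ i) (n : ℕ) :
    x ^ n * y * (x ^ n)⁻¹ = y ^ i ^ n := by
  induction n with
  | zero => simp
  | succ n ih =>
    rw [pow_succ' i, zpow_mul, ← h, conj_zpow, ← ih, pow_succ']; group

omit [Finite G] in
theorem sh_pow {x c e : G} (hc : Commute x c) (h : x * e * x⁻¹ = c * e) (n : ℕ) :
    x ^ n * e * (x ^ n)⁻¹ = c ^ n * e := by
  induction n with
  | zero => simp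
  | succ n ih =>
    rw [show x ^ (n + 1) * e * (x ^ (n + 1))⁻¹ = x * (x ^ n * e * (x ^ n)⁻¹) * x⁻¹ by
      rw [pow_succ']; group, ih, ← mul_assoc, (hc.pow_right n).eq, mul_assoc, mul_assoc, ← mul_assoc x,
      h, pow_succ, mul_assoc]

theorem lemE0 (h4 : ∀ x : G, ¬ 4 ∣ orderOf x) (hl : l.Prime) (l2 : l ≠ 2) (oy : orderOf y = l)
    (oa : orderOf a = l) (c : Commute y a) (ty : Commute t y)
    (ta : t * a * t⁻¹ = a⁻¹) (gy : g * y * g⁻¹ ∈ zpowers a)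
    (ga : g * a * g⁻¹ ∈ zpowers y ⊔ zpowers a) : False := by
  have ol : Odd l := hl.odd_of_ne_two l2
  have y1 : y ≠ 1 := fun e => hl.one_lt.ne (by rw [← oy, e, orderOf_one])
  obtain ⟨b, hb, d, hd, e⟩ := (H4.mem_sup_of_le_normalizer_right (nzp (zpowers_le.2 (c1c.2 c)))).1 ga
  have ay : zpowers a ≤ Cen1 y := zpowers_le.2 (c1c.2 c.symm)
  have bd : Commute b d := c1c.1 (zpowers_le.2 (c1s.1 (ay hd)) hb)
  have tb : t * b * t⁻¹ = b := c1'.1 (c1s.1 (zpowers_le.2 (c1c.2 ty.symm) hb))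
  have td := inv_zp ta hd
  obtain ⟨w, hw⟩ : ∃ w, w = g * t * g⁻¹ := ⟨_, rfl⟩
  have wa : zpowers a ≤ Cen1 w := zpowers_le.2 (zpowers_le.2 (c1.2 (by
    rw [hw, show g * y * g⁻¹ * (g * t * g⁻¹) = g * (y * t) * g⁻¹ by group, ← ty.eq]; group))
    (mem_zpowers_of_prime_card' oa hl gy fun e => y1 (by simpa using e)))
  have wd : w * d * w⁻¹ = d := c1'.1 (c1s.1 (wa hd))
  have wb : w * b * w⁻¹ = b⁻¹ * (d * d)⁻¹ := by
    have : w * (b * d) * w⁻¹ = (b * d)⁻¹ := by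
      rw [e, hw, show (g * a * g⁻¹)⁻¹ = g * a⁻¹ * g⁻¹ by group, ← ta]; group
    rw [show w * (b * d) * w⁻¹ = w * b * w⁻¹ * (w * d * w⁻¹) by group, wd, bd.eq] at this
    rw [eq_mul_inv_of_mul_eq this]; group
  have xa : ∀ d ∈ zpowers a, (t * w) ^ 2 * d * ((t * w) ^ 2)⁻¹ = d := fun d hd => by
    rw [show (t * w) ^ 2 * d * ((t * w) ^ 2)⁻¹ = t * (w * (t * (w * d * w⁻¹) * t⁻¹) * w⁻¹) * t⁻¹ by
      rw [pow_two]; group, c1'.1 (c1s.1 (wa hd)), inv_zp ta hd, ← conj_inv, c1'.1 (c1s.1 (wa hd)),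
      ← conj_inv, inv_zp ta hd, inv_inv]
  have xb : (t * w) ^ 2 * b * ((t * w) ^ 2)⁻¹ = (d ^ 4)⁻¹ * b := by
    have k : t * w * b * (t * w)⁻¹ = b⁻¹ * (d * d) := by
      rw [show t * w * b * (t * w)⁻¹ = t * (w * b * w⁻¹) * t⁻¹ by group, wb,
        show t * (b⁻¹ * (d * d)⁻¹) * t⁻¹ = (t * b * t⁻¹)⁻¹ * (t * d * t⁻¹ * (t * d * t⁻¹))⁻¹ by group,
        tb, td]; simp
    have k2 : t * w * d * (t * w)⁻¹ = d⁻¹ := by
      rw [show t * w * d * (t * w)⁻¹ = t * (w * d * w⁻¹) * t⁻¹ by group, wd, td]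
    rw [show (t * w) ^ 2 * b * ((t * w) ^ 2)⁻¹ = t * w * (t * w * b * (t * w)⁻¹) * (t * w)⁻¹ by
      rw [pow_two]; group, k, show t * w * (b⁻¹ * (d * d)) * (t * w)⁻¹ = (t * w * b * (t * w)⁻¹)⁻¹ *
        (t * w * d * (t * w)⁻¹ * (t * w * d * (t * w)⁻¹)) by group, k, k2,
      ← (bd.pow_right 4).inv_right.eq, mul_inv_rev, inv_inv, ← (bd.mul_right bd).inv_right.eq]
    group
  obtain ⟨s, hs⟩ : ∃ s : ℕ, (d ^ 4)⁻¹ ^ s = d⁻¹ := by
    rw [← inv_pow]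
    refine mem_powers_iff_mem_zpowers.2 (mem_zpowers_pow_iff.2 (Nat.Coprime.pow_left (m := 2) 2 ?_))
    rw [orderOf_inv]
    exact (odd_iff_cop.1 (odd_ord (by rw [Nat.card_zpowers, oa]; exact ol) hd)).symm
  obtain ⟨x, xa, xb⟩ : ∃ x, (∀ d ∈ zpowers a, x * d * x⁻¹ = d) ∧ x * b * x⁻¹ = d⁻¹ * b :=
    ⟨_, fun d hd => c1'.1 (pow_mem (c1'.2 (xa d hd)) s), hs ▸ sh_pow
      (c1c.1 (c1'.2 (xa _ (inv_mem (pow_mem hd 4))))) xb s⟩
  obtain ⟨i, hi⟩ := gy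
  obtain ⟨j, rfl⟩ := hb
  simp only at hi e xb bd
  have g1 : x * g * y * (x * g)⁻¹ = a ^ i := by
    rw [show x * g * y * (x * g)⁻¹ = x * (g * y * g⁻¹) * x⁻¹ by group, ← hi, xa _ ⟨i, rfl⟩]
  have g2 : x * g * a * (x * g)⁻¹ = y ^ j := by
    rw [show x * g * a * (x * g)⁻¹ = x * (g * a * g⁻¹) * x⁻¹ by group, ← e,
      show x * (y ^ j * d) * x⁻¹ = x * y ^ j * x⁻¹ * (x * d * x⁻¹) by group, xb, xa d hd, mul_assoc, bd.eq,
      inv_mul_cancel_left]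
  generalize x * g = f at g1 g2
  obtain ⟨m, om, m1, m2⟩ := ex_odd h4 f (f * t)
  have e1 := cj_pow (x := f ^ 2) (y := y) (i := j * i) (by
    rw [show f ^ 2 * y * (f ^ 2)⁻¹ = f * (f * y * f⁻¹) * f⁻¹ by rw [pow_two]; group, g1, ← conj_zpow, g2,
      zpow_mul]) m
  have e2 := cj_pow (x := (f * t) ^ 2) (y := y) (i := -(j * i)) (by
    rw [show (f * t) ^ 2 * y * ((f * t) ^ 2)⁻¹ = f * (t * (f * (t * y * t⁻¹) * f⁻¹) * t⁻¹) * f⁻¹ by
      rw [pow_two]; group, c1'.1 (c1c.2 ty), g1, inv_zp ta ⟨i, rfl⟩, ← conj_inv, ← conj_zpow, g2,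
      zpow_neg, zpow_mul]) m
  rw [m1] at e1
  rw [m2, om.neg_pow, zpow_neg, ← e1] at e2
  exact y1 (eq_one_of_odd_sq (oy ▸ ol) (by simpa [eq_inv_iff_mul_eq_one] using e2))

theorem shear (hl : l.Prime) (oa : orderOf a = l) (c : Commute y a) (ay : a ∉ zpowers y) {P : Subgroup G}
    (hP : IsPGroup l P) (h1 : zpowers y ⊔ zpowers a ≤ P) (h2 : P ≤ Nor (zpowers y ⊔ zpowers a))
    (h3 : P ≤ Cen1 y) {x d : G} (hx : x ∈ P) (hd : d ∈ zpowers a) : x * d * x⁻¹ * d⁻¹ ∈ zpowers y := by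
  have := Fact.mk hl
  obtain ⟨e, he, ey, hc, -⟩ := H7.exists_central_mod hP h1 h2 (N := zpowers y)
    fun e => ay (e (mem_sup_right (mem_zpowers a)))
  obtain ⟨b, hb, f, hf, rfl⟩ := (H4.mem_sup_of_le_normalizer_right (nzp (zpowers_le.2 (c1c.2 c)))).1 he
  have xb : ∀ b ∈ zpowers y, Commute x b := fun b hb => c1c.1 (c1s.1 (zpowers_le.2 (c1s.1 (h3 hx)) hb))
  have fb : ∀ b ∈ zpowers y, Commute f b := fun b hb =>
    c1c.1 (c1s.1 (zpowers_le.2 (c1s.1 (zpowers_le.2 (c1c.2 c.symm) hf)) hb))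
  have k : x * f * x⁻¹ * f⁻¹ ∈ zpowers y := by
    have := inv_mem (hc x hx)
    rwa [commutatorElement_inv, commutatorElement_def, ← (fb b hb).eq, show x * (f * b) * x⁻¹ *
      (f * b)⁻¹ = x * f * (b * x⁻¹) * b⁻¹ * f⁻¹ by group, ← (xb b hb).inv_left.eq, ← mul_assoc,
      mul_inv_cancel_right] at this
  obtain ⟨n, rfl⟩ := zpowers_le.2 (mem_zpowers_of_prime_card' oa hl hf
    fun e => ey (by simpa [e] using hb)) hd
  simp only
  rw [← conj_zpow, show x * f * x⁻¹ = x * f * x⁻¹ * f⁻¹ * f by group, (fb _ k).symm.mul_zpow,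
    mul_inv_cancel_right]
  exact zpow_mem k n

theorem lemE (h4 : ∀ x : G, ¬ 4 ∣ orderOf x) (hl : l.Prime) (l2 : l ≠ 2) (oy : orderOf y = l)
    (oa : orderOf a = l) (c : Commute y a) (_ot : orderOf t = 2) (ty : Commute t y)
    (ta : t * a * t⁻¹ = a⁻¹) (cj : ∃ g, g * y * g⁻¹ ∈ zpowers a) {S : Subgroup G}
    (hS : IsSylowOf l S (Cen1 y ⊓ Cen1 a)) (hN : Nor S ≤ Nor (zpowers y ⊔ zpowers a)) : False := by
  have := Fact.mk hl
  have y1 : y ≠ 1 := fun e => hl.one_lt.ne (by rw [← oy, e, orderOf_one])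
  have a1 : a ≠ 1 := fun e => hl.one_lt.ne (by rw [← oa, e, orderOf_one])
  have fin : ∀ g ∈ Nor S, g * y * g⁻¹ ∉ zpowers a := fun g hg e => lemE0 h4 hl l2 oy oa c ty ta e
    (cmem (hN hg) (mem_sup_right (mem_zpowers a)))
  have ay : a ∉ zpowers y := fun e => a1 (eq_one_of_inv_cen (oa ▸ hl.odd_of_ne_two l2) ta
    (zpowers_le.2 (c1c.2 ty.symm) e))
  have ya : y ∉ zpowers a := fun e => ay (mem_zpowers_of_prime_card' oa hl e y1)
  obtain ⟨g, hg⟩ := cj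
  have ce : conjS g (Cen1 y) = Cen1 a := by
    rw [conj_c1, ← cen_zp, ← cen_zp, le_antisymm (zpowers_le.2 hg) (zpowers_le.2
      (mem_zpowers_of_prime_card' oa hl hg fun e => y1 (by simpa using e)))]
  have pz : ∀ {x : G}, orderOf x = l → IsPGroup l (zpowers x) := fun e =>
    .of_card (n := 1) (by rw [Nat.card_zpowers, e, pow_one])
  have ES : zpowers y ⊔ zpowers a ≤ S := sup_le
    (hS.le_of_le_normalizer (pz oy) (zpowers_le.2 ⟨c1.2 rfl, c1c.2 c⟩) (nzp (hS.le.trans inf_le_left)))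
    (hS.le_of_le_normalizer (pz oa) (zpowers_le.2 ⟨c1c.2 c.symm, c1.2 rfl⟩)
      (nzp (hS.le.trans inf_le_right)))
  have i : IsSylowOf l S (Cen1 y) ↔ IsSylowOf l S (Cen1 a) := by
    have e : Nat.card (Cen1 y) = Nat.card (Cen1 a) := by rw [← ce, card_conjS]
    have k : ∀ {A B : Subgroup G}, S ≤ B → Nat.card A = Nat.card B → IsSylowOf l S A →
        IsSylowOf l S B := fun l e h => ⟨l, h.isPGroup, by
      rw [← H5.card_mul_relIndex h.le, ← H5.card_mul_relIndex l, Nat.mul_right_inj Nat.card_pos.ne'] at e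
      exact e ▸ h.not_dvd⟩
    exact ⟨k (hS.le.trans inf_le_right) e, k (hS.le.trans inf_le_left) e.symm⟩
  by_cases s : IsSylowOf l S (Cen1 y)
  · have s2 : IsSylowOf l (conjS g S) (Cen1 a) := ce ▸ s.map _
    obtain ⟨k, hk, e⟩ := s2.exists_conj (i.1 s)
    refine fin (k * g) (mnor fun x hx => e ▸ ⟨_, ⟨x, hx, rfl⟩, by simp [mul_assoc]⟩) ?_
    rw [show k * g * y * (k * g)⁻¹ = k * (g * y * g⁻¹) * k⁻¹ by group]
    exact cmem (mzp hk) hg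
  have k : ∀ {y a : G}, orderOf a = l → Commute y a → a ∉ zpowers y → ¬ IsSylowOf l S (Cen1 y) →
      IsSylowOf l S (Cen1 y ⊓ Cen1 a) → zpowers y ⊔ zpowers a ≤ S →
      Nor S ≤ Nor (zpowers y ⊔ zpowers a) → ∃ x ∈ Cen1 y ⊓ Nor S, ∀ d ∈ zpowers a, d ≠ 1 →
        ∃ c ∈ zpowers y, c ≠ 1 ∧ x * d * x⁻¹ = c * d := fun {y a} oa c ay s hS ES hN => by
    obtain ⟨P, hP, l⟩ := exists_isSylowOf_ge (K := Cen1 y ⊓ Nor S) hS.isPGroup
      (le_inf (hS.le.trans inf_le_left) le_normalizer)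
    obtain ⟨x, hx, xa⟩ := SetLike.not_le_iff_exists.1 fun e : P ≤ Cen1 a => s (IsSylowOf.of_normalizer
      (hS.eq_of_le hP.isPGroup l (le_inf (hP.le.trans inf_le_left) e) ▸ hP))
    refine ⟨x, hP.le hx, fun d hd d1 => ⟨_, shear hl oa c ay hP.isPGroup (ES.trans l)
      ((hP.le.trans inf_le_right).trans hN) (hP.le.trans inf_le_left) hx hd, fun e => xa ?_, by group⟩⟩
    exact c1s.1 (zpowers_le.2 (c1s.1 (c1'.2 (mul_inv_eq_one.1 e)))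
      (mem_zpowers_of_prime_card' oa hl hd d1))
  obtain ⟨x, hx, h1⟩ := k oa c ay s hS ES hN
  obtain ⟨z, hz, h2⟩ := k oy c.symm ya (mt i.2 s) (inf_comm (Cen1 y) _ ▸ hS) (sup_comm (zpowers y) _ ▸ ES)
    (sup_comm (zpowers y) _ ▸ hN)
  obtain ⟨d, hd, d1, e1⟩ := h2 y (mem_zpowers y) y1
  obtain ⟨b, hb, b1, e2⟩ := h1 d hd d1
  obtain ⟨n, e3⟩ := mem_powers_iff_mem_zpowers.2 (inv_mem (mem_zpowers_of_prime_card' oy hl hb b1))
  refine fin (x ^ n * z) (mul_mem (pow_mem hx.2 n) hz.2) ?_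
  rw [show x ^ n * z * y * (x ^ n * z)⁻¹ = x ^ n * (z * y * z⁻¹) * (x ^ n)⁻¹ by group, e1,
    show x ^ n * (d * y) * (x ^ n)⁻¹ = x ^ n * d * (x ^ n)⁻¹ * (x ^ n * y * (x ^ n)⁻¹) by group,
    sh_pow (c1c.1 (c1s.1 (zpowers_le.2 (c1s.1 hx.1) hb))) e2, c1'.1 (pow_mem hx.1 n),
    show b ^ n = y⁻¹ from e3, mul_assoc, c1.1 (zpowers_le.2 (c1c.2 c.symm) hd), inv_mul_cancel_left]
  exact hd

end LN
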