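import Cfsg.Agent.LN.JD2
import Cfsg.Agent.LN.JT1

/-! Groups of Janko-Ree type: the section of the involution. -/

set_option autoImplicit false
set_option linter.unusedSectionVars false

namespace LN.J

open Cfsg Subgroup H8 L Z6 CK H2
open FT (Cen1)
open scoped ComplexConjugate Classical

section
variable {X H : Type*} [Group X] [Fintype X] [Group H] [Fintype H]

theorem ci_sum {I : Type*} (s : Finset I) (k : I → ℂ) (f : I → H → ℂ) (μ : H → ℂ) :
    classInner (fun g => ∑ i ∈ s, k i * f i g) μ = ∑ i ∈ s, k i * classInner (f i) μ := by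
  simpa [fz] using (fz_sw (ι := MonoidHom.id H) (z := 1) (μ := μ) s k f).symm

theorem ci_mul (c : ℂ) (f μ : H → ℂ) : classInner (fun g => c * f g) μ = c * classInner f μ :=
  classInner_smul_left c f μ

theorem ci_pow {k : ℕ} (hk : (Nat.card H).Coprime k) (f μ : H → ℂ) :
    classInner (fun g => f (g ^ k)) (fun g => μ (g ^ k)) = classInner f μ := by
  simp only [classInner]
  congr 1
  exact Equiv.sum_comp (powCoprime hk) fun g => f g * conj (μ g)

theorem sum2' {ι : H →* X} (hι : Function.Injective ι) {t : X} (t2 : t * t = 1) (tι : t ∉ ι.range)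
    (f : X → ℂ) (h : ∀ g, f g ≠ 0 → g ∈ ι.range ∨ t * g ∈ ι.range) :
    ∑ g, f g = ∑ y, (f (ι y) + f (t * ι y)) := by
  rw [sum2 t2 tι f h]
  convert (Fintype.sum_equiv (MonoidHom.ofInjective hι).toEquiv (fun y => f (ι y) + f (t * ι y))
    (fun a : ι.range => f a + f (t * a)) fun _ => rfl).symm

theorem P0_cent {ι : H →* X} (hι : Function.Injective ι) {t : X} (t2 : t * t = 1)
    (tc : t ∈ center X) (tι : t ∉ ι.range) (h : ∀ g, g ∈ ι.range ∨ t * g ∈ ι.range) {θ : X → ℂ}
    (hθ : IsClassFunction X θ) (y : H) : P0 2 θ (t * ι y) = P0 2 (fun y => θ (t * ι y)) y := by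
  have c : (Nat.card X : ℂ) = 2 * Nat.card H := by
    have := sum2' hι t2 tι (fun _ => 1) fun g _ => h g
    simp only [Finset.sum_const, Finset.card_univ, ← Nat.card_eq_fintype_card, nsmul_eq_mul] at this
    linear_combination this
  have k : ∀ ξ : IrrCharacter X, P0 2 (fun y => ξ.1 (t * ι y)) y = P0 2 ξ.1 (t * ι y) := fun ξ => by
    obtain ⟨s, s1, hs⟩ := irr_central_scalar ξ.2 tc
    have s2 : s * conj s = 1 := by
      rw [Complex.mul_conj, Complex.normSq_eq_norm_sq, norm_eq_one_of_pow_orderOf s1]; simp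
    have i : IsIrrCharacter H fun y => ξ.1 (ι y) := irr_of_char_norm_one (char_comp (ch ξ) ι) (by
      have e := irr_classInner_self ξ.2
      rw [classInner, sum2' hι t2 tι _ fun g _ => h g, c] at e
      rw [← e, classInner, Finset.mul_sum, Finset.mul_sum]
      refine Finset.sum_congr rfl fun y _ => ?_
      have := card_ne_zero_complex (G := H)
      rw [hs, map_mul]
      field_simp
      linear_combination (-ξ.1 (ι y) * conj (ξ.1 (ι y))) * s2)
    have b : (⟨_, i⟩ : IrrCharacter H) ∈ B0 2 H ↔ ξ ∈ B0 2 X := by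
      rw [mem_B0, mem_B0, sum2' hι t2 tι _ fun g _ => h g]
      refine (Eq.congr_left (Finset.sum_congr rfl fun y _ => ?_)).not
      rw [show regInd 2 (t * ι y) = 0 from if_neg fun e => tι ?_, zero_mul, add_zero]
      · simp only [regInd, Reg, orderOf_injective ι hι]
        congr
      obtain ⟨m, hm⟩ := Nat.coprime_two_right.1 e
      have e1 := pow_orderOf_eq_one (t * ι y)
      rw [hm, Commute.mul_pow (mem_center_iff.1 tc _).symm, pow_succ, pow_mul, sq, t2, one_pow,
        one_mul, ← map_pow] at e1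
      exact ⟨_, (map_inv ι _).trans (eq_inv_of_mul_eq_one_left e1).symm⟩
    have e : P0 2 (fun y => ξ.1 (t * ι y)) y = s * P0 2 (⟨_, i⟩ : IrrCharacter H).1 y := by
      simp only [P0, hs, ci_mul, Finset.mul_sum, mul_assoc]
    rw [e]
    by_cases m : ξ ∈ B0 2 X
    · rw [P0_irr m, P0_irr (b.2 m), hs]
    · rw [P0_irr_of_not_mem m, P0_irr_of_not_mem (mt b.1 m), mul_zero]
  calc _ = ∑ ξ : IrrCharacter X, classInner θ ξ * P0 2 ξ.1 (t * ι y) := by
        nth_rewrite 1 [funext (classFun_apply_eq_sum hθ)]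
        simp only [P0, ci_sum, Finset.sum_mul, Finset.mul_sum, mul_assoc]
        exact Finset.sum_comm
    _ = _ := by
        simp only [← k, classFun_apply_eq_sum hθ (t * _)]
        simp only [P0, ci_sum, Finset.sum_mul, Finset.mul_sum, mul_assoc]
        exact Finset.sum_comm
end

variable {G : Type*} [Group G] [Fintype G] {t a u : G} {L : Subgroup G} {q r h : ℕ}
  (j : JG t L q r h)
include j

theorem tc (y : L) : Commute (y : G) t := GW.c1.1 (j.le y.2)
theorem pt : PElt 2 t := ⟨1, by rw [pow_one, sq, GW.ii j.ot]⟩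

theorem P0L {θ : G → ℂ} (hθ : IsClassFunction G θ) {y : L} (hy : Reg 2 y) :
    P0 2 θ (t * y) = P0 2 (fun y : L => θ (t * y)) y := by
  rw [P0_res hθ (pt j) (Reg_coe.2 hy) (tc j y).symm (⟨t, GW.c1.2 rfl⟩ * inclusion j.le y) rfl]
  refine P0_cent (inclusion_injective j.le) (Subtype.ext (GW.ii j.ot))
    (mem_center_iff.2 fun g => Subtype.ext (GW.c1.1 g.2)) (fun ⟨y, e⟩ => j.tL ?_)
    (fun g => (j.dec g (GW.c1.1 g.2)).imp (fun e => ⟨⟨_, e⟩, rfl⟩) fun e => ⟨⟨_, e⟩, rfl⟩)
    (class_res hθ _) y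
  have e' : (y : G) = t := congrArg Subtype.val e
  exact e' ▸ y.2

theorem sumC (f : G → ℂ) (h : ∀ g, f g ≠ 0 → Commute g t) :
    ∑ g, f g = ∑ y : L, (f y + f (t * y)) :=
  sum2 (GW.ii j.ot) j.tL f fun g e => j.dec g (h g e)

theorem cardC : Nat.card (Cen1 t) = 2 * Nat.card L := by
  have := sumC j (fun g => if g ∈ Cen1 t then 1 else 0) fun g e => GW.c1.1 (by
    by_contra k; exact e (if_neg k))
  rw [Finset.sum_boole, ← Fintype.card_subtype, ← Nat.card_eq_fintype_card,
    Finset.sum_congr rfl (g := fun _ => 2) fun y _ => by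
      rw [if_pos (j.le y.2), if_pos (mul_mem (GW.c1.2 rfl) (j.le y.2))]; norm_num] at this
  simp only [Finset.sum_const, Finset.card_univ, ← Nat.card_eq_fintype_card, nsmul_eq_mul] at this
  exact_mod_cast this.trans (mul_comm _ _)

theorem col_t {y y' : L} (hy : Reg 2 y) (hy' : Reg 2 y') : col (t * y') (t * y) = 2 * col y' y := by
  rw [col, sumC j _ fun c e => ?_, col, Finset.mul_sum]
  · refine Finset.sum_congr rfl fun c _ => ?_
    have e1 : (c : G) * (t * y') = t * y * c ↔ c * y' = y * c := by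
      rw [← mul_assoc, (tc j c).eq, mul_assoc, mul_assoc, mul_right_inj, ← coe_mul, ← coe_mul,
        Subtype.coe_inj]
    have e2 : t * c * (t * y') = t * y * (t * c) ↔ c * y' = y * c := by
      rw [← e1, mul_assoc t, mul_assoc t, mul_right_inj, ← mul_assoc (y : G), (tc j y).eq]
    simp only [e1, e2, two_mul]
    congr
  have e' : c * (t * y') = t * y * c := by by_contra k; exact e (if_neg k)
  have := isConj_of_isConj_mul (pt j) (Reg_coe.2 hy) (tc j y).symm (pt j) (Reg_coe.2 hy')
    (tc j y').symm (m := c) (k := 1) (by norm_num) (by rw [zpow_one, zpow_one, e']; group)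
  exact mul_inv_eq_iff_eq_mul.1 this.symm

theorem o2t (l : L) : orderOf (t * l) = 2 ↔ l * l = 1 := by
  rw [o2, mul_assoc, ← mul_assoc (l : G), (tc j l).eq, ← mul_assoc, ← mul_assoc, GW.ii j.ot,
    one_mul, ← coe_mul, OneMemClass.coe_eq_one]
  exact and_iff_left fun e => j.tL (eq_inv_of_mul_eq_one_left e ▸ inv_mem l.2)

theorem pc_t {y : L} (hy : Reg 2 y) : pc (t * y) = 2 * pc y := by
  have n : ∀ x : L, orderOf x = 2 → x ≠ y ∧ x * y ≠ 1 := fun x hx => by
    have k : x ≠ y := fun e => by rw [← e, Reg, hx] at hy; simp at hy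
    exact ⟨k, fun e => k (by rw [← GW.iinv hx]; exact inv_eq_of_mul_eq_one_right e)⟩
  rw [pc, sumC j _ fun c e => ?_, pc, Finset.mul_sum]
  · refine Finset.sum_congr rfl fun c _ => ?_
    have e1 : orderOf (c : G) = 2 ∧ orderOf ((c : G) * (t * y)) = 2 ↔
        orderOf c = 2 ∧ orderOf (c * y) = 2 := by
      rw [← mul_assoc, (tc j c).eq, mul_assoc, ← coe_mul, o2t j, orderOf_coe]
      exact and_congr_right fun k => by rw [o2]; exact (and_iff_left (n c k).2).symm
    have e2 : orderOf (t * c) = 2 ∧ orderOf (t * c * (t * y)) = 2 ↔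
        orderOf c = 2 ∧ orderOf (c * y) = 2 := by
      rw [mul_assoc, ← mul_assoc (c : G), (tc j c).eq, ← mul_assoc, ← mul_assoc, GW.ii j.ot,
        one_mul, ← coe_mul, o2t j, orderOf_coe]
      refine and_congr_left fun k => ?_
      rw [o2]
      exact (and_iff_left fun e => (n _ k).1 (by rw [e, one_mul])).symm
    simp only [e1, e2, two_mul]
  have e' : orderOf c = 2 ∧ orderOf (c * (t * y)) = 2 := by by_contra k; exact e (if_neg k)
  have := isConj_of_isConj_mul (pt j) (Reg_coe.2 (Reg_inv.2 hy)) (tc j y⁻¹).symm (pt j)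
    (Reg_coe.2 hy) (tc j y).symm (m := c) (k := 1) (by norm_num) (by
      rw [zpow_one, zpow_one, GW.iinv e'.1, ← GW.iinv j.ot, (tc j y⁻¹).inv_right.symm.eq, coe_inv,
        ← mul_inv_rev, GW.iinv j.ot, inv_eq_iff_mul_eq_one, ← mul_assoc, ← mul_assoc]
      have := GW.ii e'.2
      rw [mul_assoc c, mul_eq_one_comm] at this
      rw [← this]; group)
  exact mul_inv_eq_iff_eq_mul.1 this.symm

theorem gen_t (χ : IrrCharacter G) : IsGeneralizedCharacter L fun y => χ.1 (t * y) := by
  have e1 := half (ch χ) L.subtype (GW.ii j.ot) (tc j) (s := 1) (one_mul _)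
  have e2 := half (ch χ) L.subtype (GW.ii j.ot) (tc j) (s := -1) (by ring)
  exact ⟨_, _, e1, e2, funext fun y => by simp only [Pi.sub_apply, coe_subtype]; ring⟩

theorem mod8 (χ : IrrCharacter G) {x : ℤ} (e : χ.1 t = x) : (deg χ : ℤ) % 8 = x % 8 := by
  obtain ⟨T, -, -, c8, sq, -⟩ := j.syl
  obtain ⟨m, hm⟩ := char_classInner_nat (char_restrict (ch χ) T) char_one
  simp only [classInner, c8, Pi.one_apply, map_one, mul_one] at hm
  rw [Finset.sum_congr rfl (g := fun g => (x : ℂ) + if g = 1 then (deg χ : ℂ) - x else 0),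
    Finset.sum_add_distrib, Finset.sum_const, Finset.card_univ, ← Nat.card_eq_fintype_card, c8,
    Finset.sum_ite_eq'] at hm
  · have : ((deg χ + 7 * x : ℤ) : ℂ) = ((8 * m : ℤ) : ℂ) := by
      simp only [Finset.mem_univ, if_true, nsmul_eq_mul] at hm
      push_cast at hm ⊢
      linear_combination 8 * hm
    have := Int.cast_injective this
    omega
  intro g _
  split_ifs with k
  · rw [k, OneMemClass.coe_one, deg_eq]; ring
  · rw [add_zero, ← e]
    exact (IsClassFunction_apply_of_isConj (cf χ) (j.one _ (o2.2 ⟨sq _ g.2,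
      fun e => k (Subtype.ext e)⟩))).symm

end LN.J
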