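import Cfsg.Agent.LN.JD3
import Cfsg.Agent.LN.JP1

/-! Groups of Janko-Ree type: the decomposition columns of the involution. -/

set_option autoImplicit false
set_option linter.unusedSectionVars false

namespace LN.J

open Cfsg Subgroup H8 L Z6 CK H2
open FT (Cen1)
open scoped ComplexConjugate Classical

section
variable {H : Type*} [Group H] [Fintype H]

/-- a principal block with four characters -/
structure B4 (ψ : Fin 4 → IrrCharacter H) (δ : Fin 4 → ℤ) : Prop where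
  inj : Function.Injective ψ
  mem : ∀ χ, χ ∈ B0 2 H ↔ ∃ i, ψ i = χ
  p0 : ψ 0 = triv H
  d0 : δ 0 = 1
  sq : ∀ i, δ i * δ i = 1
  off : ∀ i g, ¬ Reg 2 g → (ψ i).1 g = δ i
  reg : ∀ y, Reg 2 y → ∑ i, (δ i : ℂ) * (ψ i).1 y = 0

/-- the differences vanishing off the regular elements -/
noncomputable def lam (ψ : Fin 4 → IrrCharacter H) (δ : Fin 4 → ℤ) (i : Fin 4) : H → ℂ :=
  (triv H).1 - (δ i : ℂ) • (ψ i).1

theorem lam_gen (ψ : Fin 4 → IrrCharacter H) (δ : Fin 4 → ℤ) (i : Fin 4) :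
    IsGeneralizedCharacter H (lam ψ δ i) :=
  genChar_sub (genChar_of_irr (triv H).2) (genChar_intCast_smul (genChar_of_irr (ψ i).2) _)

theorem ci_lam (ψ : Fin 4 → IrrCharacter H) (δ : Fin 4 → ℤ) (i : Fin 4) (θ : H → ℂ) :
    classInner θ (lam ψ δ i) = classInner θ (triv H).1 - δ i * classInner θ (ψ i).1 := by
  rw [lam, classInner_sub_right, classInner_smul_right, map_intCast]

theorem ci_irr (c : IrrCharacter H → ℂ) (ψ : IrrCharacter H) :
    classInner (fun g => ∑ χ : IrrCharacter H, c χ * χ.1 g) ψ = c ψ := by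
  rw [← classInner_sum_irr c ψ]
  congr 1
  ext g
  simp [Finset.sum_apply]

namespace B4
variable {ψ : Fin 4 → IrrCharacter H} {δ : Fin 4 → ℤ} (b : B4 ψ δ)
include b

theorem sqc (i : Fin 4) : (δ i : ℂ) * δ i = 1 := by exact_mod_cast b.sq i

theorem lreg {i : Fin 4} {y : H} (h : lam ψ δ i y ≠ 0) : Reg 2 y := by
  by_contra e
  exact h (by simp [lam, b.off i y e, b.sqc])

theorem gram {i k : Fin 4} (hi : i ≠ 0) (hk : k ≠ 0) :
    classInner (lam ψ δ i) (lam ψ δ k) = 1 + if i = k then 1 else 0 := by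
  have e : ∀ i k, classInner (ψ i).1 (ψ k).1 = if i = k then 1 else 0 := fun i k => by
    rw [irr_classInner (ψ i).2 (ψ k).2]
    simp only [Subtype.coe_inj, b.inj.eq_iff]
  simp only [lam, classInner_sub_left, classInner_sub_right, classInner_smul_left,
    classInner_smul_right, ← b.p0, e, if_neg hi, if_neg hk.symm, if_true, map_intCast]
  split_ifs with h
  · rw [h]; linear_combination b.sqc k
  · ring

theorem P0l (θ : H → ℂ) (i : Fin 4) :
    classInner (P0 2 θ) (lam ψ δ i) = classInner θ (lam ψ δ i) := by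
  have e : ∀ i, classInner (P0 2 θ) (ψ i).1 = classInner θ (ψ i).1 := fun i => by
    rw [funext (P0_eq_PP θ), classInner_PP, e0, if_pos ((b.mem _).2 ⟨i, rfl⟩), one_mul]
  rw [ci_lam, ci_lam, ← b.p0, e, e]

theorem P0v (θ : H → ℂ) {y : H} (hy : Reg 2 y) :
    P0 2 θ y = -∑ i, classInner θ (lam ψ δ i) * (δ i * (ψ i).1 y) := by
  have e : B0 2 H = Finset.univ.map ⟨ψ, b.inj⟩ := by ext χ; simp [b.mem]
  simp only [P0, e, Finset.sum_map, Function.Embedding.coeFn_mk, ci_lam, sub_mul,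
    Finset.sum_sub_distrib, ← Finset.mul_sum, b.reg y hy, mul_zero, zero_sub, neg_neg]
  exact Finset.sum_congr rfl fun i _ => by
    linear_combination (-classInner θ (ψ i).1 * (ψ i).1 y) * b.sqc i

theorem lam0 : lam ψ δ 0 = 0 := by simp [lam, b.p0, b.d0]

end B4
end

variable {G : Type*} [Group G] [Fintype G] {t a u : G} {L : Subgroup G} {q r h : ℕ}
  (j : JG t L q r h) {ψ : Fin 4 → IrrCharacter L} {δ : Fin 4 → ℤ} (b : B4 ψ δ)
  {c : Fin 4 → IrrCharacter G → ℤ}
include j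

theorem ex_c : ∃ c : Fin 4 → IrrCharacter G → ℤ,
    ∀ i χ, (c i χ : ℂ) = fz L.subtype t (lam ψ δ i) χ.1 := by
  choose c hc using fun i χ => genChar_classInner_int (gen_t j χ) (lam_gen ψ δ i)
  exact ⟨c, fun i χ => (hc i χ).symm⟩

theorem ex_tv : ∃ tv : IrrCharacter G → ℤ, ∀ χ, χ.1 t = tv χ := by
  choose tv e using fun χ => genChar_apply_one (gen_t j χ)
  exact ⟨tv, fun χ => by simpa using e χ⟩

theorem nreg (y : L) : ¬ Odd (orderOf (t * y)) := fun e => j.tL
  ((L.mul_mem_cancel_right y.2).1 (j.odd_mem ((Commute.refl t).mul_left (tc j y)) e))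

variable (hc : ∀ i χ, (c i χ : ℂ) = fz L.subtype t (lam ψ δ i) χ.1)
include hc

omit j in
theorem c_sw (i : Fin 4) (k : IrrCharacter G → ℂ) : ∑ χ, (c i χ : ℂ) * k χ =
    fz L.subtype t (lam ψ δ i) fun g => ∑ χ, k χ * χ.1 g := by
  rw [← fz_sw]
  exact Finset.sum_congr rfl fun χ _ => by rw [hc, mul_comm]

include b

theorem c_val {i : Fin 4} {χ : IrrCharacter G} (n : c i χ ≠ 0) {y : L} (hy : Reg 2 y) :
    χ.1 (t * y) = -∑ i, c i χ * (δ i * (ψ i).1 y) := by
  have m : χ ∈ B0 2 G := by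
    by_contra m
    refine n (Int.cast_injective (α := ℂ) ?_)
    rw [hc, fz, ← b.P0l, Int.cast_zero]
    exact (fz_congr (θ := 0) fun y e => ((P0_irr_of_not_mem m _).symm.trans
      (P0L j (cf χ) (b.lreg e)))).symm.trans (fz_zero (ι := L.subtype) (z := t) fun _ _ => rfl)
  rw [← P0_irr m, P0L j (cf χ) hy, b.P0v _ hy]
  simp only [hc]; rfl

theorem c_gram {i k : Fin 4} (hi : i ≠ 0) (hk : k ≠ 0) :
    ∑ χ, c k χ * c i χ = 2 + if i = k then 2 else 0 := by
  refine Int.cast_injective (α := ℂ) ?_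
  push_cast
  rw [c_sw hc, fz_congr (φ := (2 : ℂ) • lam ψ δ i), classInner_smul_left, b.gram hi hk]
  · split_ifs <;> ring
  intro y hy
  rw [Finset.sum_congr rfl fun χ _ => by rw [← map_intCast (starRingEnd ℂ), hc], fz_col,
    Pi.smul_apply, ← rep (genChar_isClassFunction (lam_gen ψ δ i)) y, smul_eq_mul, mul_left_comm,
    Finset.mul_sum _ _ 2]
  refine congrArg _ (Finset.sum_congr rfl fun y' _ => ?_)
  by_cases e : lam ψ δ i y' = 0
  · simp [e]
  · rw [coe_subtype, col_t j (b.lreg hy) (b.lreg e), mul_left_comm]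

omit b in
theorem c_deg (i : Fin 4) : ∑ χ, c i χ * deg χ = 0 := by
  refine Int.cast_injective (α := ℂ) ?_
  push_cast
  rw [← fz_at (ι := L.subtype) (z := t) (μ := lam ψ δ i) (x := 1) fun y _ e =>
    nreg j y (by rw [show t * (y : G) = 1 from isConj_one_right.1 e]; simp)]
  exact Finset.sum_congr rfl fun χ _ => by rw [hc, deg_eq, map_natCast, mul_comm]

omit b in
theorem c_fs (i : Fin 4) : ∑ χ, c i χ * fsI χ = 0 := by
  refine Int.cast_injective (α := ℂ) ?_
  push_cast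
  rw [c_sw hc]
  refine fz_zero fun y _ => ?_
  have : IsEmpty {g : G // g ^ 2 = t * L.subtype y} :=
    ⟨fun g => nreg j y (by have := odd_sq j.h4 g.1; rwa [g.2] at this)⟩
  rw [← card_sqrt, Nat.card_of_isEmpty, Nat.cast_zero]

theorem c_pair (i : Fin 4) {d : ℂ} (e : δ i * (ψ i).1 1 = d) :
    (∑ χ, (c i χ : ℂ) * (χ.1 t ^ 2 / χ.1 1)) * (Cen1 t).index * d = 4 * (q * h) ^ 2 * (d - 1) := by
  have l := j.lq
  obtain ⟨v, ov⟩ := exists_prime_orderOf_dvd_card' (G := L) 2 (by rw [l.card]; omega)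
  have r0 : (r : ℂ) ≠ 0 := Nat.cast_ne_zero.2 (by have := l.r3; omega)
  have n0 : ((Cen1 t).index : ℂ) ≠ 0 := Nat.cast_ne_zero.2 index_ne_zero_of_finite
  have iv : ((Cen1 v).index : ℂ) = q * h := by
    have := card_mul_index (Cen1 v)
    rw [card_cen l v ov, l.card] at this
    have : (4 * r * (Cen1 v).index : ℂ) = 4 * (q * r * h) := by exact_mod_cast this
    exact mul_left_cancel₀ (mul_ne_zero (by norm_num : (4 : ℂ) ≠ 0) r0) (by linear_combination this)
  have d0 : (ψ i).1 1 ≠ 0 := by rw [deg_eq]; exact Nat.cast_ne_zero.2 (deg_pos _).ne'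
  rw [c_sw hc, fz_congr (φ := (4 * (q * h) ^ 2 / (Cen1 t).index : ℂ) •
    fun g => ∑ χ : IrrCharacter L, χ.1 v ^ 2 / χ.1 1 * χ.1 g), classInner_smul_left, ci_lam, ci_irr,
    ci_irr, b.off i v (by simp [Reg, ov]), ← e]
  · simp only [triv_apply]
    field_simp
    linear_combination (-(q * h) ^ 2 * (δ i : ℂ) ^ 2 - (q * h) ^ 2) * b.sqc i
  intro y hy
  have e1 := pc_eq j.ot j.one (t * y)
  have e2 := pc_eq ov (fun w hw => l.inv ov hw) y
  rw [pc_t j (b.lreg hy), cardC j, l.card] at e1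
  rw [iv, card_cen l v ov] at e2
  push_cast at e1 e2
  rw [Pi.smul_apply, smul_eq_mul, div_mul_eq_mul_div, eq_div_iff n0, coe_subtype, e1]
  linear_combination (-4 * q * h) * e2

end LN.J
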