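import Cfsg.Agent.LN.JD2

/-! Groups of Janko-Ree type: the columns of norm three. -/

set_option autoImplicit false
set_option linter.unusedSectionVars false

namespace LN.J

open Cfsg Subgroup H8 L Z6 CK H2
open scoped ComplexConjugate Classical

variable {G : Type*} [Group G] [Fintype G] {L : Subgroup G} {t a u : G} {q r h : ℕ}

section
variable (j : JG t L q r h) (iv : IV t L h) (T : Tor L a u) (oa : orderOf a = h)
include j T oa

theorem k_pow {y : G} (hy : y ∈ zpowers a) : y ^ h = 1 :=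
  orderOf_dvd_iff_pow_eq_one.1 (oa ▸ orderOf_dvd_of_mem_zpowers hy)

theorem k_odd {y : G} (hy : y ∈ zpowers a) (e : y * y = 1) : y = 1 := by
  obtain ⟨k, hk⟩ := j.lq.odh
  have := k_pow j T oa hy
  rwa [hk, pow_succ, pow_mul, sq, e, one_pow, one_mul] at this

theorem k_cm {y : G} (hy : y ∈ L) : Commute t y :=
  (mem_centralizer_singleton_iff.1 (j.le hy) : Commute y t).symm

theorem k_tp {y : G} (hy : y ∈ zpowers a) : (t * y) ^ h = t := by
  obtain ⟨k, hk⟩ := j.lq.odh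
  rw [(k_cm j T oa (zpowers_le.2 T.aL hy)).mul_pow, k_pow j T oa hy, mul_one, hk, pow_succ,
    pow_mul, sq, GW.ii j.ot, one_pow, one_mul]

theorem k_o2 {s l : G} (hs : s = 1 ∨ s = t) (hl : l ∈ L) :
    (orderOf (s * l) = 2 → l * l = 1) ∧ (l * l = 1 → l ≠ 1 → orderOf (s * l) = 2) := by
  rcases hs with rfl | rfl
  · rw [one_mul]; exact ⟨GW.ii, fun a b => o2.2 ⟨a, b⟩⟩
  · have e : s * l * (s * l) = l * l := by
      rw [← sq, (k_cm j T oa hl).mul_pow, sq, GW.ii j.ot, one_mul, sq]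
    exact ⟨fun k => e ▸ GW.ii k, fun a _ => o2.2 ⟨e ▸ a, fun k => j.tL
      (by rw [eq_inv_of_mul_eq_one_left k]; exact inv_mem hl)⟩⟩

include iv

theorem k_fix {z y y' c : G} (hz : z = 1 ∨ z = t) (hy : y ∈ zpowers a) (hy' : y' ∈ zpowers a)
    (n : y ≠ 1) (e : c * (z * y') = z * y * c) : Commute c t := by
  have yL := zpowers_le.2 T.aL hy
  rw [commute_iff_eq, ← mul_inv_eq_iff_eq_mul]
  rw [← mul_inv_eq_iff_eq_mul] at e
  rcases hz with rfl | rfl
  · rw [one_mul, one_mul] at e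
    have c1 : Commute (c * t * c⁻¹) y :=
      e ▸ (k_cm j T oa (zpowers_le.2 T.aL hy')).map (MulAut.conj c)
    have c2 := iv y yL n (oa ▸ orderOf_dvd_of_mem_zpowers hy) _ c1
    have w2 : c * t * c⁻¹ * (c * t * c⁻¹) = 1 := by rw [conj_mul, GW.ii j.ot]; simp
    have y2 : y * y ≠ 1 := fun k => n (k_odd j T oa hy k)
    rcases j.dec _ c2 with k | k
    · exact absurd (by simpa using k_odd j T oa (T.cen y hy y2 _ k c1) w2) (GW.ine j.ot)
    · have := k_odd j T oa (T.cen y hy y2 _ k ((k_cm j T oa yL).mul_left c1)) (by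
        rw [← sq, c2.symm.mul_pow, sq, sq, GW.ii j.ot, w2, one_mul])
      rw [eq_inv_of_mul_eq_one_right this, GW.iinv j.ot]
  · rw [← k_tp j T oa hy', ← conj_pow, e, k_tp j T oa hy, k_tp j T oa hy']

theorem k_col {z : G} (hz : z = 1 ∨ z = t) (y y' : zpowers a) (n : y ≠ 1) (n' : y' ≠ 1) :
    col (z * y') (z * y) = 2 * h * ((if y' = y then 1 else 0) + if y' = y⁻¹ then 1 else 0) := by
  have le := zpowers_le.2 T.aL
  have e := tor_col T (y := ⟨y, le y.2⟩) (y' := ⟨y', le y'.2⟩) y.2 y'.2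
    fun k => n' (Subtype.ext (congrArg Subtype.val k :))
  have cz : ∀ l ∈ L, Commute z l := fun l hl => by
    rcases hz with rfl | rfl
    exacts [Commute.one_left _, k_cm j T oa hl]
  have ct : Commute t (z * y) := by
    rcases hz with rfl | rfl
    exacts [by rw [one_mul]; exact k_cm j T oa (le y.2),
      (Commute.refl _).mul_right (k_cm j T oa (le y.2))]
  rw [col, sum2 (A := L) (GW.ii j.ot) j.tL _ fun g k => j.dec g (k_fix j iv T oa hz y.2 y'.2
    (fun k => n (Subtype.ext k)) (by by_contra c; exact k (if_neg c))), mul_assoc, ← oa]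
  simp only [Subtype.ext_iff, coe_inv] at e ⊢
  rw [← e, col, Finset.mul_sum]
  refine Finset.sum_congr rfl fun l _ => ?_
  have k1 : (l : G) * (z * y') = z * y * l ↔ l * ⟨y', le y'.2⟩ = ⟨y, le y.2⟩ * l := by
    rw [← mul_assoc, ← (cz l l.2).eq, mul_assoc, mul_assoc, mul_right_inj, Subtype.ext_iff]; rfl
  have k2 : t * l * (z * y') = z * y * (t * l) ↔ (l : G) * (z * y') = z * y * l := by
    rw [← mul_assoc (z * y), ← ct.eq, mul_assoc t, mul_assoc t, mul_right_inj]
  simp only [k2, k1, two_mul]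
  split_ifs <;> rfl

theorem k_pc {z : G} (hz : z = 1 ∨ z = t) (y : zpowers a) (n : y ≠ 1) : pc (z * y) = 2 * h := by
  have le := zpowers_le.2 T.aL
  have n0 : (y : G) ≠ 1 := fun k => n (Subtype.ext k)
  have e := tor_pc T (g := ⟨y, le y.2⟩) y.2 fun k => n0 (congrArg Subtype.val k :)
  have cz : ∀ l ∈ L, Commute z l := fun l hl => by
    rcases hz with rfl | rfl
    exacts [Commute.one_left _, k_cm j T oa hl]
  have z2 : z⁻¹ = z := by
    rcases hz with rfl | rfl
    exacts [inv_one, GW.iinv j.ot]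
  rw [pc, sum2 (A := L) (GW.ii j.ot) j.tL _ fun g k => j.dec g (k_fix j iv T oa hz (inv_mem y.2)
    y.2 (inv_ne_one.2 n0) ?_), ← oa, ← e, pc, Finset.mul_sum]
  · refine Finset.sum_congr rfl fun l _ => ?_
    have k : ∀ s s', s = 1 ∨ s = t → s' = 1 ∨ s' = t → (orderOf (s * l) = 2 ∧
        orderOf (s' * (l * y)) = 2 ↔ (l : G) * l = 1 ∧ (l : G) * y * (l * y) = 1) :=
      fun s s' hs hs' => by
        have a1 := k_o2 j T oa hs l.2
        have a2 := k_o2 j T oa hs' (mul_mem l.2 (le y.2))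
        refine ⟨fun k => ⟨a1.1 k.1, a2.1 k.2⟩, fun k => ⟨a1.2 k.1 fun c => ?_, a2.2 k.2 fun c => ?_⟩⟩
        · simp only [c, one_mul] at k; exact n0 (k_odd j T oa y.2 k.2)
        · rw [eq_inv_of_mul_eq_one_left c, ← mul_inv_rev, inv_eq_one] at k
          exact n0 (k_odd j T oa y.2 k.1)
    have k0 := k 1 1 (Or.inl rfl) (Or.inl rfl)
    have k1 := k 1 z (Or.inl rfl) hz
    have k2 := k t (t * z) (Or.inr rfl) (by
      rcases hz with rfl | rfl
      exacts [Or.inr (mul_one _), Or.inl (GW.ii j.ot)])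
    rw [one_mul] at k0 k1
    rw [one_mul] at k0
    rw [← mul_assoc, (cz l l.2).eq, mul_assoc] at k1
    rw [mul_assoc t, ← mul_assoc z, (cz l l.2).eq, mul_assoc, ← mul_assoc t] at k2
    simp only [← orderOf_coe, coe_mul, k0, k1, k2, two_mul]
  · have e' : orderOf g = 2 ∧ orderOf (g * (z * y)) = 2 := by by_contra c; exact k (if_neg c)
    rw [← mul_inv_eq_iff_eq_mul, GW.iinv e'.1, (cz _ (le (inv_mem y.2))).eq]
    nth_rewrite 2 [← z2]
    rw [← mul_inv_rev, eq_inv_iff_mul_eq_one, mul_assoc, GW.ii e'.2]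

end

theorem cols (j : JG t L q r h) (iv : IV t L h) (T : Tor L a u) (oa : orderOf a = h) :
    ∃ c1 c2 : {ξ : IrrCharacter (zpowers a) // ξ ≠ triv _} → IrrCharacter G → ℤ,
    (∀ l χ, ((c1 l χ - c2 l χ : ℤ) : ℂ) = fz (zpowers a).subtype t (1 - l.1.1) χ.1) ∧
    Nonempty {ξ : IrrCharacter (zpowers a) // ξ ≠ triv _} ∧
    (∀ l, ∑ χ, c1 l χ * c1 l χ = 3 ∧ ∑ χ, c2 l χ * c2 l χ = 3 ∧ ∑ χ, c1 l χ * c2 l χ = 0) ∧
    (∀ l, c1 l (triv G) = 1 ∧ c2 l (triv G) = 0) ∧
    (∀ l x, x = 1 ∨ x = t → ∑ χ, (c1 l χ : ℂ) * χ.1 x = 0 ∧ ∑ χ, (c2 l χ : ℂ) * χ.1 x = 0) ∧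
    (∀ l, (∑ χ, (c1 l χ : ℂ) * (χ.1 t ^ 2 / χ.1 1)) * (FT.Cen1 t).index =
      2 * h * Nat.card (FT.Cen1 t) ∧ ∑ χ, (c2 l χ : ℂ) * (χ.1 t ^ 2 / χ.1 1) = 0) ∧
    ∀ χ k, (∀ l, c1 l χ + c2 l χ = k) → (h : ℤ) ∣ (H8.deg χ : ℤ) - k := by
  have le := zpowers_le.2 T.aL
  have cH : Nat.card (zpowers a) = h := by rw [Nat.card_zpowers, oa]
  have h0 : (h : ℂ) ≠ 0 := Nat.cast_ne_zero.2 (by have := j.lq.h5; omega)
  have t2 := GW.ii j.ot
  have ex : ∀ (s : ℂ), s * s = 1 → ∀ (l : {ξ : IrrCharacter (zpowers a) // ξ ≠ triv _})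
      (χ : IrrCharacter G), ∃ z : ℤ, (z : ℂ) = (fz (zpowers a).subtype 1 (1 - l.1.1) χ.1 +
        s * fz (zpowers a).subtype t (1 - l.1.1) χ.1) / 2 := fun s hs l χ => by
    obtain ⟨z, hz⟩ := genChar_classInner_int (genChar_of_char (half (ch χ) (zpowers a).subtype t2
      (fun x => (k_cm j T oa (le x.2)).symm) hs)) (genChar_sub genChar_one (genChar_of_irr l.1.2))
    refine ⟨z, hz.symm.trans ?_⟩
    simp only [fz, classInner, one_mul, Finset.mul_sum, ← Finset.sum_add_distrib, Finset.sum_div]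
    exact Finset.sum_congr rfl fun _ _ => by ring
  choose c1 e1 using ex 1 (one_mul _)
  choose c2 e2 using ex (-1) (by ring)
  have hA : ∀ l χ, fz (zpowers a).subtype 1 (1 - l.1.1) χ.1 = ((c1 l χ + c2 l χ : ℤ) : ℂ) :=
    fun l χ => by push_cast; rw [e1, e2]; ring
  have hB : ∀ l χ, fz (zpowers a).subtype t (1 - l.1.1) χ.1 = ((c1 l χ - c2 l χ : ℤ) : ℂ) :=
    fun l χ => by push_cast; rw [e1, e2]; ring
  have sp : ∀ l (w : IrrCharacter G → ℂ) (v : ℂ),
      (∀ z, z = 1 ∨ z = t → ∑ χ, w χ * fz (zpowers a).subtype z (1 - l.1.1) χ.1 = v) →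
      ∑ χ, (c1 l χ : ℂ) * w χ = v ∧ ∑ χ, (c2 l χ : ℂ) * w χ = 0 := fun l w v k => by
    have k1 := k 1 (Or.inl rfl)
    have k2 := k t (Or.inr rfl)
    simp only [hA, hB, Int.cast_add, Int.cast_sub, mul_comm (w _)] at k1 k2
    simp only [add_mul, sub_mul, Finset.sum_add_distrib, Finset.sum_sub_distrib] at k1 k2
    exact ⟨by linear_combination (k1 + k2) / 2, by linear_combination (k1 - k2) / 2⟩
  refine ⟨c1, c2, fun l χ => (hB l χ).symm, ?_, fun l => ?_, fun l => ?_, fun l x hx => ?_,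
    fun l => ?_, fun χ k hk => ?_⟩
  · by_contra c
    have u : ∀ ξ : IrrCharacter (zpowers a), ξ = triv _ := fun ξ => by_contra fun n => c ⟨⟨ξ, n⟩⟩
    have := sum_irr_degree_sq (G := zpowers a)
    rw [Finset.sum_eq_single (triv _) (fun ξ _ n => absurd (u ξ) n) (by simp), cH] at this
    have e : ((1 : ℕ) : ℂ) = h := by simpa using this
    have := j.lq.h5
    have := Nat.cast_injective e
    omega
  · have ho : Odd (Nat.card (zpowers a)) := cH ▸ j.lq.odh
    have n1 := fz_norm (ι := (zpowers a).subtype) (z := 1) (z' := 1) (c := 2 * h) l.2 ho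
      fun y y' n n' => by convert k_col j iv T oa (Or.inl rfl) y y' n n' <;> rfl
    have n2 := fz_norm (ι := (zpowers a).subtype) (z := t) (z' := t) (c := 2 * h) l.2 ho
      fun y y' n n' => by convert k_col j iv T oa (Or.inr rfl) y y' n n' <;> rfl
    have n3 := fz_norm (ι := (zpowers a).subtype) (z := t) (z' := 1) (c := 0) l.2 ho
      fun y y' n n' => by
        rw [zero_mul]
        refine col_not fun e => GW.ine j.ot ?_
        obtain ⟨c, e⟩ := isConj_iff.1 e
        rw [← k_tp j T oa y.2, ← show _ = t * (y : G) from e, conj_pow, one_mul,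
          show (zpowers a).subtype y' ^ h = 1 from k_pow j T oa y'.2]
        simp
    rw [cH, show 3 * (2 * (h : ℂ)) / h = (6 : ℤ) by field_simp; norm_num] at n1 n2
    rw [mul_zero, zero_div] at n3
    simp only [hA, hB, map_intCast] at n1 n2 n3
    norm_cast at n1 n2 n3
    simp only [mul_add, add_mul, mul_sub, sub_mul, Finset.sum_add_distrib, Finset.sum_sub_distrib,
      mul_comm (c2 l _) (c1 l _)] at n1 n2 n3
    omega
  · have a1 := (hA l (triv G)).symm.trans (fz_const l.2 (c := 1) fun _ _ => rfl)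
    have a2 := (hB l (triv G)).symm.trans (fz_const l.2 (c := 1) fun _ _ => rfl)
    norm_cast at a1 a2
    omega
  · have x2 : x * x = 1 := by rcases hx with rfl | rfl; exacts [one_mul _, t2]
    refine sp l _ 0 fun z hz => ?_
    rw [← fz_at (ι := (zpowers a).subtype) (z := z) (μ := 1 - l.1.1) (x := x) fun y hy e => ?_]
    · simp only [irr_conj_eq, inv_eq_of_mul_eq_one_right x2]
    · obtain ⟨c, e⟩ := isConj_iff.1 e
      have : z * y * (z * y) = 1 := by
        rw [← show _ = z * (y : G) from e, conj_mul, x2]; simp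
      refine x1 hy (Subtype.ext (k_odd j T oa y.2 ?_))
      rcases hz with rfl | rfl
      · simpa using this
      · rwa [← sq, (k_cm j T oa (le y.2)).mul_pow, sq, t2, one_mul, sq] at this
  · have i0 : ((FT.Cen1 t).index : ℂ) ≠ 0 := Nat.cast_ne_zero.2 index_ne_zero_of_finite
    obtain ⟨a1, a2⟩ := sp l (fun χ => χ.1 t ^ 2 / χ.1 1)
      (2 * h * Nat.card (FT.Cen1 t) / (FT.Cen1 t).index) fun z hz => by
        rw [fz_sw]
        refine fz_const l.2 fun y n => ?_
        rw [eq_div_iff i0, pc_eq j.ot j.one, ← k_pc j iv T oa hz y n]; rfl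
    exact ⟨by rw [a1, div_mul_cancel₀ _ i0], a2⟩
  · rw [← cH]
    refine deg_cong (genChar_of_char (char_restrict (ch χ) (zpowers a))) (fun ξ n => ?_)
      (by simpa using deg_eq χ)
    rw [← hk ⟨ξ, n⟩, ← hA]
    simp [fz]

end LN.J
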