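import Cfsg.Agent.LN.JD4
import Cfsg.Agent.LN.JB
import Cfsg.Agent.LN.JK
import Cfsg.Agent.LN.JC1

/-! Groups of Janko-Ree type: the character theoretic contradiction. -/

set_option autoImplicit false
set_option linter.unusedSectionVars false

namespace LN

open Cfsg Subgroup H8 L Z6 CK H2 J
open FT (Cen1)
open scoped ComplexConjugate Classical

variable {G : Type*} [Group G] {t : G} {L : Subgroup G} {q r h : ℕ}

theorem J.fs_gal [Fintype G] (χ : IrrCharacter G) {k : ℕ} (hk : k.Coprime (Nat.card G)) :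
    fsI (galC χ hk) = fsI χ := by
  have e := fs_sum (galC χ hk)
  have e2 := Equiv.sum_comp (powCoprime hk.symm) fun g => χ.1 (g ^ 2)
  rw [fs_sum] at e2
  refine Int.cast_injective (α := ℂ) (mul_left_cancel₀ card_ne_zero_complex (e.symm.trans
    (Eq.trans (Finset.sum_congr rfl fun g _ => ?_) e2)))
  exact congrArg χ.1 (pow_right_comm g 2 k)

theorem J.qc {I : Type*} [Fintype I] {b tv dg : I → ℤ} {f : I → ℂ}
    (e : ∀ χ, f χ = (tv χ : ℂ) ^ 2 / dg χ) :
    ((∑ χ, (b χ : ℚ) * ((tv χ : ℚ) ^ 2 / dg χ) : ℚ) : ℂ) = ∑ χ, (b χ : ℂ) * f χ := by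
  simp [e]

theorem JG.char [Finite G] (j : JG t L q r h) (iv : IV t L h) : False := by
  have := Fintype.ofFinite G
  have l := j.lq
  have h5 := l.h5
  have r3 := l.r3
  obtain ⟨a, u, T, oa⟩ : ∃ a u, Tor L a u ∧ orderOf a = h := by
    have := Fact.mk (Nat.minFac_prime (n := h) (by omega))
    obtain ⟨x, ox⟩ := exists_prime_orderOf_dvd_card' (G := L) h.minFac (by
      rw [l.card]; exact ((Nat.minFac_dvd h).mul_left _).mul_left _)
    obtain ⟨a, u, T, -, oa⟩ := j.typT x.2 (fun e => this.out.ne_one (by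
      rw [← ox, ← orderOf_coe, e, orderOf_one])) (by rw [orderOf_coe, ox]; exact Nat.minFac_dvd h)
    exact ⟨a, u, T, oa⟩
  obtain ⟨Q, D, hQ, hq, hD⟩ : ∃ Q D : ℤ, Q = 2 * D - 1 ∧
      ((q = 4 * r + 1 ∧ Q = q) ∨ (q + 1 = 4 * r ∧ Q = -q)) ∧ (D = h ∨ D = -h) := by
    rcases l.num with e | e
    · exact ⟨q, h, by omega, .inl ⟨e.1, rfl⟩, .inl rfl⟩
    · exact ⟨-q, -h, by omega, .inr ⟨e.1, rfl⟩, .inr rfl⟩
  obtain ⟨ψ, δ, k, hk, kn, inj, mem, p0, d0, sq, off, reg, dg, fa, gal⟩ := blk l j.h4 T oa hQ hq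
    (N := Nat.card G) Nat.card_pos.ne' (card_subgroup_dvd_card L)
  have b : B4 ψ δ := ⟨inj, mem, p0, d0, sq, off, reg⟩
  obtain ⟨c, hc⟩ := ex_c (ψ := ψ) (δ := δ) j
  obtain ⟨tv, htv⟩ := ex_tv j
  obtain ⟨c1, c2, cf', ne, cn, co, cd, cp, cg⟩ := cols j iv T oa
  have cC : Nat.card (Cen1 t) = 8 * (q * r * h) := by rw [cardC j, l.card]; ring
  have q2 : (Q : ℂ) ^ 2 = q ^ 2 := by rcases hq with e | e <;> rw [e.2] <;> push_cast <;> ring
  have d2 : (D : ℂ) ^ 2 = h ^ 2 := by rcases hD with e | e <;> rw [e] <;> push_cast <;> ring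
  have q1 : (Q : ℂ) + 1 = 2 * D := by rw [hQ]; push_cast; ring
  have qr : (Q : ℂ) * (Q - 1) = 4 * q * r := by
    rcases hq with e | e
    · have : (q : ℂ) = 4 * r + 1 := by exact_mod_cast e.1
      rw [e.2]; push_cast; linear_combination q * this
    · have : (q : ℂ) + 1 = 4 * r := by exact_mod_cast e.1
      rw [e.2]; push_cast; linear_combination q * this
  have Q0 : (Q : ℂ) ≠ 0 := Int.cast_ne_zero.2 (by omega)
  have f : ∀ χ : IrrCharacter G, χ.1 t ^ 2 / χ.1 1 = (tv χ : ℂ) ^ 2 / ((deg χ : ℤ) : ℂ) :=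
    fun χ => by rw [htv, deg_eq, Int.cast_natCast]
  have c0 : ∀ χ, c 0 χ = 0 := fun χ => Int.cast_injective (α := ℂ) (by
    rw [hc, b.lam0, fz, classInner_zero_right, Int.cast_zero])
  have co' : ∀ i, i ≠ 0 → c i (triv G) = 1 := fun i hi => Int.cast_injective (α := ℂ) (by
    rw [hc, fz_congr (φ := (triv L).1) fun _ _ => rfl, ci_lam, irr_classInner_self (triv L).2,
      irr_classInner_of_ne (triv L).2 (ψ i).2 fun e => hi (inj (p0 ▸ Subtype.ext e.symm))]
    simp)
  have tk : t ^ k = t := by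
    obtain ⟨m, rfl⟩ := Nat.coprime_two_right.1 (hk.coprime_dvd_right (j.ot ▸ orderOf_dvd_natCard t))
    rw [pow_succ, pow_mul, pow_two, GW.ii j.ot, one_pow, one_mul]
  have d23 : (δ 2 : ℂ) = δ 3 := by
    have e := (gal 1).2.1
    rw [one_pow] at e
    have e2 := dg 2
    have e3 := dg 3
    rw [e] at e2
    exact mul_right_cancel₀ (by rw [deg_eq]; exact Nat.cast_ne_zero.2 (deg_pos _).ne')
      (e2.trans e3.symm)
  have gl : ∀ i i' χ, (∀ y, lam ψ δ i' (y ^ k) = lam ψ δ i y) → c i (galC χ hk) = c i' χ :=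
    fun i i' χ e => Int.cast_injective (α := ℂ) (by
      rw [hc, hc, fz, fz, ← ci_pow (hk.coprime_dvd_right (card_subgroup_dvd_card L)).symm
        (fun y => χ.1 (t * L.subtype y)), funext e]
      congr 1
      ext y
      show χ.1 ((t * y) ^ k) = _
      rw [(tc j y).symm.mul_pow, tk]; rfl)
  have kp : 0 < Q → ∀ i χ, c i (cc χ) = c i χ := fun p i χ => Int.cast_injective (α := ℂ) (by
    rw [hc, hc, fz, fz]
    congr 1
    ext y
    obtain ⟨x, hx, e⟩ := l.real (by omega) y y.2
    rw [cc_apply, ← cf χ (t * L.subtype y) x, mul_inv_rev, GW.iinv j.ot, coe_subtype,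
      (tc j y).inv_left.eq, ← e, ← mul_assoc x, (tc j ⟨x, hx⟩).eq, mul_assoc t, mul_assoc t])
  refine CD.false (o := triv G) (dg := fun χ => deg χ) (tv := tv) (fs := fsI) (b1 := c 1)
    (b2 := c 2) (b3 := c 3) (c1 := c1) (c2 := c2) (τ := fun χ => galC χ hk) (κ := cc) (Q := Q)
    (D := D) (n := (Cen1 t).index) ⟨hQ, ?_, ?_, ?_, ?_, ?_, fun χ => Int.natCast_pos.2 (deg_pos χ),
    ⟨?_, ?_, ?_, co' 1 (by decide), co' 2 (by decide), co' 3 (by decide)⟩,
    fun χ => mod8 j χ (htv χ), fun χ => ?_,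
    ⟨c_gram j b hc (by decide) (by decide), c_gram j b hc (by decide) (by decide),
      c_gram j b hc (by decide) (by decide)⟩,
    ⟨c_gram j b hc (by decide) (by decide), c_gram j b hc (by decide) (by decide),
      c_gram j b hc (by decide) (by decide)⟩,
    ⟨c_deg j hc 1, c_deg j hc 2, c_deg j hc 3⟩, fun χ n => ?_, ?_, ?_, c_fs j hc 1,
    fun χ e o => fs_odd e (by omega), fun χ => ⟨fs_real, fun e => by_contra fun n => e (fsI_eq_zero n)⟩,
    fun χ => ⟨gl 1 1 χ fun y => ?_, gl 2 3 χ fun y => ?_, gl 3 2 χ fun y => ?_,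
      congrArg _ (deg_galC χ hk), fs_gal χ hk⟩, fun p χ => ⟨kp p 1 χ, kp p 2 χ, kp p 3 χ⟩,
    fun p => ?_, ne, cn, co, fun l => ?_, fun l => ?_, fun l => ?_, fun l => ?_, fun χ k e => ?_⟩
  · obtain ⟨m, e⟩ := l.odr
    omega
  · rcases hq with e | e <;> rw [e.2] <;> simp only [abs_neg, Nat.abs_cast] <;> omega
  · rcases l.pr with e | e
    · left
      rcases hq with e' | e' <;> rw [e'.2] <;> simpa using e
    · omega
  · exact Int.natCast_pos.2 (Nat.pos_of_ne_zero index_ne_zero_of_finite)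
  · rintro ⟨e1, e2⟩
    have := Fact.mk Nat.prime_three
    obtain ⟨P⟩ : Nonempty (Sylow 3 G) := inferInstance
    refine j.hy.l7.not8 (ht_pow Nat.prime_three P.isPGroup' (P.pow_dvd_card_of_pow_dvd_card ?_))
    rw [← card_mul_index (Cen1 t), cC, show q = 27 by omega,
      show (Cen1 t).index = 729 * 703 by omega]
    exact ⟨8 * r * h * 3 * 703, by ring⟩
  · have := deg_eq (triv G)
    rw [triv_apply] at this
    exact_mod_cast this.symm
  · have := htv (triv G)
    rw [triv_apply] at this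
    exact_mod_cast this.symm
  · refine fs_odd (Subtype.ext (funext fun g => map_one _)) ?_
    have := deg_eq (triv G)
    rw [triv_apply] at this
    rw [show deg (triv G) = 1 by exact_mod_cast this.symm]
  · have := char_norm_le (ch χ) t
    rw [htv, deg_eq, Complex.norm_intCast, Complex.norm_natCast] at this
    exact_mod_cast this
  · obtain ⟨i, n⟩ : ∃ i, c i χ ≠ 0 := by rcases n with n | n | n <;> exact ⟨_, n⟩
    refine ⟨Int.cast_injective (α := ℂ) ?_, fun ξ => Int.cast_injective (α := ℂ) ?_⟩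
    · have := c_val j b hc n (y := 1) Reg_one
      rw [OneMemClass.coe_one, mul_one, htv] at this
      simp only [this, dg, Fin.sum_univ_four, c0]
      simp
      ring
    · rw [cf', fz_congr (φ := fun y => ∑ i, -(c i χ * δ i) * (ψ i).1
        (1 * inclusion (zpowers_le.2 T.aL) y)), ci_sum]
      · have := fa ξ.1 ξ.2
        simp only [fz] at this
        simp only [neg_mul, mul_assoc, this, Fin.sum_univ_four, c0]
        simp
      intro y _
      have := c_val j b hc n (y := inclusion (zpowers_le.2 T.aL) y) (Nat.coprime_two_right.2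
        (Odd.of_dvd_nat l.odh (by
          rw [orderOf_injective _ (inclusion_injective _), ← oa, ← Nat.card_zpowers a]
          exact orderOf_dvd_natCard y)))
      simp only [one_mul, neg_mul, mul_assoc, Finset.sum_neg_distrib]
      exact this
  · refine Rat.cast_injective (α := ℂ) (mul_right_cancel₀ Q0 ?_)
    have := c_pair j b hc 1 (dg 1)
    rw [Rat.cast_mul, qc f]
    simp only [Matrix.cons_val] at this
    push_cast
    rw [this, q1]
    linear_combination (-4 * (Q - 1) * h ^ 2) * q2 - 4 * Q ^ 2 * (Q - 1) * d2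
  · refine Rat.cast_injective (α := ℂ) ?_
    have := c_pair j b hc 2 (dg 2)
    rw [Rat.cast_mul, Rat.cast_mul, qc f]
    simp only [Matrix.cons_val] at this
    push_cast at this ⊢
    rw [q1]
    linear_combination -this + (-4 * (D + 1) * h ^ 2) * q2 - 4 * Q ^ 2 * (D + 1) * d2
  · simp only [lam, Pi.sub_apply, Pi.smul_apply, triv_apply, gal]
  · simp only [lam, Pi.sub_apply, Pi.smul_apply, triv_apply, gal, d23]
  · simp only [lam, Pi.sub_apply, Pi.smul_apply, triv_apply, gal, d23]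
  · refine funext fun χ => Subtype.ext (funext fun g => (cc_apply χ g).trans (congrArg χ.1 ?_))
    obtain ⟨m, e⟩ := kn (by omega)
    exact inv_eq_of_mul_eq_one_left (by rw [← pow_succ, e, pow_mul, pow_card_eq_one', one_pow])
  · have := cd l 1 (.inl rfl)
    simp only [deg_eq] at this
    exact_mod_cast this
  · have := cd l t (.inr rfl)
    simp only [htv] at this
    exact_mod_cast this
  · refine Rat.cast_injective (α := ℂ) ?_
    rw [Rat.cast_mul, qc f]
    push_cast
    rw [(cp l).1, cC, qr, q1]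
    push_cast
    linear_combination (-16 * q * r) * d2
  · exact Rat.cast_injective (α := ℂ) ((qc f).trans ((cp l).2.trans Rat.cast_zero.symm))
  · rcases hD with e' | e' <;> rw [e']
    · exact cg χ k e
    · exact (neg_dvd.2 (cg χ k e))

end LN
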