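import Cfsg.Agent.LN.Stmt

/-! Groups of Janko-Ree type: the interface between the pieces. -/

set_option autoImplicit false

namespace LN

open Cfsg Subgroup FT H4 H5

variable {G : Type*} [Group G]

/-- `a` generates a torus of `L`, inverted by the involution `u` -/
structure Tor (L : Subgroup G) (a u : G) : Prop where
  aL : a ∈ L
  uL : u ∈ L
  ou : orderOf u = 2
  uA : u ∉ zpowers a
  inv : u * a * u⁻¹ = a⁻¹
  cen : ∀ y ∈ zpowers a, y * y ≠ 1 → ∀ g ∈ L, Commute g y → g ∈ zpowers a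
  ti : ∀ y ∈ zpowers a, y ≠ 1 → ∀ g ∈ L, g * y * g⁻¹ ∈ zpowers a →
    g ∈ zpowers a ∨ u * g ∈ zpowers a

/-- a Sylow subgroup for the characteristic -/
structure Uni (L P : Subgroup G) (q : ℕ) : Prop where
  card : Nat.card P = q
  cen : ∀ x ∈ P, x ≠ 1 → L ⊓ Cen1 x = P

/-- facts about `L = L₂(q)`, `q ≡ ±3 (mod 8)`, `q > 5` a prime or `27` -/
structure LQ (L : Subgroup G) (q r h : ℕ) : Prop where
  sim : IsSimpleGroup L
  card : Nat.card L = 4 * (q * r * h)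
  num : (q = 4 * r + 1 ∧ 2 * h = q + 1) ∨ (q + 1 = 4 * r ∧ q = 2 * h + 1)
  odr : Odd r
  q5 : 5 < q
  pr : q.Prime ∨ q = 27
  typ : ∀ x ∈ L, x ≠ 1 → (∃ P, Uni L P q ∧ x ∈ P) ∨
    ∃ a u, Tor L a u ∧ x ∈ zpowers a ∧ (orderOf a = 2 * r ∨ orderOf a = h)
  cj : ∀ x ∈ L, ∀ y ∈ L, (orderOf x).Prime → orderOf y = orderOf x →
    ∃ l ∈ L, l * x * l⁻¹ ∈ zpowers y
  bor : ∀ P, Uni L P q → ∀ x ∈ P, x ≠ 1 → ∀ v ∈ L, orderOf v = 2 → v * x * v⁻¹ = x⁻¹ →
    q.Prime ∧ ∀ y ∈ L, Odd (orderOf y) → Commute y v → y ∈ Nor P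
  gal : ∀ N : ℕ, N ≠ 0 → Nat.card L ∣ N → ∃ P k, Uni L P q ∧ k.Coprime N ∧
    (q + 1 = 4 * r → N ∣ k + 1) ∧
    ∀ x ∈ P, ∀ x' ∈ P, x ≠ 1 → x' ≠ 1 → ∃ l ∈ L, l * x * l⁻¹ = x' ∨ l * x * l⁻¹ = x' ^ k
  real : q = 4 * r + 1 → ∀ y ∈ L, ∃ l ∈ L, l * y * l⁻¹ = y⁻¹

/-- a simple group of length at most seven with `C(t) = ⟨t⟩ × L₂(q)`, `q > 5` -/
structure JG (t : G) (L : Subgroup G) (q r h : ℕ) : Prop where
  hy : Hy G
  ot : orderOf t = 2
  one : ∀ w : G, orderOf w = 2 → IsConj t w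
  le : L ≤ Cen1 t
  tL : t ∉ L
  dec : ∀ g, Commute g t → g ∈ L ∨ t * g ∈ L
  lq' : ∀ M : Subgroup G, Nonempty (M ≃* L) → LQ M q r h
  syl : ∃ (T : Subgroup G) (ρ : G), W.AS T ⊤ ∧ Nat.card T = 8 ∧ (∀ x ∈ T, x * x = 1) ∧ t ∈ T ∧
    ρ ∈ L ∧ orderOf ρ = 3 ∧ ρ ∈ Nor T ∧ ∀ v ∈ T, ρ * v * ρ⁻¹ = v → v ∈ zpowers t

/-- Ward's condition IV -/
def IV (t : G) (L : Subgroup G) (h : ℕ) : Prop :=
  ∀ y ∈ L, y ≠ 1 → orderOf y ∣ h → ∀ g, Commute g y → Commute g t

/-- two commuting elements of prime order on which the four-group `⟨t, w⟩` acts diagonally -/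
structure Cf (t w y a : G) : Prop where
  ot : orderOf t = 2
  ow : orderOf w = 2
  tw : Commute t w
  ne : t ≠ w
  py : (orderOf y).Prime
  pa : (orderOf a).Prime
  ya : Commute y a
  ty : Commute t y
  ta : t * a * t⁻¹ = a⁻¹
  wa : Commute w a
  wy : w * y * w⁻¹ = y⁻¹

theorem Cf.symm {t w y a : G} (c : Cf t w y a) : Cf w t a y :=
  ⟨c.ow, c.ot, c.tw.symm, c.ne.symm, c.pa, c.py, c.ya.symm, c.wa, c.wy, c.ty, c.ta⟩

variable {t : G} {L : Subgroup G} {q r h : ℕ}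

namespace LQ
variable (l : LQ L q r h)
include l
theorem odh : Odd h := by
  obtain ⟨k, e⟩ := l.odr
  rcases l.num with a | a <;> exact Nat.odd_iff.2 (by omega)
theorem odq : Odd q := by rcases l.num with a | a <;> exact Nat.odd_iff.2 (by omega)
theorem r3 : 3 ≤ r := by
  obtain ⟨k, e⟩ := l.odr
  have := l.q5
  rcases l.num with a | a <;> omega
theorem h5 : 5 ≤ h := by have := l.r3; rcases l.num with a | a <;> omega
theorem hr : h = 2 * r + 1 ∨ h + 1 = 2 * r := by rcases l.num with a | a <;> omega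
theorem crh : r.Coprime h := by
  rcases l.hr with a | a
  · rw [a, mul_comm, add_comm, Nat.coprime_add_mul_left_right]; simp
  · exact Nat.Coprime.coprime_dvd_left (Dvd.intro_left 2 a.symm) (by simp)
theorem cqr : q.Coprime r := by
  rcases l.num with a | a
  · rw [a.1, add_comm, Nat.coprime_add_mul_right_left]; simp
  · exact Nat.Coprime.coprime_dvd_right (Dvd.intro_left 4 a.1.symm) (by simp)
theorem cqh : q.Coprime h := by
  rcases l.num with a | a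
  · exact Nat.Coprime.coprime_dvd_right (Dvd.intro_left 2 a.2) (by simp)
  · rw [a.2, add_comm, Nat.coprime_add_mul_right_left]; simp
end LQ

theorem JG.lq (j : JG t L q r h) : LQ L q r h := j.lq' L ⟨MulEquiv.refl _⟩

theorem JG.conj [Finite G] (j : JG t L q r h) (g : G) : JG (g * t * g⁻¹) (conjS g L) q r h := by
  have m : ∀ {x : G} {H : Subgroup G}, x ∈ H → g * x * g⁻¹ ∈ conjS g H := fun hx => ⟨_, hx, rfl⟩
  have m' : ∀ {x : G} {H : Subgroup G}, x ∈ conjS g H ↔ g⁻¹ * x * g ∈ H := mem_conjS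
  have o : ∀ x, orderOf (g * x * g⁻¹) = orderOf x := fun x =>
    (MulAut.conj g).orderOf_eq x
  obtain ⟨T, ρ, a, c8, sq, tT, ρL, o3, ρN, fx⟩ := j.syl
  refine ⟨j.hy, (o t).trans j.ot, fun w hw => (isConj_iff.2 ⟨g, rfl⟩).symm.trans (j.one w hw),
    ?_, fun e => j.tL (by simpa [mul_assoc] using m'.1 e), fun x hx => ?_,
    fun M ⟨e⟩ => j.lq' M ⟨e.trans (conjSEquiv g L).symm⟩, conjS g T, g * ρ * g⁻¹,
    ⟨?_, ?_⟩, (card_conjS g T).trans c8, ?_, m tT, m ρL, (o ρ).trans o3, ?_, fun v hv e => ?_⟩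
  · rintro _ ⟨x, hx, rfl⟩
    have := mem_centralizer_singleton_iff.1 (j.le hx)
    refine mem_centralizer_singleton_iff.2 ?_
    show g * x * g⁻¹ * _ = _ * (g * x * g⁻¹)
    calc _ = g * (x * t) * g⁻¹ := by group
      _ = _ := by rw [this]; group
  · refine (j.dec (g⁻¹ * x * g) ?_).imp m'.2 fun e => m'.2 (by simpa [mul_assoc] using e)
    show _ = _
    calc _ = g⁻¹ * (x * (g * t * g⁻¹)) * g := by group
      _ = _ := by rw [hx.eq]; group
  · exact a.syl.map_conj (le_normalizer (mem_top g))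
  · have := a.ab
    infer_instance
  · rintro _ ⟨x, hx, rfl⟩
    exact W.csq (sq x hx)
  · rw [← conjS_nor]; exact m ρN
  · have := fx _ (m'.1 hv) (by
      calc _ = g⁻¹ * (g * ρ * g⁻¹ * v * (g * ρ * g⁻¹)⁻¹) * g := by group
        _ = _ := by rw [e])
    rw [show v = g * (g⁻¹ * v * g) * g⁻¹ by group]
    obtain ⟨k, e⟩ := this
    exact ⟨k, by rw [← e]; exact conj_zpow⟩

/-- the centralizer of any involution -/
theorem JG.all [Finite G] (j : JG t L q r h) {w : G} (hw : orderOf w = 2) :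
    ∃ M, JG w M q r h := by
  obtain ⟨g, rfl⟩ := isConj_iff.1 (j.one w hw)
  exact ⟨_, j.conj g⟩

/-- `2`-subgroups are conjugate into `T`, so there is no element of order four -/
theorem JG.h4 [Finite G] (j : JG t L q r h) (x : G) : ¬ 4 ∣ orderOf x := fun e => by
  obtain ⟨T, -, a, -, sq, -⟩ := j.syl
  have o : orderOf (x ^ (orderOf x / 4)) = 4 := by
    rw [orderOf_pow_orderOf_div (orderOf_pos x).ne' e]
  generalize x ^ (orderOf x / 4) = y at o
  obtain ⟨g, -, k⟩ := a.syl.exists_conj_le (Q := zpowers y)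
    (IsPGroup.of_card (n := 2) (by rw [Nat.card_zpowers, o]; rfl)) le_top
  have := sq _ (k ⟨y, mem_zpowers y, rfl⟩)
  have e2 : y ^ 2 = 1 := (MulAut.conj g).injective (by rw [pow_two, map_mul, map_one]; exact this)
  have := orderOf_dvd_of_pow_eq_one e2
  rw [o] at this
  omega

end LN
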