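import Cfsg.Agent.LN.JT2
import Cfsg.Agent.LN.JP1
import Cfsg.Agent.S3278
import Cfsg.Agent.H5.SS8

/-! Elements of odd order centralized by a four-group. -/

set_option autoImplicit false
set_option linter.unusedSectionVars false

namespace LN

open Cfsg Subgroup FT H4 H5 GW LN.E ArithmeticFunction Equiv
open scoped ArithmeticFunction.Omega

theorem kA5 : ∀ x : Perm (Fin 5), x ^ 15 = 1 → x ≠ 1 → (x ^ 3 = 1 ∨ x ^ 5 = 1) ∧
    ∀ g : Perm (Fin 5), g * x = x * g → Perm.sign g = 1 → ∃ k : Fin 5, g = x ^ k.1 := by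
  decide +kernel

theorem cenA5 {x : alternatingGroup (Fin 5)} (o : Odd (orderOf x)) (x1 : x ≠ 1) :
    (x ^ 3 = 1 ∨ x ^ 5 = 1) ∧ ∀ g, Commute g x → g ∈ zpowers x := by
  have d := orderOf_dvd_natCard x
  rw [card_A5, show 60 = 2 ^ 2 * 15 from rfl] at d
  obtain ⟨a, b⟩ := kA5 x (congrArg Subtype.val (orderOf_dvd_iff_pow_eq_one.1
    (((odd_iff_cop.1 o).pow_right 2).dvd_of_dvd_mul_left d))) fun e => x1 (Subtype.ext e)
  refine ⟨a.imp Subtype.ext Subtype.ext, fun g c => ?_⟩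
  obtain ⟨k, e⟩ := b g (congrArg Subtype.val c.eq) g.2
  exact (Subtype.ext e : g = x ^ k.1) ▸ npow_mem_zpowers x _

theorem nsA5 : ¬ Group.IsSolvable (alternatingGroup (Fin 5)) := fun s =>
  absurd (IsSimpleGroup.comm_iff_isSolvable.2 s) (by decide +kernel)

theorem acq {X : Type*} [Group X] [Finite X] {A : Subgroup X} (h : AC A) {w b s y : X} {r : ℕ}
    (f4 : F4 w (b ^ r)) (or : Odd r) (wA : w ∈ A) (bA : b ∈ A) (le : A ≤ V4 w b)
    (os : orderOf s = 2) (oy : Odd (orderOf y)) (y1 : y ≠ 1) (sy : s * y * s⁻¹ = y⁻¹) :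
    pPrimeCore 2 X ≤ A ∧ b * b ∈ pPrimeCore 2 X ∧
      Nonempty (X ⧸ pPrimeCore 2 X ≃* alternatingGroup (Fin 5)) := by
  have oO : Odd (Nat.card (pPrimeCore 2 X)) := odd_iff_cop.2 (coprime_card_pPrimeCore 2 X)
  have vA := pow_mem bA r
  have n : ∀ g, g ∈ Nor (pPrimeCore 2 X) := fun g =>
    mnor fun k hk => Subgroup.Normal.conj_mem inferInstance k hk g
  have OA : pPrimeCore 2 X ≤ A := f4.gen (n _) (n _) oO (inf_le_right.trans (h.ce _ wA f4.ht).le)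
    (inf_le_right.trans (h.ce _ vA f4.ha).le) (inf_le_right.trans (h.ce _ (mul_mem wA vA) f4.hta).le)
  set f := QuotientGroup.mk' (pPrimeCore 2 X) with hf
  have kf : f.ker = pPrimeCore 2 X := QuotientGroup.ker_mk' _
  have oK : Odd (Nat.card f.ker) := by rw [kf]; exact oO
  have k := h.map f (QuotientGroup.mk'_surjective _) oK
  have o : ∀ a, orderOf a = 2 → orderOf (f a) = 2 := fun a ha =>
    L.orderOf_map_eq_two (ii ha) f (not_mem_odd oK ha)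
  have bk : ∀ g, f g ∈ A.map f → g ∈ A := fun g e => (comap_map_eq_self (kf.le.trans OA)).le e
  have wA' := mem_map_of_mem f wA
  obtain ⟨e2, F, _, _, h3, ⟨φ⟩⟩ := k.psl (pPrimeCore_quotient_pPrimeCore 2 X) fun hs => by
    have h0 := H4.fittingIn_ne_bot (H := (⊤ : Subgroup (X ⧸ pPrimeCore 2 X))) inferInstance fun e => ine (o w f4.ht) (mem_bot.1 (e ▸ mem_top _))
    rw [fittingIn_eq_pCoreIn (p := 2) (by rw [pPrimeCoreIn_top, pPrimeCore_quotient_pPrimeCore]),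
      pCoreIn_top] at h0
    have n' : ∀ g, g ∈ Nor (pCore 2 (X ⧸ pPrimeCore 2 X)) := fun g =>
      mnor fun k hk => Subgroup.Normal.conj_mem inferInstance k hk g
    obtain ⟨z, hz, z1, z2, c⟩ := H7.exists_fixed_order_p (isPGroup_pCore 2 _) (two_zp (o w f4.ht))
      (fun g _ => n' g) h0
    have oz := orderOf_eq_prime z2 z1
    have zA : z ∈ A.map f := (k.ce _ wA' (o w f4.ht)).le (c1.2 (c _ (mem_sup_right (mem_zpowers _))).symm)
    have nA : ∀ g, g ∈ Nor (A.map f) := fun g => mem_normalizer_iff_conjS.2 (by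
      rw [← k.ce z zA oz, conj_c1, k.ce z zA oz]
      exact k.ce _ ((k.ce z zA oz).le (c1.2 (c _ (mem_sup_left (cmem (n' g) hz))))) (iconj oz g))
    have sA := two_le_of_odd k.odd (two_zp (o s os)) (fun g _ => nA g) (mem_zpowers _)
    have yA : f y ∈ A.map f := GW.mem_of_sq_mem (oy.of_dvd_nat (orderOf_map_dvd f y)) (by
      have := mul_mem (cmem (nA (f y)) sA) (inv_mem sA)
      rwa [← map_inv, ← map_inv, ← map_mul, ← map_mul, ← map_mul, show y * s * y⁻¹ * s⁻¹ =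
        y * (s * y * s⁻¹)⁻¹ by group, sy, inv_inv, map_mul] at this)
    exact y1 (eq_one_of_inv_cen oy sy (c1.2 (cen.1 (h.comm (bk y yA)) s (bk s sA))))
  have b2 : f b * f b = 1 := e2 _ (mem_map_of_mem f bA)
  refine ⟨OA, kf.le (by rw [MonoidHom.mem_ker, map_mul, b2]), ?_⟩
  have := Matrix.ProjectiveSpecialLinearGroup.rank_two_simple (F := F)
    (by rw [Nat.card_eq_fintype_card]; omega)
  have := φ.isSimpleGroup
  have e : f (b ^ r) = f b := by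
    obtain ⟨m, rfl⟩ := or
    rw [map_pow, pow_succ, pow_mul, sq, b2, one_pow, one_mul]
  have g4 : F4 (f w) (f b) := ⟨o w f4.ht, e ▸ o _ f4.ha, by rw [← e, ← map_mul, ← map_mul, f4.c],
    fun c => ine (o _ f4.hta) (by rw [map_mul, e, c, ii (o w f4.ht)])⟩
  have eV : Cen1 (f w) = V4 (f w) (f b) := by
    rw [k.ce _ wA' (o w f4.ht)]
    refine le_antisymm ((map_mono le).trans ?_) (V_le wA' (mem_map_of_mem f bA))
    rw [V4, Subgroup.map_sup, MonoidHom.map_zpowers, MonoidHom.map_zpowers]; rfl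
  have : Nontrivial (V4 (f w) (f b)) := Finite.one_lt_card_iff_nontrivial.1 (by rw [Dg.card_V g4]; omega)
  exact P.a5_of_normal_four BS.seThm g4.ht eV.ge ⟨Dg.card_V g4,
    (Monoid.exponent_eq_prime_iff Nat.prime_two).2 fun g g1 => (orderOf_coe g).symm.trans
      (g4.inv_V g.2 fun c => g1 (Subtype.ext c))⟩ (by rw [eV, relIndex_self]; omega)
    (eV ▸ le_normalizer)

variable {G : Type*} [Group G] [Finite G] {t w y a b g x s : G} {L : Subgroup G} {q r h : ℕ}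

/-- `b` generates the torus of even order of `C(w)` -/
structure R1 (w b : G) (r : ℕ) : Prop where
  ow : orderOf w = 2
  ob : orderOf b = 2 * r
  wb : Commute w b
  nw : w ∉ zpowers b
  cen : ∀ y ∈ zpowers b, y * y ≠ 1 → ∀ g, Commute w g → Commute g y →
    g ∈ zpowers b ∨ w * g ∈ zpowers b
  nor : ∀ y ∈ zpowers b, y ≠ 1 → ∀ g, Commute w g → Commute g y →
    (g ∈ zpowers b ∨ w * g ∈ zpowers b) ∨ g * b * g⁻¹ = b⁻¹
  ex : ∃ u, u * b * u⁻¹ = b⁻¹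

theorem JG.r1 (j : JG w L q r h) (hx : x ∈ L) (x1 : x ≠ 1) (d : orderOf x ∣ 2 * r) :
    ∃ b, R1 w b r ∧ x ∈ zpowers b := by
  have l := j.lq
  rcases j.typ3 hx x1 with ⟨P, -, -, e⟩ | ⟨b, u, p, m, e, -⟩ | ⟨b, u, -, -, -, e⟩
  · exact absurd (orderOf_eq_one_iff.1 (Nat.eq_one_of_dvd_coprimes
      ((odd_iff_cop.1 l.odq).mul_right l.cqr) e d)) x1
  · have wb := (c1c.1 (j.le p.aL)).symm
    refine ⟨b, ⟨j.ot, e, wb, fun c => j.tL (zpowers_le.2 p.aL c), fun y hy y2 g c1 c2 => ?_,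
      fun y hy y1 g c1 c2 => ?_, u, p.inv⟩, m⟩
    · exact (j.dec g c1.symm).imp (fun m => p.cen y hy y2 g m c2) fun m => p.cen y hy y2 _ m
        ((c1c.1 (j.le (zpowers_le.2 p.aL hy))).symm.mul_left c2)
    have key : ∀ g ∈ L, Commute g y → g ∈ zpowers b ∨ g * b * g⁻¹ = b⁻¹ := fun g m c2 =>
      (p.ti y hy y1 g m (by rwa [c2.eq, mul_inv_cancel_right])).imp_right fun e => by
        have h1 : u * g * b * (u * g)⁻¹ = b := c1'.1 (zpowers_le.2 (GW.c1.2 rfl) e)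
        have h2 := p.inv
        rw [show g * b * g⁻¹ = u⁻¹ * (u * g * b * (u * g)⁻¹) * u by group, h1, ← h2, iinv p.ou]
    rcases j.dec g c1.symm with m | m
    · exact (key g m c2).imp_left Or.inl
    · refine (key _ m ((c1c.1 (j.le (zpowers_le.2 p.aL hy))).symm.mul_left c2)).imp Or.inr fun e => ?_
      rw [← e, c1.eq, show g * w * b * (g * w)⁻¹ = g * (w * b * w⁻¹) * g⁻¹ by group, wb.eq,
        mul_inv_cancel_right]
  · exact absurd (orderOf_eq_one_iff.1 (Nat.eq_one_of_dvd_coprimes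
      ((odd_iff_cop.1 l.odh).symm.mul_left l.crh) d e)) x1

theorem R1.le (k : R1 w b r) (ab : a ∈ zpowers b) (a2 : a * a ≠ 1) : Cen1 w ⊓ Cen1 a ≤ V4 w b :=
  fun g hg => (k.cen a ab a2 g (c1c.1 hg.1).symm (c1c.1 hg.2)).elim (fun e => mem_sup_right e)
    fun e => by simpa using mul_mem (inv_mem (t_V w b)) (mem_sup_right e : _ ∈ V4 w b)

theorem R1.ab (k : R1 w b r) (ab : a ∈ zpowers b) (a2 : a * a ≠ 1) :
    Cen1 w ⊓ Cen1 a ≤ Cen (Cen1 w ⊓ Cen1 a) := by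
  have : V4 w b ≤ Cen (V4 w b) := by
    rw [cen_V]
    exact V_le ⟨c1.2 rfl, c1c.2 k.wb⟩ ⟨c1c.2 k.wb.symm, c1.2 rfl⟩
  exact (k.le ab a2).trans (this.trans (centralizer_le (k.le ab a2)))

theorem JG.lemH (j : JG t L q r h) (k : R1 w b r) (ab : a ∈ zpowers b) (pa : (orderOf a).Prime)
    (oa : Odd (orderOf a)) (os : orderOf s = 2) (sa : Commute s a) (ya : Commute y a)
    (oy : Odd (orderOf y)) (y1 : y ≠ 1) (sy : s * y * s⁻¹ = y⁻¹) :
    orderOf a = r ∧ (∀ g ∈ Nor (zpowers a), Odd (orderOf g) → Commute g a) ∧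
      ∀ x, Commute x a → Odd (orderOf x) → x ∉ zpowers a →
        (x ^ 3 ∈ zpowers a ∨ x ^ 5 ∈ zpowers a) ∧ Cen1 x ⊓ Cen1 a ≤ zpowers x ⊔ zpowers a := by
  have a1 : a ≠ 1 := fun e => pa.ne_one (orderOf_eq_one_iff.2 e)
  have a2 : a * a ≠ 1 := fun e => a1 (eq_one_of_odd_sq oa e)
  have ar : orderOf a ∣ 2 * r := k.ob ▸ orderOf_dvd_of_mem_zpowers ab
  have r3 := j.lq.r3
  have ba : b ∈ Cen1 a := c1s.1 (zpowers_le.2 (c1.2 rfl) ab)
  have wa : w ∈ Cen1 a := c1s.1 (zpowers_le.2 (c1c.2 k.wb.symm) ab)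
  have ov : orderOf (b ^ r) = 2 := by
    rw [orderOf_pow, k.ob, Nat.gcd_mul_left_left, Nat.mul_div_cancel _ (by omega)]
  have f4 : F4 (⟨w, wa⟩ : Cen1 a) (⟨b, ba⟩ ^ r) := ⟨(orderOf_coe _).symm.trans k.ow,
    (orderOf_coe _).symm.trans ov, Subtype.ext (k.wb.pow_right r).eq,
    fun e => k.nw ((show b ^ r = w from congrArg Subtype.val e) ▸ npow_mem_zpowers b r)⟩
  have bA : (⟨b, ba⟩ : Cen1 a) ∈ (Cen1 w).subgroupOf (Cen1 a) := c1c.2 k.wb.symm
  have wA : (⟨w, wa⟩ : Cen1 a) ∈ (Cen1 w).subgroupOf (Cen1 a) := c1.2 rfl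
  have ac : AC ((Cen1 w).subgroupOf (Cen1 a)) := ⟨fun g hg => cen.2 fun g' hg' =>
    Subtype.ext (cen.1 (k.ab ab a2 ⟨hg, g.2⟩) _ ⟨hg', g'.2⟩), ⟨_, wA, _, pow_mem bA r, f4⟩,
    fun i hi oi => by
      have oi' : orderOf i.1 = 2 := (orderOf_coe _).trans oi
      obtain ⟨M, m⟩ := j.all oi'
      obtain ⟨b', k', ab'⟩ := m.r1 (m.memL (c1c.1 i.2) oa) a1 ar
      refine le_antisymm (fun g hg => ?_) fun g hg => c1.2 (Subtype.ext
        (cen.1 (k.ab ab a2 ⟨hg, g.2⟩) _ ⟨hi, i.2⟩))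
      exact c1.2 (cen.1 (k'.ab ab' a2 ⟨c1.2 (congrArg Subtype.val (c1.1 hg)), g.2⟩) w
        ⟨c1s.1 hi, wa⟩)⟩
  obtain ⟨OA, bO, ⟨φ⟩⟩ := acq ac f4 j.lq.odr wA bA (fun g hg => by
      obtain ⟨_, ⟨m, rfl⟩, _, ⟨n, rfl⟩, e⟩ := (H4.mem_sup_of_le_normalizer_left
        (nzp (zpowers_le.2 (c1c.2 k.wb.symm)))).1 (k.le ab a2 ⟨hg, g.2⟩)
      rw [show g = ⟨w, wa⟩ ^ m * ⟨b, ba⟩ ^ n from Subtype.ext e.symm]
      exact mul_mem (zpow_mem (t_V _ _) m) (zpow_mem (a_V _ _) n))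
    (s := ⟨s, c1c.2 sa⟩) (y := ⟨y, c1c.2 ya⟩) ((orderOf_coe _).symm.trans os)
    (by rwa [← orderOf_coe]) (fun e => y1 (congrArg Subtype.val e)) (Subtype.ext sy)
  have eO : Uo a = zpowers (b * b) := le_antisymm (by
      rintro _ ⟨g, hg, rfl⟩
      have o := odd_ord (odd_Oo _) (mem_map_of_mem (Cen1 a).subtype hg)
      obtain ⟨n, e⟩ := odd_of_or k.ow (c1c.1 (OA hg)).symm o
        (k.cen a ab a2 g (c1c.1 (OA hg)).symm (c1c.1 g.2))
      exact GW.mem_of_sq_mem o ⟨n, by rw [← (show b ^ n = _ from e)]; exact (Commute.refl b).mul_zpow n⟩)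
    (zpowers_le.2 ⟨_, bO, rfl⟩)
  have cO : Nat.card (pPrimeCore 2 (Cen1 a)) = r := by
    rw [← card_subtype, show map _ _ = Uo a from rfl, eO, Nat.card_zpowers, ← sq, orderOf_pow, k.ob,
      Nat.gcd_mul_right_left, Nat.mul_div_cancel_left _ two_pos]
  have oO : Odd (Nat.card (pPrimeCore 2 (Cen1 a))) := cO ▸ j.lq.odr
  have ht : Ht (Cen1 a) (Ω r + 4) := (Ht.quot (cO ▸ ht_solv (odd_solv oO)) (ht_four_top _ _
    (fun s => nsA5 (Group.isSolvable_of_surjective (f := φ.toMonoidHom) φ.surjective)) rfl)).of_top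
  let K : Subgroup G :=
    { carrier := {g | g * a * g⁻¹ = a ∨ g * a * g⁻¹ = a⁻¹}
      one_mem' := Or.inl (by simp)
      mul_mem' := fun {c d} hc hd => by
        show _ ∨ _
        rw [show c * d * a * (c * d)⁻¹ = c * (d * a * d⁻¹) * c⁻¹ by group]
        rcases hd with e | e <;> rw [e]
        · exact hc
        · rw [← conj_inv, inv_eq_iff_eq_inv, inv_inj]; exact hc.symm
      inv_mem' := fun {c} hc => hc.imp (fun e => by nth_rw 1 [← e]; group) fun e => by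
        rw [inv_inv, ← inv_inj, inv_inv, ← mul_left_cancel_iff (a := c), ← mul_right_cancel_iff (a := c⁻¹), e]
        group }
  obtain ⟨u, hu⟩ := k.ex
  have lt : Cen1 a < K := lt_of_le_of_ne (fun g hg => Or.inl (c1'.1 hg)) fun e =>
    a1 (eq_one_of_inv_cen oa (inv_zp' hu ab) (c1s.1 (e.ge (Or.inr (inv_zp' hu ab)))))
  have KN : K ≤ Nor (zpowers a) := fun g hg => mnor fun _ ⟨n, e⟩ => by
    rw [← e, ← conj_zpow]
    rcases hg with e | e <;> rw [e]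
    exacts [zpow_mem (mem_zpowers a) n, zpow_mem (inv_mem (mem_zpowers a)) n]
  have := j.hy.sim
  have nt := nor_ne j.hy.hG (solv_zp a) (mt zpowers_eq_bot.1 a1)
  have h6 := j.hy.l7.le6 nt ((ht.succ lt).mono KN)
  have o1 : Ω r = 1 := le_antisymm (by omega) (cardFactors_pos_iff_one_lt.2 (by omega))
  have er : orderOf a = r := (Nat.prime_dvd_prime_iff_eq pa (cardFactors_eq_one_iff_prime.1 o1)).1
    ((odd_iff_cop.1 oa).dvd_of_dvd_mul_left ar)
  rw [o1] at ht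
  have eK := j.hy.l7.max (ht.succ lt) KN nt
  have eA : Uo a = zpowers a := (eq_of_le_of_card_ge (le_Oo (zpowers_le.2 (c1.2 rfl)) (nzp le_rfl)
    (Nat.card_zpowers a ▸ oa)) (by rw [card_subtype, cO, Nat.card_zpowers, er])).symm
  refine ⟨er, fun g hg o => c1c.1 ((eK.le hg).elim c1'.2 fun e => GW.mem_of_sq_mem o (c1'.2 ?_)),
    fun x c o n => ?_⟩
  · rw [show g * g * a * (g * g)⁻¹ = g * (g * a * g⁻¹) * g⁻¹ by group, e, ← conj_inv, e, inv_inv]
  let ψ := φ.toMonoidHom.comp (QuotientGroup.mk' (pPrimeCore 2 (Cen1 a)))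
  have kψ : ∀ g : Cen1 a, ψ g = 1 ↔ g.1 ∈ zpowers a := fun g => by
    rw [← eA]
    exact (map_eq_one_iff _ φ.injective).trans ((QuotientGroup.eq_one_iff g).trans
      (mem_map_iff_mem (Cen1 a).subtype_injective).symm)
  obtain ⟨e1, e2⟩ := cenA5 (x := ψ ⟨x, c1c.2 c⟩)
    (o.of_dvd_nat ((orderOf_map_dvd ψ _).trans (orderOf_coe _).symm.dvd)) fun e => n ((kψ _).1 e)
  refine ⟨e1.imp (fun e => (kψ (⟨x, c1c.2 c⟩ ^ 3)).1 (by rw [map_pow, e]))
    fun e => (kψ (⟨x, c1c.2 c⟩ ^ 5)).1 (by rw [map_pow, e]), fun g hg => ?_⟩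
  obtain ⟨n, e⟩ := e2 (ψ ⟨g, hg.2⟩) (Commute.map (Subtype.ext (c1.1 hg.1)) ψ)
  have := (kψ ((⟨x, c1c.2 c⟩ ^ n)⁻¹ * ⟨g, hg.2⟩)).1 (by
    rw [map_mul, map_inv, map_zpow, ← e, inv_mul_cancel])
  simpa using mul_mem (mem_sup_left (zpow_mem (mem_zpowers x) n)) (mem_sup_right this)

end LN
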