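import Cfsg.Agent.LN.JR1

/-! The order of the even torus is prime to three. -/

set_option autoImplicit false
set_option linter.unusedSectionVars false

namespace LN

open Cfsg Subgroup FT H4 H5 GW LN.E

variable {G : Type*} [Group G] [Finite G] {t w y a b g x s : G} {L : Subgroup G} {q r h : ℕ}

theorem odd_not_inv (og : Odd (orderOf g)) (oa : Odd (orderOf a)) (e : g * a * g⁻¹ = a⁻¹) : a = 1 :=
  eq_one_of_inv_cen oa e (c1s.1 (GW.mem_of_sq_mem og (c1'.2 (by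
    rw [show g * g * a * (g * g)⁻¹ = g * (g * a * g⁻¹) * g⁻¹ by group, e, ← conj_inv, e, inv_inv]))))

omit [Finite G] in
theorem comm_conj (c : Commute x y) (g : G) : Commute (g * x * g⁻¹) (g * y * g⁻¹) :=
  c.map (MulAut.conj g)

theorem pz {l : ℕ} (hl : l.Prime) (e : orderOf x = l) : IsPGroup l (zpowers x) :=
  haveI := Fact.mk hl
  IsPGroup.of_card (n := 1) (by rw [Nat.card_zpowers, e, pow_one])

theorem JG.n3 (j : JG t L q r h) : ¬ 3 ∣ r := fun d => by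
  have := Fact.mk Nat.prime_three
  have r3 := j.lq.r3
  obtain ⟨T, ρ, -, c8, sq, tT, ρL, o3, ρN, fx⟩ := j.syl
  have ab : ∀ x ∈ T, ∀ y ∈ T, Commute x y := fun x hx y hy => comm_of_inv (a := 1)
    (fun n hn => by rw [one_mul, inv_one, mul_one, eq_inv_iff_mul_eq_one, sq n hn]) hx hy
  have o2 : ∀ x ∈ T, x ≠ 1 → orderOf x = 2 := fun x hx => orderOf_eq_prime (by rw [pow_two, sq x hx])
  have tρ : Commute t ρ := (c1c.1 (j.le ρL)).symm
  obtain ⟨w, wT, wL, wt⟩ : ∃ w ∈ T, w ∈ L ∧ w ∉ zpowers t := by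
    obtain ⟨w, hw, n⟩ := SetLike.not_le_iff_exists.1 fun e : T ≤ zpowers t => by
      have := card_le_of_le e
      rw [c8, Nat.card_zpowers, j.ot] at this
      omega
    exact (j.dec w (ab w hw t tT)).elim (fun e => ⟨w, hw, e, n⟩) fun e =>
      ⟨_, mul_mem tT hw, e, fun e => n ((mul_mem_cancel_left (mem_zpowers t)).1 e)⟩
  have ow := o2 w wT fun e => wt (e ▸ one_mem _)
  have ρW : ρ ∈ Nor (T ⊓ L) := minf ρN (le_normalizer ρL)
  have vW := cmem ρW (⟨wT, wL⟩ : w ∈ T ⊓ L)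
  have f : F4 w (ρ * w * ρ⁻¹) := ⟨ow, iconj ow ρ, ab _ wT _ vW.1, fun e => wt (fx w wT e)⟩
  generalize ρ * w * ρ⁻¹ = v at vW f
  have eV : V4 w v = T ⊓ L := eq_of_le_of_card_ge (V_le ⟨wT, wL⟩ vW) (by
    have d := card_dvd_of_le (inf_le_left : T ⊓ L ≤ T)
    have n : Nat.card ↥(T ⊓ L) ≠ 8 := fun e =>
      j.tL ((eq_of_le_of_card_ge inf_le_left (c8.trans e.symm).le).ge tT).2
    rw [c8] at d
    have := Nat.le_of_dvd (by omega) d
    rw [f.card_V]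
    generalize Nat.card ↥(T ⊓ L) = m at *
    interval_cases m <;> omega)
  obtain ⟨g, hg⟩ := isConj_iff.1 (j.one w ow)
  have k : JG w (conjS g L) q r h := hg ▸ j.conj g
  obtain ⟨v, vW, vM, f, eV⟩ : ∃ v ∈ T ⊓ L, v ∈ conjS g L ∧ F4 w v ∧ V4 w v = T ⊓ L :=
    (k.dec v f.comm.symm).elim (fun e => ⟨v, vW, e, f, eV⟩) fun e =>
      ⟨_, mul_mem ⟨wT, wL⟩ vW, e, f.mul, f.V_mul.trans eV⟩
  obtain ⟨b, k', vb⟩ := k.r1 vM (ine f.ha) (f.ha ▸ dvd_mul_right 2 r)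
  have oa : orderOf (b ^ (orderOf b / 3)) = 3 :=
    orderOf_pow_orderOf_div (orderOf_pos b).ne' (k'.ob ▸ d.mul_left 2)
  have hab := npow_mem_zpowers b (orderOf b / 3)
  generalize b ^ (orderOf b / 3) = a at oa hab
  have a1 : a ≠ 1 := fun e => by simp [e] at oa
  have ρ1 : ρ ≠ 1 := fun e => by simp [e] at o3
  have oda : Odd (orderOf a) := oa ▸ by decide
  have odρ : Odd (orderOf ρ) := o3 ▸ by decide
  have cb : ∀ x ∈ zpowers b, ∀ y ∈ zpowers b, Commute x y := fun _ ⟨m, e⟩ _ ⟨n, e'⟩ =>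
    e ▸ e' ▸ (Commute.refl b).zpow_zpow m n
  have wa : Commute w a := (c1c.1 (zpowers_le.2 (c1c.2 k'.wb.symm) hab)).symm
  have aV : a ∈ Cen (T ⊓ L) := by rw [← eV, cen_V]; exact ⟨c1c.2 wa.symm, c1c.2 (cb _ hab _ vb)⟩
  have aV' := cmem (mcen ρW) aV
  rw [← eV, cen_V] at aV'
  have oa' : Odd (orderOf (ρ * a * ρ⁻¹)) := by rwa [oconj]
  have ρa : Commute ρ a := by
    have := odd_of_or ow (c1c.1 aV'.1).symm oa' ((k'.nor v vb (ine f.ha) _ (c1c.1 aV'.1).symm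
      (c1c.1 aV'.2)).resolve_right fun e => a1 (odd_not_inv oa' oda (inv_zp' e hab)))
    obtain ⟨i, hi, e⟩ := (H9.mem_zpowers_iff_lt oa).1 (H7.mem_zpowers_of_isCyclic (p := 3) hab a1
      (oa ▸ pow_orderOf_eq_one a) this (by rw [conj_pow, ← oa, pow_orderOf_eq_one]; simp))
    interval_cases i
    · exact absurd (by simpa using e.symm) a1
    · exact c1c.1 (c1'.2 (by simpa using e.symm))
    · refine absurd (odd_not_inv odρ oda ?_) a1
      rw [← e, eq_inv_iff_mul_eq_one, ← pow_succ, show 2 + 1 = orderOf a from oa.symm, pow_orderOf_eq_one]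
  have ta : t * a * t⁻¹ = a⁻¹ := inv_zp' ((k'.nor v vb (ine f.ha) t (ab _ wT _ tT)
    (ab _ tT _ vW.1)).resolve_left fun e => j.tL (e.elim (fun e => inv_uniq e vb j.ot f.ha ▸ vW.2)
      fun e => (mul_mem_cancel_left wL).1 (inv_uniq e vb (o2 _ (mul_mem wT tT) fun e => wt
        (eq_inv_of_mul_eq_one_left e ▸ inv_mem (mem_zpowers t))) f.ha ▸ vW.2))) hab
  obtain ⟨l, -, e⟩ := k.lq.cj _ ⟨ρ, ρL, rfl⟩ a (k.memL wa oda)
    (((MulAut.conj g).orderOf_eq ρ).trans o3 ▸ Nat.prime_three)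
    (oa.trans (((MulAut.conj g).orderOf_eq ρ).trans o3).symm)
  replace e : l * g * ρ * (l * g)⁻¹ ∈ zpowers a := by simpa [mul_assoc] using e
  generalize l * g = f at e
  have ce : ∀ x, Commute x ρ → Commute (f * x * f⁻¹) a := fun x c => c1c.1 (c1s.1 (zpowers_le.2
    (c1c.2 (comm_conj c.symm f)) (mem_zpowers_of_prime_card' oa Nat.prime_three e
      fun e => ρ1 (by simpa using e))))
  obtain ⟨-, -, H⟩ := j.lemH k' hab (oa ▸ Nat.prime_three) oda (iconj j.ot f) (ce t tρ)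
    (ce a ρa.symm) (by rwa [oconj]) (fun e => a1 (by simpa using e)) (by
      rw [conj_inv (a := a), ← ta]; group)
  have eS : Cen1 ρ ⊓ Cen1 a = zpowers ρ ⊔ zpowers a := le_antisymm (H ρ ρa odρ fun e => ρ1
    (eq_one_of_inv_cen odρ (inv_zp' ta e) (j.le ρL))).2 (sup_le
      (zpowers_le.2 ⟨c1.2 rfl, c1c.2 ρa⟩) (zpowers_le.2 ⟨c1c.2 ρa.symm, c1.2 rfl⟩))
  refine lemE j.h4 Nat.prime_three (by decide) o3 oa ρa j.ot tρ ta ⟨f, e⟩ (isSylowOf_of_maximal le_rfl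
    ?_ fun _ _ _ e => e) (by rw [eS])
  rw [eS]
  exact (pz Nat.prime_three o3).to_sup_of_normal_right' (pz Nat.prime_three oa)
    (nzp (zpowers_le.2 (c1c.2 ρa)))

end LN
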