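import Cfsg.Agent.LN.JR2

/-! No element of the even torus is centralized diagonally by one of the odd torus. -/

set_option autoImplicit false
set_option linter.unusedSectionVars false

namespace LN

open Cfsg Subgroup FT H4 H5 GW LN.E

variable {G : Type*} [Group G] [Finite G] {t w y a b g x s : G} {L : Subgroup G} {q r h : ℕ}

theorem mem_of_cop (c : Commute y a) (hg : g ∈ zpowers y ⊔ zpowers a)
    (o : (orderOf g).Coprime (orderOf y)) : g ∈ zpowers a := by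
  obtain ⟨_, ⟨m, rfl⟩, _, ⟨n, rfl⟩, rfl⟩ :=
    (H4.mem_sup_of_le_normalizer_right (nzp (zpowers_le.2 (c1c.2 c)))).1 hg
  refine H4.mem_of_pow_mem_of_coprime ?_ o
  rw [(c.zpow_zpow m n).mul_pow, ← zpow_natCast (y ^ m), ← zpow_mul, mul_comm, zpow_mul, zpow_natCast,
    pow_orderOf_eq_one, one_zpow, one_mul]
  exact pow_mem (zpow_mem (mem_zpowers a) n) _

theorem JG.cfR (j : JG t L q r h) (c : Cf t w y a) (hy : orderOf y ∣ h) (ha : orderOf a ∣ r) :
    False := by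
  obtain ⟨M, k⟩ := j.all c.ow
  have l := j.lq
  have r3 := l.r3
  have hr := l.hr
  have oa := l.odr.of_dvd_nat ha
  have oy := l.odh.of_dvd_nat hy
  have a1 : a ≠ 1 := fun e => c.pa.ne_one (orderOf_eq_one_iff.2 e)
  have y1 : y ≠ 1 := fun e => c.py.ne_one (orderOf_eq_one_iff.2 e)
  obtain ⟨b, k', ab⟩ := k.r1 (k.memL c.wa oa) a1 (ha.mul_left 2)
  obtain ⟨er, hN, H⟩ := j.lemH k' ab c.pa oa c.ow c.wa c.ya oy y1 c.wy
  have ta : ∀ g ∈ zpowers a, Commute t g → g = 1 := fun g hg e => eq_one_of_inv_cen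
    (oa.of_dvd_nat (orderOf_dvd_of_mem_zpowers hg)) (inv_zp' c.ta hg) (c1c.2 e.symm)
  obtain ⟨h35, hC⟩ := H y c.ya oy fun e => y1 (ta y e c.ty)
  have o35 : orderOf y = 3 ∨ orderOf y = 5 :=
    haveI := Fact.mk Nat.prime_three
    haveI := Fact.mk Nat.prime_five
    h35.imp (fun e => orderOf_eq_prime (ta _ e (c.ty.pow_right 3)) y1)
      fun e => orderOf_eq_prime (ta _ e (c.ty.pow_right 5)) y1
  have pr : r.Prime := er ▸ c.pa
  have := Fact.mk pr
  have cyr : (orderOf y).Coprime r := l.crh.symm.coprime_dvd_left hy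
  obtain ⟨z, k1⟩ := j.tor1 c.ty c.py hy
  have oO := odd_Oo (Cen1 y)
  have aO : a ∈ Uo y := k1.mO c.ya.symm oa
  have my : ∀ g ∈ Uo y, Commute g a → (orderOf g).Coprime r → g ∈ zpowers y := fun g hg e o =>
    mem_of_cop c.ya.symm (sup_comm (zpowers y) _ ▸ hC ⟨Uo_le y hg, c1c.2 e⟩) (er ▸ o)
  have hS : IsSylowOf r (zpowers a) (Uo y) := isSylowOf_of_maximal (zpowers_le.2 aO) (pz pr er)
    fun R hR aR RO => by
      have ma : ∀ g ∈ R, g ∈ Cen1 a → g ∈ zpowers a := fun g hg e => by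
        obtain ⟨n, hn⟩ := (IsPGroup.iff_orderOf.1 hR) ⟨g, hg⟩
        rw [← orderOf_coe] at hn
        exact mem_of_cop c.ya (hC ⟨Uo_le y (RO hg), e⟩) (hn ▸ cyr.symm.pow_left n)
      obtain ⟨u, hu, ou, cu⟩ := H9.exists_central hR fun e => a1 (mem_bot.1 (e ▸ aR (mem_zpowers a)))
      have := mem_zpowers_of_prime_card' er pr (ma u hu (c1.2 (cu a (aR (mem_zpowers a)))))
        fun e => pr.ne_one (by rw [← ou, e, orderOf_one])
      exact fun g hg => ma g hg (c1s.1 (zpowers_le.2 (c1.2 (cu g hg)) this))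
  have n := (npc_iff_sd hS).2 (Burnside_normal_complement hS fun g hg =>
    (cen_zp a).ge (c1c.2 (hN g hg.2 (odd_ord oO hg.1))))
  have zO := k1.Ot.ge (mem_zpowers z)
  have zK := n.mem_of_coprime zO.1 (k1.ob ▸ l.crh.symm)
  have VK : V4 t w ≤ Nor (pPrimeCoreIn r (Uo y)) :=
    (c.ny.trans LR.nO).trans (normalizer_le_normalizer_pPrimeCoreIn r _)
  have aK := le_normalizer_pPrimeCoreIn r _ aO
  have KO := pPrimeCoreIn_le r (Uo y)
  have cK := coprime_card_pPrimeCoreIn r (Uo y)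
  generalize pPrimeCoreIn r (Uo y) = K at zK VK aK KO cK
  have cg : ∀ g ∈ K, (orderOf g).Coprime r := fun g hg => cK.coprime_dvd_left (K.orderOf_dvd_natCard hg)
  have oK := odd_of_le KO oO
  have Kw : K ⊓ Cen1 w = ⊥ := eq_bot_iff.2 fun g hg => mem_bot.2 (eq_one_of_inv_cen (odd_ord oK hg.1)
    (inv_zp' c.wy (my g (KO hg.1) (comm_of_inv (fun _ => k1.iw c) ⟨KO hg.1, hg.2⟩
      ⟨aO, c1c.2 c.wa.symm⟩) (cg g hg.1))) hg.2)
  have ab : ∀ x ∈ K, ∀ y ∈ K, Commute x y := fun _ hx _ hy =>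
    comm_of_inv (fun _ => inv_of_fpf oK c.ow (VK (a_V t w)) Kw) hx hy
  have K1 : ⁅K, zpowers a⁆ ⊓ Cen1 a = ⊥ := cen_zp a ▸ commutator_inf_centralizer_eq_bot
    ⟨⟨fun x y => Subtype.ext (ab _ x.2 _ y.2)⟩⟩ (zpowers_le.2 aK)
    (by rw [Nat.card_zpowers, er]; exact cK.symm)
  have le1 := comm_le_left aK
  have V1 := ncom VK c.na
  have a1' := normalizer_commutator_ge_right K (zpowers a) (mem_zpowers a)
  obtain ⟨x, hx, px⟩ := ex_prime (K := ⁅K, zpowers a⁆ ⊓ Cen1 t) fun e => by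
    have i := fun g => inv_of_fpf (odd_of_le le1 oK) c.ot (V1 (t_V t w)) e (n := g)
    have e0 : ⁅K, zpowers a⁆ = ⊥ := K1 ▸ (inf_eq_left.2 fun g hg => c1s.1 (GW.mem_of_sq_mem oa
      (c1'.2 ?_))).symm
    · have := orderOf_dvd_of_mem_zpowers (my z zO.1 (c1c.1 ((cen_zp a).le
        (commutator_eq_bot_iff_le_centralizer.1 e0 zK))) (cg z zK))
      have n3 := j.n3
      have h5 := l.h5
      rw [k1.ob] at this
      have := Nat.le_of_dvd (orderOf_pos y) this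
      omega
    have e1 := i _ (cmem a1' hg)
    rw [show t * (a * g * a⁻¹) * t⁻¹ = t * a * t⁻¹ * (t * g * t⁻¹) * (t * a * t⁻¹)⁻¹ by group,
      c.ta, i g hg] at e1
    rw [← inv_inj, show (a * a * g * (a * a)⁻¹)⁻¹ = a * (a * g * a⁻¹)⁻¹ * a⁻¹ by
      simp only [mul_inv_rev, inv_inv, mul_assoc], ← e1]; group
  generalize ⁅K, zpowers a⁆ = N at K1 le1 V1 a1' hx
  have xz := k1.Ot.le ⟨KO (le1 hx.1), hx.2⟩
  have lh : orderOf x ∣ h := k1.ob ▸ orderOf_dvd_of_mem_zpowers xz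
  have x1 : x ≠ 1 := fun e => px.ne_one (orderOf_eq_one_iff.2 e)
  have ne : orderOf x ≠ orderOf y := fun e => x1 (mem_bot.1 (K1.le ⟨hx.1, zpowers_le.2 (c1c.2 c.ya)
    (k1.ord (c1c.1 hx.2).symm (c1c.1 (k1.by' xz)) (e ▸ pow_orderOf_eq_one x))⟩))
  have l3 := Nat.le_of_dvd (by omega) (((Nat.coprime_primes px c.py).2 ne).mul_dvd_of_dvd_of_dvd lh hy)
  have := Fact.mk px
  let W : Subgroup G :=
    { carrier := {g | g ∈ N ∧ g ^ orderOf x = 1}
      one_mem' := ⟨one_mem _, one_pow _⟩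
      mul_mem' := fun {u v} hu hv => ⟨mul_mem hu.1 hv.1, by
        rw [(ab _ (le1 hu.1) _ (le1 hv.1)).mul_pow, hu.2, hv.2, one_mul]⟩
      inv_mem' := fun hu => ⟨inv_mem hu.1, by rw [inv_pow, hu.2, inv_one]⟩ }
  have WN : W ≤ N := fun _ e => e.1
  have nW : Nor N ≤ Nor W := fun g hg => mnor fun u hu => ⟨cmem hg hu.1, by
    rw [conj_pow, hu.2]; simp⟩
  have key : ∀ v, orderOf v = 2 → Nat.card ↥(W ⊓ Cen1 v) ∣ orderOf x := fun v ov => by
    by_cases e : W ⊓ Cen1 v = ⊥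
    · rw [e, card_bot]; exact one_dvd _
    obtain ⟨u, hu, pu⟩ := ex_prime e
    have ou : orderOf u = orderOf x :=
      (Nat.prime_dvd_prime_iff_eq pu px).1 (orderOf_dvd_of_pow_eq_one hu.1.2)
    obtain ⟨M, m⟩ := j.all ov
    obtain ⟨_, m'⟩ := m.tor1 (c1c.1 hu.2).symm pu (ou ▸ lh)
    rw [← ou, ← Nat.card_zpowers]
    exact card_dvd_of_le fun g hg => m'.ord (c1c.1 hg.2).symm
      (ab _ (le1 hg.1.1) _ (le1 hu.1.1)) (ou ▸ hg.1.2)
  have Ww : W ⊓ Cen1 w = ⊥ := eq_bot_iff.2 (Kw ▸ inf_le_inf_right _ (WN.trans le1))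
  have bw := T2.bw (odd_of_le (WN.trans le1) oK) c.f4 (nW (V1 (t_V t w))) (nW (V1 (a_V t w)))
  rw [inf_right_comm, Ww, bot_inf_eq, card_bot, one_pow, mul_one, mul_one] at bw
  have d := mul_dvd_mul (key t c.ot) (key _ c.f4.hta)
  have md := H5.SS.card_modEq_cen (pz pr er) (zpowers_le.2 (nW a1'))
  rw [cen_zp, eq_bot_iff.2 (K1 ▸ inf_le_inf_right _ WN : W ⊓ Cen1 a ≤ ⊥), card_bot] at md
  rw [← bw, ← sq] at d
  obtain ⟨i, hi, e⟩ := (Nat.dvd_prime_pow px).1 d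
  have m2 : orderOf x ^ 2 ≡ 1 [MOD r] := by
    rw [e] at md
    interval_cases i
    · exact absurd (mem_bot.1 ((card_eq_one.1 e).le ⟨hx.1, pow_orderOf_eq_one x⟩)) x1
    · simpa using md.pow 2
    · exact md
  have ox := l.odh.of_dvd_nat lh
  have x2 := px.two_le
  have := (Nat.modEq_iff_dvd' (Nat.one_le_pow _ _ px.pos)).1 m2.symm
  rw [show orderOf x ^ 2 - 1 = (orderOf x + 1) * (orderOf x - 1) from Nat.sq_sub_sq _ 1] at this
  have : r ≤ orderOf x + 1 := ((Nat.Prime.dvd_mul pr).1 this).elim (Nat.le_of_dvd (by omega))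
    fun e => (Nat.le_of_dvd (by omega) e).trans (by omega)
  obtain ⟨m, em⟩ := l.odr
  obtain ⟨m', em'⟩ := ox
  rcases o35 with e | e <;> rw [e] at l3 <;> omega

end LN
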