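import Cfsg.Agent.LN.JT1
import Cfsg.Agent.T2.Gwn

/-! Elements of the odd torus. -/

set_option autoImplicit false
set_option linter.unusedSectionVars false

namespace LN

open Cfsg Subgroup FT H4 H5 GW LN.E ArithmeticFunction
open H7 (NPC npc_iff_pPrimeCoreIn)
open scoped ArithmeticFunction.Omega

variable {G : Type*} [Group G] [Finite G] {t w y a b g x : G} {L : Subgroup G} {q r h : ℕ}

/-- an involution which is alone in `C(s) ∩ C(x)` is a Sylow subgroup of `C(x)` -/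
theorem syl1 (h4 : ∀ x : G, ¬ 4 ∣ orderOf x) (ot : orderOf t = 2) (tx : t ∈ Cen1 x)
    (k : ∀ g ∈ Cen1 t ⊓ Cen1 x, orderOf g = 2 → g = t) : IsSylowOf 2 (zpowers t) (Cen1 x) := by
  obtain ⟨T, hT, l⟩ := exists_isSylowOf_ge (two_zp ot) (zpowers_le.2 tx)
  have tT := l (mem_zpowers t)
  obtain ⟨z, hz, z2, z1, c⟩ := H5.Dich.exists_central hT.isPGroup fun e => ine ot (mem_bot.1 (e ▸ tT))
  obtain rfl := k z ⟨c1s.1 (c tT), hT.le hz⟩ (orderOf_eq_prime (pow_two z ▸ z2) z1)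
  refine (le_antisymm (fun g hg => ?_) l : T = zpowers z) ▸ hT
  obtain ⟨n, hn⟩ := (IsPGroup.iff_orderOf.1 hT.isPGroup) ⟨g, hg⟩
  rw [← orderOf_coe] at hn
  obtain rfl | rfl | n2 : n = 0 ∨ n = 1 ∨ 2 ≤ n := by omega
  · exact (orderOf_eq_one_iff.1 hn : g = 1) ▸ one_mem _
  · exact k g ⟨c hg, hT.le hg⟩ hn ▸ mem_zpowers _
  · exact absurd (hn ▸ pow_dvd_pow 2 n2) (h4 g)

theorem mem_Oo {H : Subgroup G} (n : NPC 2 H) (hg : g ∈ H) (o : Odd (orderOf g)) : g ∈ Oo H := by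
  obtain ⟨k, hk⟩ := npc_iff_pPrimeCoreIn.1 n g hg
  exact zpowers_le.2 hk (mem_zpowers_pow_iff.2 (Nat.Coprime.pow_left k (odd_iff_cop.1 o).symm))

theorem odd_of_or {M : Subgroup G} (ot : orderOf t = 2) (c : Commute t g) (o : Odd (orderOf g))
    (e : g ∈ M ∨ t * g ∈ M) : g ∈ M := e.elim id fun e => GW.mem_of_sq_mem o (by
  have := mul_mem e e
  rwa [mul_assoc, ← mul_assoc g, ← c.eq, ← mul_assoc, ← mul_assoc, ii ot, one_mul] at this)

/-- `b` generates the odd torus of `C(t)` through `y` -/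
structure T1 (t y b : G) (h : ℕ) : Prop where
  ot : orderOf t = 2
  py : (orderOf y).Prime
  oh : Odd h
  ob : orderOf b = h
  yb : y ∈ zpowers b
  tb : Commute t b
  cen : ∀ g, Commute t g → Commute g y → g ∈ zpowers b ∨ t * g ∈ zpowers b
  nor : ∀ g, Commute t g → g * y * g⁻¹ ∈ zpowers y → Commute g y ∨ g * b * g⁻¹ = b⁻¹
  npc : NPC 2 (Cen1 y)
  syl : IsSylowOf 2 (zpowers t) (Cen1 y)

theorem JG.memL (j : JG t L q r h) (c : Commute t g) (o : Odd (orderOf g)) : g ∈ L :=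
  odd_of_or j.ot c o (j.dec g c.symm)

theorem JG.tor1 (j : JG t L q r h) (c : Commute t y) (py : (orderOf y).Prime) (hy : orderOf y ∣ h) :
    ∃ b, T1 t y b h := by
  have l := j.lq
  have oy : Odd (orderOf y) := l.odh.of_dvd_nat hy
  have y1 : y ≠ 1 := fun e => py.one_lt.ne (by rw [e, orderOf_one])
  rcases l.typ y (j.memL c oy) y1 with ⟨P, hP, e⟩ | ⟨b, u, k, yb, e | e⟩
  · exact absurd (Nat.eq_one_of_dvd_coprimes l.cqh (hP.card ▸ P.orderOf_dvd_natCard e) hy)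
      py.one_lt.ne'
  · exact absurd (Nat.eq_one_of_dvd_coprimes l.crh ((odd_iff_cop.1 oy).dvd_of_dvd_mul_left
      (e ▸ orderOf_dvd_of_mem_zpowers yb)) hy) py.one_lt.ne'
  have tb := c1c.1 (j.le k.aL)
  have yy : y * y ≠ 1 := fun e => y1 (eq_one_of_odd_sq oy e)
  have cen : ∀ g, Commute t g → Commute g y → g ∈ zpowers b ∨ t * g ∈ zpowers b := fun g c1 c2 =>
    (j.dec g c1.symm).imp (fun m => k.cen y yb yy g m c2) fun m => k.cen y yb yy _ m (c.mul_left c2)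
  have syl := syl1 j.h4 j.ot (c1c.2 c) fun g hg o => by
    have ob : Odd (Nat.card (zpowers b)) := by rw [Nat.card_zpowers, e]; exact l.odh
    have ct := (c1c.1 hg.1).symm
    have := (cen g ct (c1c.1 hg.2)).resolve_left (not_mem_odd ob o)
    have := eq_one_of_odd_sq (odd_ord ob this) (by
      rw [mul_assoc, ← mul_assoc g, ← ct.eq, mul_assoc, ii o, mul_one, ii j.ot])
    rw [← mul_left_cancel_iff (a := t), this, ii j.ot]
  refine ⟨b, j.ot, py, l.odh, e, yb, tb.symm, cen, fun g c1 c2 => ?_, H8.Sq.npc_cyc syl rfl, syl⟩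
  have key : ∀ g ∈ L, g * y * g⁻¹ ∈ zpowers y → Commute g y ∨ g * b * g⁻¹ = b⁻¹ := fun g m c2 =>
    (k.ti y yb y1 g m (zpowers_le.2 yb c2)).imp (fun e => c1c.1 (c1s.1 (zpowers_le.2 (c1s.1
      (zpowers_le.2 (GW.c1.2 rfl) e)) yb))) fun e => by
        have h1 : u * g * b * (u * g)⁻¹ = b := c1'.1 (zpowers_le.2 (GW.c1.2 rfl) e)
        have h2 := k.inv
        rw [show g * b * g⁻¹ = u⁻¹ * (u * g * b * (u * g)⁻¹) * u by group, h1, ← h2, iinv k.ou]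
  rcases j.dec g c1.symm with m | m
  · exact key g m c2
  have e2 : ∀ x, Commute t x → t * g * x * (t * g)⁻¹ = g * x * g⁻¹ := fun x c => by
    rw [c1.eq, show g * t * x * (g * t)⁻¹ = g * (t * x * t⁻¹) * g⁻¹ by group, c1'.1 (c1c.2 c)]
  refine (key _ m (e2 y c ▸ c2)).imp (fun e => c1c.1 (c1'.2 ?_)) fun e => e2 b tb.symm ▸ e
  rw [← e2 y c, c1'.1 (c1c.2 e)]

namespace T1

variable (k : T1 t y b h)
include k

theorem oy : Odd (orderOf y) := k.oh.of_dvd_nat (k.ob ▸ orderOf_dvd_of_mem_zpowers k.yb)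

theorem y1 : y ≠ 1 := fun e => k.py.one_lt.ne (by rw [e, orderOf_one])

theorem by' : zpowers b ≤ Cen1 y := zpowers_le.2 (c1s.1 (zpowers_le.2 (c1.2 rfl) k.yb))

theorem odd (c : Commute t g) (c' : Commute g y) (o : Odd (orderOf g)) : g ∈ zpowers b :=
  odd_of_or k.ot c o (k.cen g c c')

theorem ord (c : Commute t g) (c' : Commute g y) (o : g ^ orderOf y = 1) : g ∈ zpowers y :=
  haveI := Fact.mk k.py
  H7.mem_zpowers_of_isCyclic k.yb k.y1 (pow_orderOf_eq_one y)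
    (k.odd c c' (k.oy.of_dvd_nat (orderOf_dvd_of_pow_eq_one o))) o

theorem mO (c : Commute g y) (o : Odd (orderOf g)) : g ∈ Uo y := mem_Oo k.npc (c1c.2 c) o

theorem Ot : Uo y ⊓ Cen1 t = zpowers b := le_antisymm
  (fun _ hg => k.odd (c1c.1 hg.2).symm (c1c.1 (Uo_le y hg.1)) (odd_ord (odd_Oo _) hg.1))
  (zpowers_le.2 ⟨k.mO (c1c.1 (k.by' (mem_zpowers b))) (k.ob ▸ k.oh), c1c.2 k.tb.symm⟩)

theorem inv (c : Commute t w) (e : w * y * w⁻¹ = y⁻¹) : w * b * w⁻¹ = b⁻¹ :=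
  (k.nor w c (e ▸ inv_mem (mem_zpowers y))).resolve_left fun c =>
    k.y1 (eq_one_of_inv_cen k.oy e (c1c.2 c.symm))

end T1

theorem Cf.f4 (c : Cf t w y a) : F4 t w := ⟨c.ot, c.ow, c.tw, c.ne.symm⟩

theorem Cf.ny (c : Cf t w y a) : V4 t w ≤ Nor (zpowers y) :=
  V_le (mzp (c1c.2 c.ty)) (mnor fun _ e => inv_zp c.wy e ▸ inv_mem e)

theorem Cf.na (c : Cf t w y a) : V4 t w ≤ Nor (zpowers a) := V_symm w t ▸ c.symm.ny

namespace T1

variable (k : T1 t y b h) (c : Cf t w y a)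
include k c

theorem O0 : Uo y ⊓ Cen1 t ⊓ Cen1 w = ⊥ := eq_bot_iff.2 fun _ hg => mem_bot.2
  (eq_one_of_inv_cen (odd_ord (odd_Oo _) hg.1.1) (inv_zp (k.inv c.tw c.wy) (k.Ot ▸ hg.1)) hg.2)

theorem cO : Nat.card (Uo y) =
    h * Nat.card ↥(Uo y ⊓ Cen1 w) * Nat.card ↥(Uo y ⊓ Cen1 (t * w)) := by
  have := T2.bw (odd_Oo (Cen1 y)) c.f4 (LR.nO (c.ny (t_V t w))) (LR.nO (c.ny (a_V t w)))
  rwa [k.O0 c, card_bot, one_pow, mul_one, k.Ot, Nat.card_zpowers, k.ob] at this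

theorem iw (hg : g ∈ Uo y ⊓ Cen1 w) : t * g * t⁻¹ = g⁻¹ :=
  inv_of_fpf (odd_of_le inf_le_left (odd_Oo _)) c.ot (minf (LR.nO (c.ny (t_V t w))) (mc1 (c1c.2 c.tw)))
    (by rw [inf_right_comm, k.O0 c]) hg

theorem itw (hg : g ∈ Uo y ⊓ Cen1 (t * w)) : t * g * t⁻¹ = g⁻¹ :=
  inv_of_fpf (odd_of_le inf_le_left (odd_Oo _)) c.ot (minf (LR.nO (c.ny (t_V t w))) (mc1 c.f4.mul.tH))
    (eq_bot_iff.2 fun _ hx => k.O0 c ▸ ⟨⟨hx.1.1, hx.2⟩, c.f4.cen_a hx.2 hx.1.2⟩) hg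

theorem cK : Nat.card ↥(Uo y ⊔ V4 t w) = Nat.card (Uo y) * 4 := by
  rw [H5.card_sup_of_disjoint (c.ny.trans LR.nO) (disjoint_iff.1
    (disjoint_of_coprime_natCard (c.f4.cop_V (odd_Oo _)).symm)), Dg.card_V c.f4]

omit k in
theorem sK : Group.IsSolvable ↥(Uo y ⊔ V4 t w) :=
  H5.isSolvable_sup (c.ny.trans LR.nO) (odd_solv (odd_Oo _)) c.f4.solv_V

theorem mK (hg : g ∈ Uo y ⊔ V4 t w) (o : Odd (orderOf g)) : g ∈ Uo y := by
  obtain ⟨u, hu, v, hv, rfl⟩ := (H4.mem_sup_of_le_normalizer_left (c.ny.trans LR.nO)).1 hg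
  refine GW.mem_of_sq_mem o ?_
  have vv : v * v = 1 := by
    rcases c.f4.mem_V.1 hv with e | e | e | e <;> simp [e, ii c.ot, ii c.ow, c.f4.sq]
  rw [show u * v * (u * v) = u * (v * u * v⁻¹) * (v * v) by group, vv, mul_one]
  exact mul_mem hu (cmem (LR.nO (c.ny hv)) hu)

end T1

theorem Hy.ne (H : Hy G) {K : Subgroup G} (s : Group.IsSolvable K) : K ≠ ⊤ := by
  rintro rfl
  have := H.sim
  have := Group.isSolvable_of_surjective (f := (⊤ : Subgroup G).subtype) fun g => ⟨⟨g, trivial⟩, rfl⟩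
  exact H.hG ⟨⟨IsSimpleGroup.comm_iff_isSolvable.2 this⟩⟩

end LN
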