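import Cfsg.Agent.LN.JT2
import Cfsg.Agent.H5.SS8

/-! The configuration of two elements of the odd tori. -/

set_option autoImplicit false
set_option linter.unusedSectionVars false

namespace LN

open Cfsg Subgroup FT H4 H5 GW LN.E ArithmeticFunction
open H7 (NPC npc_iff_pPrimeCoreIn)
open scoped ArithmeticFunction.Omega

variable {G : Type*} [Group G] [Finite G] {t w y a b b' d g x : G} {L M : Subgroup G} {q r h : ℕ}

/-- the central elements of order dividing `l` -/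
def Zl (S : Subgroup G) (l : ℕ) : Subgroup G where
  carrier := {x | x ∈ S ∧ x ∈ Cen S ∧ x ^ l = 1}
  one_mem' := ⟨one_mem _, one_mem _, one_pow _⟩
  mul_mem' := fun {a b} ha hb => ⟨mul_mem ha.1 hb.1, mul_mem ha.2.1 hb.2.1, by
    rw [Commute.mul_pow (cen.1 ha.2.1 b hb.1), ha.2.2, hb.2.2, one_mul]⟩
  inv_mem' := fun {a} ha => ⟨inv_mem ha.1, inv_mem ha.2.1, by rw [inv_pow, ha.2.2, inv_one]⟩

theorem nZl (S : Subgroup G) (l : ℕ) : Nor S ≤ Nor (Zl S l) := fun g hg => mnor fun x hx =>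
  ⟨cmem hg hx.1, cmem (mcen hg) hx.2.1, by rw [conj_pow, hx.2.2, mul_one, mul_inv_cancel]⟩

theorem nc1' (hg : g ∈ Nor (zpowers y)) : g ∈ Nor (Cen1 y) := cen_zp y ▸ mcen hg

theorem JG.fuse (j : JG t L q r h) (c : Cf t w y a) (oy : Odd (orderOf y))
    (e : orderOf a = orderOf y) : ∃ g, g * t * g⁻¹ = w ∧ g * y * g⁻¹ ∈ zpowers a := by
  obtain ⟨g, rfl⟩ := isConj_iff.1 (j.one w c.ow)
  have o : orderOf (g⁻¹ * a * g) = orderOf y := by simpa [e] using oconj g⁻¹ a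
  obtain ⟨l, hl, i, hi⟩ := j.lq.cj y (j.memL c.ty oy) (g⁻¹ * a * g) (j.memL (by
    have := c.wa.eq
    change _ = _
    rw [show g⁻¹ * a * g * t = g⁻¹ * (a * (g * t * g⁻¹)) * g by group, ← this]; group) (o ▸ oy)) c.py o
  refine ⟨g * l, ?_, i, ?_⟩
  · rw [show g * l * t * (g * l)⁻¹ = g * (l * t * l⁻¹) * g⁻¹ by group, c1'.1 (j.le hl)]
  · rw [show g * l * y * (g * l)⁻¹ = g * (l * y * l⁻¹) * g⁻¹ by group, ← hi, ← conj_zpow]
    simp [mul_assoc]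

/-- three independent elements -/
structure C3 (t w y a d : G) : Prop extends Cf t w y a where
  ea : orderOf a = orderOf y
  ed : orderOf d = orderOf y
  dy : Commute d y
  da : Commute d a
  dtw : Commute d (t * w)

theorem C3.symm (c : C3 t w y a d) : C3 w t a y d :=
  ⟨c.toCf.symm, c.ea.symm, c.ed.trans c.ea.symm, c.da, c.dy, c.tw.eq ▸ c.dtw⟩

theorem JG.c3 (j : JG t L q r h) (c : Cf t w y a) (hy : orderOf y ∣ h) (e : orderOf a = orderOf y) :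
    ∃ d, C3 t w y a d := by
  have := Fact.mk c.py
  obtain ⟨b, k⟩ := j.tor1 c.ty c.py hy
  obtain ⟨M, j'⟩ := j.all c.ow
  obtain ⟨b', k'⟩ := j'.tor1 c.wa c.pa (e ▸ hy)
  have oC : Odd (Nat.card ↥(Cen1 y ⊓ Cen1 a)) := by
    by_contra o
    obtain ⟨s, hs, os⟩ := ex_inv o
    obtain ⟨N, i⟩ := j.all os
    obtain ⟨f, m⟩ := i.tor1 (c1c.1 hs.1) c.py hy
    exact k'.y1 (eq_one_of_inv_cen k'.oy c.ta (zpowers_le.2 (c1c.2 c.ty.symm)
      (m.ord (c1c.1 hs.2) c.ya.symm (e ▸ pow_orderOf_eq_one a))))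
  obtain ⟨S, hS, nS⟩ := exists_invariant_isSylowOf (orderOf y) (A := V4 t w) (fun g hg =>
    minf (nc1' (c.ny hg)) (nc1' (c.na hg))) (c.f4.cop_V oC) (Or.inl c.f4.solv_V)
  by_contra! nd
  have m : ∀ x ∈ Cen1 y ⊓ Cen1 a, orderOf x = orderOf y → S ≤ Cen1 x → x ∈ Zl S (orderOf y) :=
    fun x hx o l => ⟨hS.le_of_le_normalizer (.of_card (n := 1) (by rw [Nat.card_zpowers, o, pow_one]))
      (zpowers_le.2 hx) (nzp l) (mem_zpowers x), cen_iff_le.2 l, o ▸ pow_orderOf_eq_one x⟩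
  have e1 : Zl S (orderOf y) = zpowers y ⊔ zpowers a := le_antisymm
    (c.f4.gen (nZl _ _ (nS (t_V t w))) (nZl _ _ (nS (a_V t w))) (odd_of_le (fun _ h => hS.le h.1) oC)
      (fun x hx => mem_sup_left (k.ord (c1c.1 hx.2).symm (c1c.1 (hS.le hx.1.1).1) hx.1.2.2))
      (fun x hx => mem_sup_right (k'.ord (c1c.1 hx.2).symm (c1c.1 (hS.le hx.1.1).2) (e ▸ hx.1.2.2)))
      fun x hx => by
        by_contra x1
        exact nd x ⟨c, e, orderOf_eq_prime hx.1.2.2 fun e => x1 (e ▸ one_mem _),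
          c1c.1 (hS.le hx.1.1).1, c1c.1 (hS.le hx.1.1).2, c1c.1 hx.2⟩)
    (sup_le (zpowers_le.2 (m y ⟨c1.2 rfl, c1c.2 c.ya⟩ rfl (hS.le.trans inf_le_left)))
      (zpowers_le.2 (m a ⟨c1c.2 c.ya.symm, c1.2 rfl⟩ e (hS.le.trans inf_le_right))))
  exact lemE j.h4 c.py (fun e => k.oy.not_two_dvd_nat e.symm.dvd) rfl e c.ya c.ot c.ty c.ta
    ((j.fuse c k.oy e).imp fun _ e => e.2) hS (e1 ▸ nZl _ _)

namespace T1

variable (k : T1 t y b h) (c : C3 t w y a d)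
include k c

theorem aO : a ∈ Uo y ⊓ Cen1 w := ⟨k.mO c.ya.symm (c.ea ▸ k.oy), c1c.2 c.wa.symm⟩

theorem dO : d ∈ Uo y ⊓ Cen1 (t * w) := ⟨k.mO c.dy (c.ed ▸ k.oy), c1c.2 c.dtw⟩

theorem td : t * d * t⁻¹ = d⁻¹ := k.itw c.toCf (k.dO c)

theorem nd : V4 t w ≤ Nor (zpowers d) := c.f4.V_mul ▸
  V_le (mnor fun _ e => inv_zp (k.td c) e ▸ inv_mem e) (mzp (c1c.2 c.dtw.symm))

theorem DO : zpowers a ⊔ zpowers d ≤ Uo y :=
  sup_le (zpowers_le.2 (k.aO c).1) (zpowers_le.2 (k.dO c).1)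

theorem iD (hg : g ∈ zpowers a ⊔ zpowers d) : t * g * t⁻¹ = g⁻¹ := by
  obtain ⟨u, hu, v, hv, rfl⟩ :=
    (H4.mem_sup_of_le_normalizer_right (nzp (zpowers_le.2 (c1c.2 c.da.symm)))).1 hg
  rw [show t * (u * v) * t⁻¹ = t * u * t⁻¹ * (t * v * t⁻¹) by group, inv_zp c.ta hu,
    inv_zp (k.td c) hv, ← mul_inv_rev, c1.1 (zpowers_le.2 (c1s.1 (zpowers_le.2 (c1c.2 c.da) hv)) hu)]

theorem D0 (hg : g ∈ zpowers a ⊔ zpowers d) (e : g ∈ Cen1 t) : g = 1 :=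
  eq_one_of_inv_cen (odd_ord (odd_Oo _) (k.DO c hg)) (k.iD c hg) e

theorem cD : Nat.card ↥(zpowers a ⊔ zpowers d) = orderOf y * orderOf y := by
  rw [H5.card_sup_of_disjoint (nzp (zpowers_le.2 (c1c.2 c.da))) (eq_bot_iff.2 fun x hx =>
    k.D0 c (mem_sup_left hx.1) (c.f4.cen_t (zpowers_le.2 (k.aO c).2 hx.1)
      (zpowers_le.2 (k.dO c).2 hx.2))), Nat.card_zpowers, Nat.card_zpowers, c.ea, c.ed]

theorem nZ : V4 t w ≤ Nor (zpowers y ⊔ zpowers a ⊔ zpowers d) := nsup (nsup c.ny c.na) (k.nd c)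

theorem np (H : Hy G) (hp : ¬ h.Prime) : Uo y ⊓ Cen1 w = zpowers a ∧
    Nor (zpowers y ⊔ zpowers a ⊔ zpowers d) = Uo y ⊔ V4 t w := by
  have := H.sim
  have h0 : h ≠ 0 := k.ob ▸ (orderOf_pos b).ne'
  have o := H.l7.omega (H.ne (sK c.toCf)) (sK c.toCf) dvd_rfl
  have o' : Ω (Nat.card ↥(Uo y ⊔ V4 t w)) = Ω h + Ω (Nat.card ↥(Uo y ⊓ Cen1 w)) +
      Ω (Nat.card ↥(Uo y ⊓ Cen1 (t * w))) + 2 := by
    rw [k.cK c.toCf, k.cO c.toCf, cardFactors_mul (mul_ne_zero (mul_ne_zero h0 Nat.card_pos.ne')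
      Nat.card_pos.ne') four_ne_zero, cardFactors_mul (mul_ne_zero h0 Nat.card_pos.ne')
      Nat.card_pos.ne', cardFactors_mul h0 Nat.card_pos.ne', show Ω 4 = 2 from om2 2]
  have h2 : 2 ≤ Ω h := by
    by_contra! e
    rcases omega_one h0 (Nat.le_of_lt_succ e) with e | e
    · exact k.py.not_dvd_one (e ▸ k.ob ▸ orderOf_dvd_of_mem_zpowers k.yb)
    · exact hp e
  have lb : ∀ {K : Subgroup G} {x : G}, x ∈ K → orderOf x = orderOf y → 1 ≤ Ω (Nat.card K) :=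
    fun hx e => cardFactors_apply_prime k.py ▸ omega_le (e ▸ Subgroup.orderOf_dvd_natCard _ hx)
      Nat.card_pos.ne'
  have eq : ∀ {K : Subgroup G} {x : G}, x ∈ K → orderOf x = orderOf y → Ω (Nat.card K) = 1 →
      K = zpowers x := fun hx e o => (zpowers_eq_of_prime_card (cardFactors_eq_one_iff_prime.1 o) hx
    fun c => k.py.one_lt.ne (by rw [← e, c, orderOf_one])).symm
  have l1 := lb (k.aO c) c.ea
  have l2 := lb (k.dO c) c.ed
  have e1 := eq (k.aO c) c.ea (by omega)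
  have e2 := eq (k.dO c) c.ed (by omega)
  have bO : zpowers b ≤ Uo y ⊓ Cen1 t := k.Ot.ge
  let f : zpowers b × ↥(zpowers a ⊔ zpowers d) → Uo y := fun p =>
    ⟨p.1 * p.2, mul_mem (bO p.1.2).1 (k.DO c p.2.2)⟩
  have fb : Function.Bijective f := (Nat.bijective_iff_injective_and_card f).2 ⟨fun p p' e => by
    have e' : (p'.1 : G)⁻¹ * p.1 = p'.2 * (p.2 : G)⁻¹ := by
      rw [inv_mul_eq_iff_eq_mul, ← mul_assoc, eq_mul_inv_iff_mul_eq]; exact congrArg Subtype.val e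
    have := k.D0 c (mul_mem p'.2.2 (inv_mem p.2.2)) (e' ▸ (bO (mul_mem (inv_mem p'.1.2) p.1.2)).2)
    exact Prod.ext (Subtype.ext (inv_mul_eq_one.1 (e'.trans this)).symm)
      (Subtype.ext (mul_inv_eq_one.1 this).symm), by
    rw [Nat.card_prod, k.cD c, k.cO c.toCf, e1, e2, Nat.card_zpowers, Nat.card_zpowers,
      Nat.card_zpowers, k.ob, c.ea, c.ed, mul_assoc]⟩
  have bD : b ∈ Nor (zpowers a ⊔ zpowers d) := mnor fun x hx => by
    obtain ⟨⟨⟨u, hu⟩, v, hv⟩, e⟩ := fb.2 ⟨_, cmem (le_normalizer (bO (mem_zpowers b)).1) (k.DO c hx)⟩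
    have e : u * v = b * x * b⁻¹ := congrArg Subtype.val e
    have i1 : t * (u * v) * t⁻¹ = (u * v)⁻¹ := by
      rw [e, conj_inv, ← k.iD c hx, show t * (b * x * b⁻¹) * t⁻¹ = t * b * x * (t * b)⁻¹ by group,
        k.tb.eq]; group
    rw [show t * (u * v) * t⁻¹ = t * u * t⁻¹ * (t * v * t⁻¹) by group, c1'.1 (c1s.1 (bO hu).2),
      k.iD c hv, mul_inv_rev] at i1
    have i2 : v * u * v⁻¹ = u⁻¹ := by rw [mul_assoc, i1, mul_inv_cancel_left]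
    have i3 : v ∈ Cen1 u := GW.mem_of_sq_mem (odd_ord (odd_Oo _) (k.DO c hv)) (c1'.2 (by
      rw [show v * v * u * (v * v)⁻¹ = v * (v * u * v⁻¹) * v⁻¹ by group, i2, ← conj_inv, i2, inv_inv]))
    rw [← e, eq_one_of_inv_cen (odd_ord (odd_Oo _) (bO hu).1) i2 (c1s.1 i3), one_mul]
    exact hv
  have OZ : Uo y ≤ Nor (zpowers y ⊔ zpowers a ⊔ zpowers d) :=
    c.f4.gen (LR.nO (c.ny (t_V t w))) (LR.nO (c.ny (a_V t w))) (odd_Oo _)
      (k.Ot.le.trans (zpowers_le.2 (by rw [sup_assoc]; exact msup (mzp (k.by' (mem_zpowers b))) bD)))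
      (e1.le.trans (lnor (le_sup_right.trans le_sup_left))) (e2.le.trans (lnor le_sup_right))
  refine ⟨e1, H.l7.max ((ht_solv (sK c.toCf)).le (by omega)) (sup_le OZ (k.nZ c)) (nor_ne H.hG
    (odd_solv (odd_of_le ((sup_assoc _ _ _).le.trans (sup_le (zpowers_le.2 (bO k.yb).1) (k.DO c)))
      (odd_Oo _))) fun e => k.y1 (mem_bot.1 (e ▸ mem_sup_left (mem_sup_left (mem_zpowers y)))))⟩

end T1

theorem comm_of_inv {K : Subgroup G} (h : ∀ g ∈ K, t * g * t⁻¹ = g⁻¹) (hg : g ∈ K) (hx : x ∈ K) :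
    Commute g x := by
  have := h _ (mul_mem (inv_mem hg) (inv_mem hx))
  rwa [show t * (g⁻¹ * x⁻¹) * t⁻¹ = t * g⁻¹ * t⁻¹ * (t * x⁻¹ * t⁻¹) by group, h _ (inv_mem hg),
    h _ (inv_mem hx), mul_inv_rev, inv_inv, inv_inv] at this

theorem T1.zp (k : T1 t y b h) (e : orderOf y = h) : zpowers b = zpowers y :=
  (eq_of_le_of_card_ge (zpowers_le.2 k.yb) (by rw [Nat.card_zpowers, Nat.card_zpowers, k.ob, e])).symm

theorem JG.OZ (j : JG t L q r h) (c : C3 t w y a d) (e : orderOf y = h) :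
    Uo y = zpowers y ⊔ zpowers a ⊔ zpowers d := by
  obtain ⟨b, k⟩ := j.tor1 c.ty c.py e.dvd
  obtain ⟨M, j'⟩ := j.all c.ow
  obtain ⟨b', k'⟩ := j'.tor1 c.wa c.pa (c.ea.trans e).dvd
  obtain ⟨N, i⟩ := j.all c.f4.hta
  obtain ⟨f, m⟩ := i.tor1 c.dtw.symm (c.ed ▸ c.py) (c.ed.trans e).dvd
  refine le_antisymm (c.f4.gen (LR.nO (c.ny (t_V t w))) (LR.nO (c.ny (a_V t w))) (odd_Oo _)
    ((k.Ot.trans (k.zp e)).le.trans (le_sup_left.trans le_sup_left)) (fun x hx => mem_sup_left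
      (mem_sup_right ?_)) fun x hx => mem_sup_right ?_) ((sup_assoc _ _ _).le.trans
        (sup_le (zpowers_le.2 (k.Ot.ge k.yb).1) (k.DO c)))
  · exact k'.zp (c.ea.trans e) ▸ k'.odd (c1c.1 hx.2).symm (comm_of_inv (fun _ => k.iw c.toCf) hx (k.aO c))
      (odd_ord (odd_Oo _) hx.1)
  · exact m.zp (c.ed.trans e) ▸ m.odd (c1c.1 hx.2).symm (comm_of_inv (fun _ => k.itw c.toCf) hx (k.dO c))
      (odd_ord (odd_Oo _) hx.1)

theorem JG.rot (j : JG t L q r h) (c : C3 t w y a d) (e : orderOf y = h) :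
    ∃ g ∈ Nor (Uo y), Rot t w g := by
  obtain ⟨M, j'⟩ := j.all c.ow
  obtain ⟨b', k'⟩ := j'.tor1 c.wa c.pa (c.ea.trans e).dvd
  obtain ⟨g, g1, g2⟩ := j.fuse c.toCf (c.ea ▸ k'.oy) c.ea
  have y1 : y ≠ 1 := fun e => c.py.one_lt.ne (by rw [e, orderOf_one])
  have ez : zpowers (g * y * g⁻¹) = zpowers a := le_antisymm (zpowers_le.2 g2) (zpowers_le.2
    (mem_zpowers_of_prime_card' rfl c.pa g2 fun e => y1 (by simpa using e)))
  have eO : Uo a = Uo y := by rw [j'.OZ c.symm (c.ea.trans e), j.OZ c e, sup_comm (zpowers a)]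
  have gN : g ∈ Nor (Uo y) := mem_normalizer_of_conjS_le (by
    rw [conj_Uo, Uo, ← cen_zp, ez, cen_zp]; exact eO.le)
  have i1 : g * w * g⁻¹ * a * (g * w * g⁻¹)⁻¹ = a⁻¹ := inv_zp (x := g * y * g⁻¹) (by
    rw [show (g * y * g⁻¹)⁻¹ = g * y⁻¹ * g⁻¹ by group, ← c.wy]; group) (ez ▸ mem_zpowers a)
  have cw : Commute w (g * w * g⁻¹) := by
    have := c.tw.eq
    change _ = _
    nth_rw 1 4 [← g1]
    rw [show g * t * g⁻¹ * (g * w * g⁻¹) = g * (t * w) * g⁻¹ by group, this]; group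
  obtain ⟨v, u, hu, vu, hv, e1⟩ : ∃ v, ∃ u ∈ zpowers a, v * u * v⁻¹ = u⁻¹ ∧ (v = t ∨ v = t * w) ∧
      g * w * g⁻¹ = u * v := by
    have wz : ∀ u ∈ zpowers a, Commute w u := fun u hu => c1c.1 (c1s.1 (zpowers_le.2 (c1c.2 c.wa.symm) hu))
    rcases k'.cen (g * w * g⁻¹ * t) (cw.mul_right c.tw.symm) (c1c.1 (c1'.2 (by
      rw [show g * w * g⁻¹ * t * a * (g * w * g⁻¹ * t)⁻¹ = g * w * g⁻¹ * (t * a * t⁻¹) * (g * w * g⁻¹)⁻¹
        by group, c.ta, ← conj_inv, i1, inv_inv]))) with m | m <;> rw [k'.zp (c.ea.trans e)] at m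
    · exact ⟨t, _, m, inv_zp c.ta m, Or.inl rfl, by rw [mul_assoc _ t, ii c.ot, mul_one]⟩
    · refine ⟨t * w, _, m, ?_, Or.inr rfl, ?_⟩
      · rw [← inv_zp c.ta m, ← c1'.1 (c1c.2 (wz _ m)), c1'.1 (c1c.2 (wz _ m)), mul_inv_rev,
          mul_assoc t, (wz _ m).eq]; group
      · rw [c.tw.eq, ← mul_assoc, ← (wz _ m).eq, ← mul_assoc, ii c.ow, one_mul, mul_assoc _ t, ii c.ot,
          mul_one]
  obtain ⟨n, hn⟩ := exists_sqrt (x := u⁻¹) (by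
    simpa using odd_ord (Nat.card_zpowers a ▸ k'.oy) hu)
  have ma := pow_mem (inv_mem hu) n
  generalize hm : u⁻¹ ^ n = m at hn ma
  have vm : v * m * v⁻¹ = m⁻¹ := inv_zp vu (hm ▸ pow_mem (inv_mem (mem_zpowers u)) n)
  have um : Commute m u := hm ▸ ((Commute.refl u).inv_left.pow_left n)
  have r1 : m * g * t * (m * g)⁻¹ = w := by
    rw [show m * g * t * (m * g)⁻¹ = m * (g * t * g⁻¹) * m⁻¹ by group, g1,
      c1'.1 (zpowers_le.2 (c1c.2 c.wa.symm) ma)]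
  have r2 : m * g * w * (m * g)⁻¹ = v := by
    have : v * m⁻¹ = m * v := by
      rw [show v * m⁻¹ = (v * m * v⁻¹)⁻¹ * v by group, vm, inv_inv]
    rw [show m * g * w * (m * g)⁻¹ = m * (g * w * g⁻¹) * m⁻¹ by group, e1,
      show m * (u * v) * m⁻¹ = m * u * (v * m⁻¹) by group, this, um.eq,
      show u * m * (m * v) = u * (m * m) * v by group, hn, mul_inv_cancel, one_mul]
  have mN : m * g ∈ Nor (Uo y) := mul_mem (le_normalizer (eO ▸ zpowers_le.2 (k'.Ot.ge k'.yb).1 ma)) gN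
  rcases hv with rfl | rfl
  swap
  · exact ⟨_, mN, r1, r2⟩
  generalize m * g = f at r1 r2
  obtain ⟨n, on, n1, n2⟩ := ex_odd j.h4 f (f * v)
  have c2 : ∀ x z, f * x * f⁻¹ = z → f * z * f⁻¹ = x → Commute x (f ^ 2) := fun x z e e' =>
    (c1c.1 (c1'.2 (by rw [show f ^ 2 * x * (f ^ 2)⁻¹ = f * (f * x * f⁻¹) * f⁻¹ by
      rw [pow_two]; group, e, e']))).symm
  rw [show (f * v) ^ 2 = f * v * f⁻¹ * f ^ 2 * v by rw [pow_two, pow_two]; group, r1, mul_assoc,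
    ← (c2 _ _ r1 r2).eq, ← mul_assoc, ((c2 _ _ r2 r1).mul_left (c2 _ _ r1 r2)).mul_pow, n1, mul_one] at n2
  have := orderOf_dvd_of_pow_eq_one n2
  rw [c.f4.symm.hta] at this
  exact absurd this on.not_two_dvd_nat

end LN
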