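import Cfsg.Agent.LN.JT3

/-! The configuration of two elements of the odd tori is impossible. -/

set_option autoImplicit false
set_option linter.unusedSectionVars false

namespace LN

open Cfsg Subgroup FT H4 H5 GW LN.E ArithmeticFunction
open scoped ArithmeticFunction.Omega

variable {G : Type*} [Group G] [Finite G] {t w y a d g x : G} {L : Subgroup G} {q r h : ℕ}

theorem JG.p3 (j : JG t L 27 7 13) (c : Commute t x) (o : orderOf x = 3) :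
    ∃ P : Subgroup G, Nat.card P = 27 ∧ L ⊓ Cen1 x = P := by
  have x1 : x ≠ 1 := fun e => by simp [e] at o
  rcases j.lq.typ x (j.memL c (o ▸ by decide)) x1 with ⟨P, hP, e⟩ | ⟨b, u, -, m, e | e⟩
  · exact ⟨P, hP.card, hP.cen x e x1⟩
  all_goals
    have := orderOf_dvd_of_mem_zpowers m
    rw [o, e] at this
    omega

theorem rot3 (h : Rot t w g) (f : F4 t w) : ∃ s ∈ zpowers g, Rot t w s ∧ ∃ k, s ^ 3 ^ k = 1 := by
  obtain ⟨n, m, hm, e⟩ := Nat.exists_eq_pow_mul_and_not_dvd (orderOf_pos g).ne' 3 (by norm_num)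
  obtain ⟨i, hi⟩ : ∃ i, m * m = 1 + 3 * i := by
    obtain ⟨n, rfl | rfl⟩ : ∃ n, m = 3 * n + 1 ∨ m = 3 * n + 2 := ⟨m / 3, by omega⟩
    exacts [⟨3 * n * n + 2 * n, by ring⟩, ⟨3 * n * n + 4 * n + 1, by ring⟩]
  have k3 : ∀ x, g ^ 3 * x * (g ^ 3)⁻¹ = g * (g * (g * x * g⁻¹) * g⁻¹) * g⁻¹ := fun x => by
    rw [pow_three]; group
  have k : ∀ x, g ^ 3 * x * (g ^ 3)⁻¹ = x → g ^ (m * m) * x * (g ^ (m * m))⁻¹ = g * x * g⁻¹ :=
    fun x e => by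
      rw [hi, pow_add, pow_one, pow_mul, show g * (g ^ 3) ^ i * x * (g * (g ^ 3) ^ i)⁻¹ =
        g * ((g ^ 3) ^ i * x * ((g ^ 3) ^ i)⁻¹) * g⁻¹ by group, c1'.1 (pow_mem (c1'.2 e) i)]
  refine ⟨g ^ (m * m), npow_mem_zpowers _ _, ⟨?_, ?_⟩, n, ?_⟩
  · rw [k t (by rw [k3, h.h1, h.h2, h.h3 f]), h.h1]
  · rw [k w (by rw [k3, h.h2, h.h3 f, h.h1]), h.h2]
  · rw [← pow_mul, mul_assoc, mul_comm m (3 ^ _), ← e, mul_comm, pow_mul, pow_orderOf_eq_one, one_pow]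

theorem JG.fix3 (j : JG t L 27 7 13) (f : F4 t w) {s : G} (h : Rot t w s) (o : orderOf s = 3) :
    ∃ u, orderOf u = 2 ∧ Commute u s := by
  have : Fact (Nat.Prime 3) := ⟨Nat.prime_three⟩
  have p3 : IsPGroup 3 (zpowers s) := .of_card (n := 1) (by rw [Nat.card_zpowers, o, pow_one])
  obtain ⟨S, hS, nS⟩ := exists_invariant_isSylowOf 2 (A := zpowers s) (K := Cen (V4 t w))
    (zpowers_le.2 (mcen (h.nor f))) (by
      rw [Nat.card_zpowers, o, Nat.Prime.coprime_iff_not_dvd Nat.prime_three]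
      intro d
      obtain ⟨x, hx, ox⟩ := exists_orderOf_eq_prime_mem d
      rw [cen_V] at hx
      obtain ⟨P, cP, e⟩ := j.p3 (c1c.1 hx.1).symm ox
      have oP : Odd (Nat.card P) := cP ▸ by decide
      rcases j.dec w f.comm.symm with m | m
      · exact not_mem_odd oP f.ha (e ▸ ⟨m, c1s.1 hx.2⟩)
      · exact not_mem_odd oP f.hta (e ▸ ⟨m, c1s.1 (f.cen_ta hx.1 hx.2)⟩)) (Or.inl (solv_zp s))
  obtain ⟨T, -, hT, c8, -⟩ := j.syl
  obtain ⟨k, -, l⟩ := hT.syl.exists_conj_le f.two_V le_top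
  have T0 : IsSylowOf 2 (conjS k⁻¹ T) (Cen (V4 t w)) :=
    (hT.syl.map_conj (le_normalizer (mem_top _))).of_le (fun x hx => cen.2 fun v hv => by
      have := congrArg Subtype.val (hT.ab.is_comm.comm ⟨_, mem_conjS.1 hx⟩ ⟨_, l ⟨v, hv, rfl⟩⟩)
      have e : k * x * v = k * v * x := by simpa [← mul_assoc] using this
      simpa [mul_assoc] using e) le_top
  have e := H5.SS.card_modEq_cen p3 nS
  rw [hS.card_eq, ← T0.card_eq, card_conjS, c8] at e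
  obtain ⟨n, hn⟩ := (hS.isPGroup.to_le (inf_le_left : S ⊓ Cen (zpowers s) ≤ S)).exists_card_eq
  obtain ⟨u, hu, ou⟩ := ex_inv (K := S ⊓ Cen (zpowers s)) fun c => by
    rcases n.eq_zero_or_pos with rfl | n0
    · rw [hn] at e
      exact absurd e (by decide)
    · exact c.not_two_dvd_nat (hn ▸ dvd_pow_self 2 n0.ne')
  exact ⟨u, ou, cen.1 hu.2 s (mem_zpowers s)⟩

theorem JG.q27 (j : JG t L 27 7 13) (c : C3 t w y a d) (e : orderOf y = 13) : False := by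
  have := j.hy.sim
  have : Fact (Nat.Prime 13) := ⟨by norm_num⟩
  obtain ⟨b, k⟩ := j.tor1 c.ty c.py e.dvd
  have OZ := j.OZ c e
  have cZ : Nat.card (Uo y) = 13 ^ 3 := by
    rw [OZ, sup_assoc, H5.card_sup_of_disjoint ((k.DO c).trans ((Uo_le y).trans (nzp le_rfl)))
      (eq_bot_iff.2 fun x hx => k.D0 c hx.2 (zpowers_le.2 (c1c.2 c.ty.symm) hx.1)), k.cD c,
      Nat.card_zpowers, e]
    rfl
  have pZ : IsPGroup 13 (Uo y) := .of_card cZ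
  have ab : Uo y ≤ Cen (Uo y) := by
    refine OZ.le.trans (sup_le (sup_le (zp_le_cen.2 (Uo_le y)) (zp_le_cen.2 (OZ.le.trans ?_)))
      (zp_le_cen.2 (OZ.le.trans ?_))) <;> refine sup_le (sup_le (zpowers_le.2 (c1c.2 ?_))
        (zpowers_le.2 (c1c.2 ?_))) (zpowers_le.2 (c1c.2 ?_))
    exacts [c.ya, rfl, c.da, c.dy.symm, c.da.symm, rfl]
  obtain ⟨g, gN, hg⟩ := j.rot c e
  obtain ⟨s, sg, hs, n, hn⟩ := rot3 hg c.f4
  have sN : s ∈ Nor (Uo y) := zpowers_le.2 gN sg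
  have nK : zpowers s ≤ Nor (Uo y ⊔ V4 t w) := zpowers_le.2 (msup sN (hs.nor c.f4))
  have sK := H5.isSolvable_sup nK (T1.sK c.toCf) (solv_zp s)
  obtain ⟨i, -, os⟩ := (Nat.dvd_prime_pow Nat.prime_three).1 (orderOf_dvd_of_pow_eq_one hn)
  have c4 : Nat.card ↥(Uo y ⊔ V4 t w) = 13 ^ 3 * 2 ^ 2 := by rw [k.cK c.toCf, cZ]; rfl
  have dK : 13 ^ 3 * 2 ^ 2 * 3 ^ i ∣ Nat.card ↥(Uo y ⊔ V4 t w ⊔ zpowers s) :=
    Nat.Coprime.mul_dvd_of_dvd_of_dvd (Nat.Coprime.pow_right i (by norm_num))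
      (c4 ▸ card_dvd_of_le le_sup_left) (os ▸ Subgroup.orderOf_dvd_natCard _ (mem_sup_right (mem_zpowers s)))
  have om : Ω (13 ^ 3 * 2 ^ 2 * 3 ^ i) = 5 + i := by
    rw [cardFactors_mul (by norm_num) (by positivity), cardFactors_mul (by norm_num) (by norm_num),
      cardFactors_apply_prime_pow (by norm_num), om2, cardFactors_apply_prime_pow Nat.prime_three]
  have o6 := j.hy.l7.omega (j.hy.ne sK) sK dK
  obtain rfl : i = 1 := by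
    rcases i.eq_zero_or_pos with rfl | i0
    · exact absurd (by rw [← hs.h1, orderOf_eq_one_iff.1 os]; simp) c.ne
    · omega
  have y0 : Uo y ≠ ⊥ := fun e => by simp [e] at cZ
  have NZ : Nor (Uo y) = Uo y ⊔ V4 t w ⊔ zpowers s := j.hy.l7.max ((ht_dvd sK dK).le om.ge)
    (sup_le (sup_le le_normalizer (c.ny.trans LR.nO)) (zpowers_le.2 sN))
    (nor_ne j.hy.hG (odd_solv (odd_Oo _)) y0)
  have sy : IsSylowOf 13 (Uo y) ⊤ := IsSylowOf.of_normalizer ⟨le_inf le_top le_normalizer, pZ, by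
    have h1 := H5.card_sup_dvd nK
    rw [top_inf_eq]
    rw [← NZ, c4, Nat.card_zpowers, os, ← H5.card_mul_relIndex le_normalizer, cZ, mul_assoc,
      Nat.mul_dvd_mul_iff_left (by norm_num)] at h1
    exact fun d => absurd (d.trans h1) (by norm_num)⟩
  have yO : y ∈ Uo y := (k.Ot.ge k.yb).1
  have cj : ∀ {x v : G}, x ∈ Uo y ⊓ Cen1 v → s * x * s⁻¹ ∈ Uo y ⊓ Cen1 (s * v * s⁻¹) := fun hx =>
    ⟨cmem sN hx.1, conj_c1 s _ ▸ ⟨_, hx.2, rfl⟩⟩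
  have y1 := hs.h1 ▸ cj (v := t) ⟨yO, c1c.2 c.ty.symm⟩
  have y2 := hs.h2 ▸ cj y1
  have y3 : s * (s * (s * y * s⁻¹) * s⁻¹) * s⁻¹ = y := by
    rw [show s * (s * (s * y * s⁻¹) * s⁻¹) * s⁻¹ = s ^ 3 * y * (s ^ 3)⁻¹ by rw [pow_three]; group,
      show s ^ 3 = 1 from (show 3 = orderOf s from os.symm) ▸ pow_orderOf_eq_one s]
    simp
  generalize h1 : s * y * s⁻¹ = z at y1 y2 y3
  generalize h2 : s * z * s⁻¹ = z' at y2 y3
  have m0 := mul_mem yO (mul_mem y1.1 y2.1)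
  have s0 : s * (y * (z * z')) * s⁻¹ = y * (z * z') := by
    rw [show s * (y * (z * z')) * s⁻¹ = s * y * s⁻¹ * (s * z * s⁻¹) * (s * z' * s⁻¹) by group, h1, h2, y3,
      cen.1 (ab yO) _ (mul_mem y1.1 y2.1)]
  have n0 : t * (y * (z * z')) * t⁻¹ ≠ (y * (z * z'))⁻¹ := fun e => k.y1 (eq_one_of_odd_sq k.oy (by
    rw [show t * (y * (z * z')) * t⁻¹ = t * y * t⁻¹ * (t * z * t⁻¹ * (t * z' * t⁻¹)) by group,
      c1'.1 (c1c.2 c.ty), k.iw c.toCf y1, k.itw c.toCf y2, ← mul_inv_rev, cen.1 (ab y2.1) z y1.1,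
      cen.1 (ab yO) _ (mul_mem y1.1 y2.1), mul_inv_rev (z * z'), mul_left_inj] at e
    exact mul_eq_one_iff_eq_inv.2 e))
  generalize y * (z * z') = c0 at m0 s0 n0
  have nx : ∀ v, v * c0 * v⁻¹ ≠ c0⁻¹ → s * v * s⁻¹ * c0 * (s * v * s⁻¹)⁻¹ ≠ c0⁻¹ := fun v n e => n (by
    rw [← s0, conj_inv (a := c0), show s * v * s⁻¹ * (s * c0 * s⁻¹) * (s * v * s⁻¹)⁻¹ =
      s * (v * c0 * v⁻¹) * s⁻¹ by group] at e
    simpa using e)
  have nV : ∀ v ∈ V4 t w, v * c0 * v⁻¹ ≠ c0⁻¹ := fun v hv => by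
    rcases c.f4.mem_V.1 hv with rfl | rfl | rfl | rfl
    · refine fun e => n0 ?_
      rw [eq_one_of_inv_cen (odd_ord (odd_Oo _) m0) e (c1.2 (by simp))]
      simp
    exacts [n0, hs.h1 ▸ nx _ n0, hs.h2 ▸ nx _ (hs.h1 ▸ nx _ n0)]
  obtain ⟨u, ou, us⟩ := j.fix3 c.f4 hs os
  obtain ⟨M, ju⟩ := j.all ou
  obtain ⟨P, cP, eP⟩ := ju.p3 us os
  have oP : Odd (Nat.card P) := cP ▸ by decide
  have npc := H8.Sq.npc_cyc (syl1 j.h4 ou (c1c.2 us) fun g hg o => by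
    have ug := (c1c.1 hg.1).symm
    rcases ju.dec g ug.symm with m | m
    · exact absurd (eP ▸ ⟨m, hg.2⟩) (not_mem_odd oP o)
    have := eq_one_of_odd_sq (odd_ord oP (eP.le ⟨m, mul_mem (c1c.2 us) hg.2⟩)) (by
      rw [mul_assoc, ← mul_assoc g, ← ug.eq, mul_assoc, ii o, mul_one, ii ou])
    rw [← mul_left_cancel_iff (a := u), this, ii ou]) rfl
  obtain ⟨S, hS, nS⟩ := exists_invariant_isSylowOf 13 (A := zpowers u) (K := Uo s)
    (zpowers_le.2 (nUo s (c1c.2 us))) (cop_zp ou (odd_Oo _)) (Or.inl (solv_zp u))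
  obtain ⟨f, -, l⟩ := hS.exists_conj_le (pZ.to_le (zpowers_le.2 m0)) (zpowers_le.2
    (mem_Oo npc (c1s.1 (c1'.2 s0)) (odd_ord (odd_Oo _) m0)))
  have i1 := inv_of_fpf (odd_of_le hS.le (odd_Oo _)) ou (nS (mem_zpowers u)) (eq_bot_iff.2
    fun x hx => by
      obtain ⟨i, hi⟩ := hS.isPGroup ⟨x, hx.1⟩
      have h1 := orderOf_dvd_of_pow_eq_one (congrArg Subtype.val hi : x ^ 13 ^ i = 1)
      have h2 := P.orderOf_dvd_natCard (eP ▸ ⟨ju.memL (c1c.1 hx.2).symm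
        (odd_ord (odd_Oo _) (hS.le hx.1)), Uo_le s (hS.le hx.1)⟩ : x ∈ P)
      exact orderOf_eq_one_iff.1 (Nat.eq_one_of_dvd_coprimes (Nat.Coprime.pow_left i (by norm_num))
        h1 (cP ▸ h2))) (l ⟨c0, mem_zpowers c0, rfl⟩)
  have i2 : f⁻¹ * u * f * c0 * (f⁻¹ * u * f)⁻¹ = c0⁻¹ := by
    have : u * (f * c0 * f⁻¹) * u⁻¹ = (f * c0 * f⁻¹)⁻¹ := i1
    rw [show f⁻¹ * u * f * c0 * (f⁻¹ * u * f)⁻¹ = f⁻¹ * (u * (f * c0 * f⁻¹) * u⁻¹) * f by group, this]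
    group
  have Zc : Uo y ≤ Cen1 c0 := cen_iff_le.1 (ab m0)
  obtain ⟨m, hm, e1⟩ := (sy.of_le Zc le_top).frattini
    (nc1' (mnor fun _ e => inv_zp i2 e ▸ inv_mem e))
  obtain ⟨_, hx, σ, hσ, e2⟩ := (H4.mem_sup_of_le_normalizer_left nK).1 (NZ.le e1)
  obtain ⟨p, hp, v, hv, rfl⟩ := (H4.mem_sup_of_le_normalizer_left (c.ny.trans LR.nO)).1 hx
  refine nV v hv ?_
  have : p * v * σ * c0 * (p * v * σ)⁻¹ = c0⁻¹ := by
    rw [e2, show m⁻¹ * (f⁻¹ * u * f) * c0 * (m⁻¹ * (f⁻¹ * u * f))⁻¹ =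
      m⁻¹ * (f⁻¹ * u * f * c0 * (f⁻¹ * u * f)⁻¹) * m⁻¹⁻¹ by group, i2, ← conj_inv, c1'.1 (inv_mem hm)]
  rw [show p * v * σ * c0 * (p * v * σ)⁻¹ = p * (v * (σ * c0 * σ⁻¹) * v⁻¹) * p⁻¹ by group,
    c1'.1 (zpowers_le.2 (c1'.2 s0) hσ)] at this
  rw [show v * c0 * v⁻¹ = p⁻¹ * (p * (v * c0 * v⁻¹) * p⁻¹) * p⁻¹⁻¹ by group, this, ← conj_inv,
    c1'.1 (inv_mem (Zc hp))]

theorem JG.cfT (j : JG t L q r h) (n3 : ¬ 3 ∣ r) (c : Cf t w y a) (hy : orderOf y ∣ h)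
    (e : orderOf a = orderOf y) : False := by
  obtain ⟨d, c⟩ := j.c3 c hy e
  obtain ⟨b, k⟩ := j.tor1 c.ty c.py hy
  by_cases hp : h.Prime
  · have e1 := (Nat.prime_dvd_prime_iff_eq c.py hp).1 hy
    have l := j.lq
    have h5 := l.h5
    have q5 := l.q5
    have h3 : ¬ 3 ∣ h := fun c => by
      have := (Nat.prime_dvd_prime_iff_eq Nat.prime_three hp).1 c
      omega
    have q3 : 3 ∣ q := by
      rcases (by omega : r % 3 = 1 ∨ r % 3 = 2) with e | e <;> rcases l.num with e | e <;> omega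
    obtain rfl : q = 27 := l.pr.resolve_left fun c => by
      have := (Nat.prime_dvd_prime_iff_eq Nat.prime_three c).1 q3
      omega
    obtain ⟨rfl, rfl⟩ : r = 7 ∧ h = 13 := by rcases l.num with e | e <;> omega
    exact j.q27 c e1
  obtain ⟨M, j'⟩ := j.all c.ow
  obtain ⟨b', k'⟩ := j'.tor1 c.wa c.pa (e ▸ hy)
  obtain ⟨e1, e2⟩ := k.np c j.hy hp
  obtain ⟨-, e3⟩ := k'.np c.symm j.hy hp
  rw [sup_comm (zpowers a), e2] at e3
  have m := k'.Ot.ge (mem_zpowers b')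
  have := orderOf_dvd_of_mem_zpowers (e1.le ⟨k.mK c.toCf (e3.ge (mem_sup_left m.1))
    (odd_ord (odd_Oo _) m.1), m.2⟩)
  rw [k'.ob, e] at this
  exact hp (Nat.dvd_antisymm hy this ▸ c.py)

end LN
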