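import Cfsg.Agent.LN.W3
import Cfsg.Agent.H9.Loc1
import Cfsg.Agent.H8.Sq1

/-! The wreathed case: identification with `U₃(3)`. -/

set_option autoImplicit false
set_option linter.unusedSectionVars false

namespace LN.W

open Cfsg Subgroup FT H4 H5 GW CK

universe u

variable {G : Type u} [Group G] [Finite G] {S : Sylow 2 G} {z v k a b s d r t x : G}

theorem one_of {m n : ℕ} (c : m.Coprime n) (h1 : x ^ m = 1) (h2 : x ^ n = 1) : x = 1 :=
  orderOf_eq_one_iff.1 (Nat.eq_one_of_dvd_coprimes c (orderOf_dvd_of_pow_eq_one h1)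
    (orderOf_dvd_of_pow_eq_one h2))

theorem odd3 (h : x ^ 3 = 1) : Odd (orderOf x) :=
  Odd.of_dvd_nat (by decide) (orderOf_dvd_of_pow_eq_one h)

theorem two3 {P : Subgroup G} (hP : IsPGroup 2 P) (hx : x ∈ P) (h : x ^ 3 = 1) : x = 1 := by
  obtain ⟨n, hn⟩ := hP ⟨x, hx⟩
  exact one_of (Nat.Coprime.pow_left n (by decide)) (congrArg Subtype.val hn) h

/-- the extended centralizer -/
def Ext (x : G) : Subgroup G where
  carrier := {g | g * x * g⁻¹ = x ∨ g * x * g⁻¹ = x⁻¹}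
  one_mem' := Or.inl (by simp)
  mul_mem' := fun {g h} hg hh => by
    have e : g * h * x * (g * h)⁻¹ = g * (h * x * h⁻¹) * g⁻¹ := by group
    rcases hh with hh | hh <;> rw [hh] at e
    · exact hg.imp e.trans e.trans
    · rw [← conj_inv] at e
      rcases hg with hg | hg <;> rw [hg] at e
      exacts [Or.inr e, Or.inl (e.trans (inv_inv x))]
  inv_mem' := fun {g} hg => hg.imp (fun e => by conv_lhs => rw [← e]
                                                group)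
    fun e => by
      rw [← inv_inj, inv_inv x, conj_inv, ← e]; group

namespace WX

variable (h : WX S z v k a b s d)
include h

theorem eb : b = s * a * s := by rw [← h.sa, si h.toWR]

theorem rel : Rel a d s k where
  a4 := by rw [a2 h.toWR, ii h.f4.ha]
  br := h.br
  ds := h.ds
  ss := h.ss
  k3 := h.k3
  ks := h.ks
  ka := by rw [← h.eb, ← h.ka]; group
  kb := by rw [← h.eb, ← inv_inv (a * b), ← h.kb]; group

theorem wv (i : ℤ) : a ^ i * s * (a ^ i)⁻¹ ∉ Cen1 v := fun m => h.s1 (by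
  have := (Cen1 v).zpow_mem h.aT.2 i
  simpa [mul_assoc] using mul_mem (mul_mem (inv_mem this) m) this)

theorem dss : d * s * d⁻¹ = s := by rw [← h.ds]; group

theorem y4 : (a * b) ^ 4 = 1 := by
  rw [show (a * b) ^ 4 = a * b * (a * b) * (a * b * (a * b)) by simp [pow_succ, mul_assoc],
    y2 h.toWR, ii h.f4.ht]

variable (H : Hy G)
include H

theorem eC : Cen1 z = closure {a, d} := by
  have ha : a ∈ closure {a, d} := subset_closure (Or.inl rfl)
  have hd : d ∈ closure {a, d} := subset_closure (Or.inr rfl)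
  have hs : s ∈ closure {a, d} := h.ds ▸ mul_mem hd hd
  have T : ∀ x ∈ (S : Subgroup G) ⊓ Cen1 v, x ∈ closure {a, d} := fun x hx => by
    obtain ⟨i, j, rfl⟩ := h.mem x hx
    exact mul_mem (zpow_mem ha i) (zpow_mem (h.eb ▸ mul_mem (mul_mem hs ha) hs) j)
  refine maxC h.toWR H (fun x hx => ?_) hd (nS h.toWR ?_) ((closure_le _).2 ?_)
  · by_cases e : x ∈ Cen1 v
    · exact T x ⟨hx, e⟩
    · simpa using mul_mem (T _ (h.out hx e h.sS h.s1)) (inv_mem hs)
  · simpa [h.dv] using h.wv (-1)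
  · rintro _ (rfl | rfl)
    exacts [h.cz h.aS, h.dC]

theorem dy (hx : x ∈ Cen1 z) : x * (a * b) * x⁻¹ = a * b := c1'.1 (cy h.toWR H hx)

theorem uC : a * d * (a * b) ∈ Cen1 z :=
  mul_mem (mul_mem (h.cz h.aS) h.dC) (h.cz (h.yT (mem_zpowers _)).1)

theorem uv : a * d * (a * b) * v * (a * d * (a * b))⁻¹ = s := by
  refine (by group : _ = a * (d * (a * b * v * (a * b)⁻¹) * d⁻¹) * a⁻¹).trans ?_
  rw [c1'.1 (h.yT (mem_zpowers _)).2, h.dv]; group

theorem us : a * d * (a * b) * s * (a * d * (a * b))⁻¹ = a * s * a⁻¹ := by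
  refine (by group : _ = a * (d * (a * b * s * (a * b)⁻¹) * d⁻¹) * a⁻¹).trans ?_
  rw [c1'.1 (c1s.1 (h.yc (mem_zpowers _) h.sS)), h.dss]

theorem u3 : (a * d * (a * b)) ^ 3 = 1 := by
  have c : Commute (a * d) (a * b) := c1.1 (cy h.toWR H (mul_mem (h.cz h.aS) h.dC))
  have : (a * d) ^ 3 = a * b := by
    calc _ = a * d * (a * d * a) * d := by simp [pow_succ, mul_assoc]
      _ = _ := by rw [h.br, h.eb, ← h.ds]; simp [mul_assoc]
  rw [c.mul_pow, this, ← pow_succ', h.y4]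

theorem u1 : a * d * (a * b) ≠ 1 := fun e => h.s1 (by
  rw [← h.uv H, e]; simpa using c1.2 rfl)

theorem card96 : Nat.card (Cen1 z) = 96 := by
  have h1 := h.rel.card96
  rw [← h.eC H] at h1
  have h2 := (card32 h.toWR).1.trans (card_dvd_of_le h.cz)
  have h3 := orderOf_dvd_natCard _ (h.uC H)
  rw [orderOf_eq_prime (h.u3 H) (h.u1 H)] at h3
  have := Nat.card_pos (α := Cen1 z)
  omega

theorem invC (ht : t ∈ Cen1 z) (tt : t * t = 1) : t ∈ (S : Subgroup G) := by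
  have le : closure {t | t ∈ (S : Subgroup G) ∧ t * t = 1} ≤ S := (closure_le _).2 fun _ m => m.1
  have key : ∀ g, (∀ t ∈ (S : Subgroup G), t * t = 1 → g * t * g⁻¹ ∈ (S : Subgroup G)) →
      g ∈ Nor (closure {t | t ∈ (S : Subgroup G) ∧ t * t = 1}) := fun g hg =>
    mem_normalizer_of_conjS_le (by
      rw [conjS, MonoidHom.map_closure]
      refine closure_mono ?_
      rintro _ ⟨t, ht, rfl⟩
      exact ⟨hg t ht.1 ht.2, (conj_mul ..).trans (by rw [ht.2]; group)⟩)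
  have dvS : d * v * d⁻¹ ∈ (S : Subgroup G) :=
    h.dv ▸ mul_mem (mul_mem (inv_mem h.aS) h.sS) h.aS
  have n : Cen1 z ≤ Nor (closure {t | t ∈ (S : Subgroup G) ∧ t * t = 1}) := by
    rw [h.eC H, closure_le]
    rintro _ (rfl | rfl)
    · exact key _ fun t ht _ => cmem (le_normalizer h.aS) ht
    refine key _ fun t ht tt => ?_
    by_cases e : t ∈ Cen1 v
    · rcases mV h.toWR ht e tt with rfl | rfl | rfl | rfl
      · simp
      · rwa [c1'.1 h.dC]
      · exact dvS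
      · rw [← conj_mul, c1'.1 h.dC]; exact mul_mem h.zS dvS
    · obtain ⟨i, rfl⟩ := inv' h.toWR ht e tt
      have : a ^ i * s * (a ^ i)⁻¹ = (v * (a * b)⁻¹) ^ i * s := by
        rw [show v * (a * b)⁻¹ = a * b⁻¹ by rw [← a2 h.toWR, h.cab.eq]; group,
          h.cab.inv_right.mul_zpow, ← h.sa, inv_zpow, conj_zpow]
        group
      rw [this, ← conj_mul, ← conj_zpow, ← conj_mul, ← conj_inv, h.dy H h.dC, h.dss]
      exact mul_mem (zpow_mem (mul_mem dvS (inv_mem (h.yT (mem_zpowers _)).1)) i) h.sS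
  obtain ⟨c, hc, e⟩ := ((isSylowOf_top S).of_le h.cz le_top).exists_conj_le (Q := zpowers t)
    (H9.isPGroup_zpowers (k := 1) ((sq t).trans tt)) (zpowers_le.2 ht)
  simpa [mul_assoc] using le (cmem (n (inv_mem hc)) (subset_closure ⟨e (conj_mem_conjS (mem_zpowers t)),
    (conj_mul ..).trans (by rw [tt]; group)⟩))

theorem uq (hr : r ∈ Cen1 z) (r3 : r ^ 3 = 1) (e1 : r * v * r⁻¹ = s)
    (e2 : r * s * r⁻¹ = a * s * a⁻¹) : r = a * d * (a * b) := by
  have := h.uC H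
  have u3 := h.u3 H
  have := cenS h.toWR (cT h.toWR H (mul_mem (inv_mem this) hr) (c1'.2 ((by group :
    _ = (a * d * (a * b))⁻¹ * (r * v * r⁻¹) * (a * d * (a * b))).trans (by
      rw [e1, ← h.uv H]; group)))) (c1'.2 ((by group :
    _ = (a * d * (a * b))⁻¹ * (r * s * r⁻¹) * (a * d * (a * b))).trans (by
      rw [e2, ← h.us H]; group)))
  have c : Commute (a * d * (a * b)) ((a * d * (a * b))⁻¹ * r) :=
    (c1.1 (zpowers_le.2 (c1s.1 (cy h.toWR H (h.uC H))) this)).symm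
  obtain ⟨j, hj⟩ := this
  have e3 := c.mul_pow 3
  rw [mul_inv_cancel_left, r3, u3, one_mul] at e3
  refine (inv_mul_eq_one.1 (one_of (m := 4) (by decide) ?_ e3.symm)).symm
  rw [← hj, ← zpow_natCast, ← zpow_mul, mul_comm, zpow_mul, zpow_natCast, h.y4, one_zpow]

theorem three (hr : r ∈ Cen1 z) (r3 : r ^ 3 = 1) (r1 : r ≠ 1) :
    ∃ i : ℤ, r = a ^ i * (a * d * (a * b)) * (a ^ i)⁻¹ ∨
      r⁻¹ = a ^ i * (a * d * (a * b)) * (a ^ i)⁻¹ := by
  have tS := h.invC H (mul_mem (mul_mem hr h.f4.aH) (inv_mem hr)) (ii (iconj h.f4.ha r))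
  obtain ⟨i, e⟩ := inv' h.toWR tS (fun m => r1 (two3 S.2 (norV h.toWR H hr
    (mem_normalizer_of_conjS_le (by
      rw [conj_V, c1'.1 hr]
      exact V_le (t_V _ _) ((h.t3.mem _).2 ⟨⟨tS, m⟩, ii (iconj h.f4.ha r)⟩)))) r3))
    (ii (iconj h.f4.ha r))
  have ai := (Cen1 z).zpow_mem (h.cz h.aS) i
  have e1 : (a ^ i)⁻¹ * r * a ^ i * v * ((a ^ i)⁻¹ * r * a ^ i)⁻¹ = s := by
    refine (by group : _ = (a ^ i)⁻¹ * (r * (a ^ i * v * (a ^ i)⁻¹) * r⁻¹) * a ^ i).trans ?_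
    rw [c1'.1 ((Cen1 v).zpow_mem h.aT.2 i), ← e]; group
  have q3 : ((a ^ i)⁻¹ * r * a ^ i) ^ 3 = 1 := by
    rw [← inv_inv (a ^ i), inv_inv (a ^ i)⁻¹, conj_pow, r3]; group
  have hq := mul_mem (mul_mem (inv_mem ai) hr) ai
  have er : r = a ^ i * ((a ^ i)⁻¹ * r * a ^ i) * (a ^ i)⁻¹ := by group
  generalize (a ^ i)⁻¹ * r * a ^ i = q at e1 q3 hq er
  have qi : q⁻¹ = q * q := inv_eq_of_mul_eq_one_left (by rw [← pow_three', q3])
  have e2 : q * s * q⁻¹ = q⁻¹ * v * q := by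
    calc _ = q * q * v * (q * q)⁻¹ := by rw [← e1]; simp [mul_assoc]
      _ = _ := by rw [← qi, inv_inv]
  have ss : q * s * q⁻¹ * (q * s * q⁻¹) = 1 := by rw [conj_mul, h.ss]; group
  obtain ⟨j, e3⟩ := inv' h.toWR (h.invC H (mul_mem (mul_mem hq (h.cz h.sS)) (inv_mem hq)) ss)
    (fun m => h.s1 (by
      rw [e2, c1s] at m
      have := conj_mem_conjS (g := q) m
      rwa [conj_c1, e1, show q * (q⁻¹ * v * q) * q⁻¹ = v by group] at this)) ss
  have ns : q * s * q⁻¹ ∉ Cen1 s := fun m => h.s1 (by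
    replace m : q * s * q⁻¹ ∈ Cen1 (q * v * q⁻¹) := e1.symm ▸ m
    rwa [← conj_c1, conj_mem_conjS_iff] at m)
  have a4 : a ^ (4 : ℤ) = 1 := by exact_mod_cast h.oa ▸ pow_orderOf_eq_one a
  rw [zpow_eq_zpow_emod j a4] at e3
  have : j % 4 = 0 ∨ j % 4 = 1 ∨ j % 4 = 2 ∨ j % 4 = 3 := by omega
  rcases this with e4 | e4 | e4 | e4 <;> rw [e4] at e3
  · exact absurd (by rw [← e3]; simpa using c1.2 rfl) ns
  · exact ⟨i, Or.inl (by rw [← h.uq H hq q3 e1 (by rw [← e3, zpow_one]), ← er])⟩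
  · refine absurd ?_ ns
    rw [← e3, zpow_two, a2 h.toWR, vs h.toWR]
    exact mul_mem (c1s.1 (h.cz h.sS)) (c1.2 rfl)
  · rw [show a ^ (3 : ℤ) = a⁻¹ by rw [← mul_one a⁻¹, ← a4]; group, inv_inv] at e3
    refine ⟨i - 1, Or.inr ?_⟩
    rw [← h.uq H (r := a * q⁻¹ * a⁻¹) (mul_mem (mul_mem (h.cz h.aS) (inv_mem hq))
      (inv_mem (h.cz h.aS))) (by rw [conj_pow, inv_pow, q3]; group) ?_ ?_, er]
    · group
    · refine (by group : _ = a * (q⁻¹ * (a⁻¹ * v * a⁻¹⁻¹) * q) * a⁻¹).trans ?_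
      rw [c1'.1 (inv_mem h.aT.2), ← e2, ← e3]; group
    · refine (by group : _ = a * (q⁻¹ * (a⁻¹ * s * a) * q) * a⁻¹).trans ?_
      rw [e3]; group

theorem one (o : orderOf t = 2) : ∃ g, g * z * g⁻¹ = t := by
  obtain ⟨c, -, e⟩ := (isSylowOf_top S).exists_conj_le (two_zp o) le_top
  have m := e (conj_mem_conjS (mem_zpowers t))
  refine isConj_iff.1 (IsConj.trans ?_ (isConj_iff.2 ⟨c, rfl⟩ : IsConj t _).symm)
  by_cases e : c * t * c⁻¹ ∈ Cen1 v
  · exact cjV h.toWR m e (ii (iconj o c)) (ine (iconj o c))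
  · obtain ⟨i, e⟩ := inv' h.toWR m e (ii (iconj o c))
    exact ((isConj_iff.2 ⟨k, h.kz⟩).trans (isConj_iff.2 ⟨_, h.uv H⟩)).trans (isConj_iff.2 ⟨_, e⟩)

theorem cardC (o : orderOf t = 2) : Nat.card (Cen1 t) = 96 := by
  obtain ⟨g, rfl⟩ := h.one H o
  rw [← conj_c1, card_conjS, h.card96 H]

theorem sr0 {w : G} (o : orderOf w = 2) (ho : Odd (orderOf x)) (tt : t * t = 1)
    (i : t * x * t⁻¹ = x⁻¹) (c : x ∈ Cen1 w) (c' : t ∈ Cen1 w) : x = 1 := by
  obtain ⟨g, rfl⟩ := h.one H o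
  rw [← conj_c1, mem_conjS] at c c'
  have t1 : g⁻¹ * t * g * (g⁻¹ * t * g) = 1 := by
    rw [show g⁻¹ * t * g * (g⁻¹ * t * g) = g⁻¹ * (t * t) * g by group, tt]; group
  obtain ⟨n, hn⟩ := S.2 ⟨_, mul_mem (h.invC H (mul_mem (mul_mem c c') (inv_mem c))
    ((conj_mul ..).trans (by rw [t1]; group))) (h.invC H c' t1)⟩
  replace hn : (g⁻¹ * (x * (t * x⁻¹ * t)) * g⁻¹⁻¹) ^ 2 ^ n = 1 := by
    refine Eq.trans ?_ (congrArg Subtype.val hn); simp [mul_assoc]
  rw [show t * x⁻¹ * t = x by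
    rw [← inv_inj, mul_inv_rev, mul_inv_rev, inv_inv, ← i, inv_eq_of_mul_eq_one_right tt,
      mul_assoc], conj_pow, ← sq, ← pow_mul, ← pow_succ'] at hn
  exact one_of ((odd_iff_cop.1 ho).pow_right (n + 1)) (pow_orderOf_eq_one x)
    (conj_eq_one_iff.1 hn)

theorem sr {w : G} (o : orderOf w = 2) (ho : Odd (orderOf x)) (tt : t * t = 1)
    (i : t * x * t⁻¹ = x⁻¹) (c : x ∈ Cen1 w) : x = 1 := by
  have wx := c1'.1 (c1s.1 c)
  by_cases e : IsConj (⟨w, Or.inl wx⟩ : Ext x) ⟨t, Or.inr i⟩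
  · obtain ⟨⟨g, hg⟩, e⟩ := isConj_iff.1 e
    replace e : g * w * g⁻¹ = t := congrArg Subtype.val e
    have := conj_mem_conjS (g := g) c
    rw [conj_c1, e] at this
    exact eq_one_of_inv_cen ho i (by
      rcases hg with hg | hg <;> rw [hg] at this
      exacts [this, inv_mem_iff.1 this])
  obtain ⟨⟨p, hp⟩, -, op, c1, c2⟩ := H9.exists_invol_comm (Subtype.ext (ii o)) (Subtype.ext tt) e
  rw [← orderOf_coe] at op
  rcases hp with hp | hp
  · exact h.sr0 H op ho tt i (c1s.1 (c1'.2 hp)) (GW.c1.2 (congrArg Subtype.val c2).symm)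
  · exact h.sr0 H o ho (ii op) hp c (GW.c1.2 (congrArg Subtype.val c1))

theorem cu (hx : x ∈ Cen1 z) (p : ∃ n, x ^ 2 ^ n = 1) (c : x ∈ Cen1 (a * d * (a * b))) :
    x ∈ zpowers (a * b) := by
  have key : ∀ x ∈ (S : Subgroup G), x ∈ Cen1 (a * d * (a * b)) → x ∈ zpowers (a * b) :=
    fun x hx c => by
      have e0 : ∀ w, x * (a * d * (a * b) * w * (a * d * (a * b))⁻¹) * x⁻¹ =
          a * d * (a * b) * (x * w * x⁻¹) * (a * d * (a * b))⁻¹ := fun w => by
        conv_rhs => rw [← c1'.1 c]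
        group
      have e1 := e0 v
      rcases h.two x hx with e | e <;> rw [h.uv H, e] at e1
      · exact cenS h.toWR ⟨hx, c1'.2 e⟩ (c1'.2 (e1.trans (h.uv H)))
      · have e2 := e0 s
        rw [← conj_mul, c1'.1 (h.uC H), h.uv H] at e1
        rw [e1, ← conj_mul (a := z), c1'.1 (h.uC H), h.us H, asa h.toWR, ← conj_mul, ← conj_mul, e, e1,
          ← conj_inv, h.dy H (h.cz hx), mul_assoc, mul_assoc, mul_right_inj, mul_assoc,
          mul_right_inj, mul_right_inj] at e2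
        exact absurd (by simpa using e2) (ine h.f4.ht)
  obtain ⟨n, hn⟩ := p
  obtain ⟨g, hg, e⟩ := ((isSylowOf_top S).of_le h.cz le_top).exists_conj_le
    (H9.isPGroup_zpowers hn) (zpowers_le.2 hx)
  have m := e (conj_mem_conjS (mem_zpowers x))
  have c' := conj_mem_conjS (g := g) c
  rw [conj_c1] at c'
  obtain ⟨i, e⟩ := h.three H (mul_mem (mul_mem hg (h.uC H)) (inv_mem hg))
    (by rw [conj_pow, h.u3 H]; group) fun e => h.u1 H (by simpa using e)
  have ai := (S : Subgroup G).zpow_mem h.aS i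
  obtain ⟨j, hj⟩ := key _ (mul_mem (mul_mem (inv_mem ai) m) ai) (by
    rw [← mem_conjS, conj_c1]
    rcases e with e | e <;> rw [← e]
    exacts [c', c1s.1 (inv_mem (c1s.1 c'))])
  have := c1'.1 (c1s.1 (zpow_mem (c1s.1 (cy h.toWR H (mul_mem (inv_mem hg) (h.cz ai)))) j))
  exact ⟨j, this.symm.trans (by simp only [hj]; group)⟩

theorem hu : a⁻¹ * s * (a * d * (a * b)) * (a⁻¹ * s)⁻¹ = (a * d * (a * b))⁻¹ := by
  have sd : s * d * s⁻¹ = d := by rw [← h.ds]; group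
  have yv := c1.1 (cy h.toWR H (mul_mem h.f4.aH h.dC))
  rw [eq_inv_iff_mul_eq_one]
  calc _ = a⁻¹ * (s * a * s⁻¹) * (s * d * s⁻¹) * (s * (a * b) * s⁻¹ * (a * a * d)) * (a * b) := by
        group
    _ = a⁻¹ * b * (d * v * d⁻¹) * (d * d) * (a * b * (a * b)) := by
        rw [h.sa, sd, h.dy H (h.cz h.sS), a2 h.toWR, ← yv]; group
    _ = a⁻¹ * (b * a⁻¹) * b * z := by rw [h.dv, h.ds, y2 h.toWR, h.eb]; group
    _ = (a * a)⁻¹ * (b * b) * z := by rw [h.cab.symm.inv_right.eq]; group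
    _ = 1 := by rw [a2 h.toWR, b2 h.toWR, iinv h.f4.ha, h.f4.ata, ii h.f4.ht]

omit H in
theorem h4 : (a⁻¹ * s) ^ 4 = z := by
  have : (a⁻¹ * s) ^ 2 = (a * b)⁻¹ := by rw [h.cab.eq, ← h.sa, sq]; nth_rw 2 [← si h.toWR]; group
  rw [show 4 = 2 * 2 from rfl, pow_mul, this, inv_pow, sq, y2 h.toWR, iinv h.f4.ht]

theorem ten {R : Subgroup G} (oR : Odd (Nat.card R)) (n : a⁻¹ * s ∈ Nor R)
    (uR : a * d * (a * b) ∈ R) (hr : r ∈ R) (rz : r ∉ Cen1 z) : 10 ≤ Nat.card R := by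
  have h4 := h.h4
  have u1 := h.u1 H
  have uC := h.uC H
  generalize a * d * (a * b) = u at uR u1 uC
  generalize a⁻¹ * s = g at n h4
  have zz := ii h.f4.ht
  have zi := iinv h.f4.ht
  have xR := mul_mem (inv_mem hr) (cmem (h4 ▸ pow_mem n 4) hr)
  have x1 : r⁻¹ * (z * r * z⁻¹) ≠ 1 := fun e => rz (c1s.1 (c1'.2 (inv_mul_eq_one.1 e).symm))
  have xi : z * (r⁻¹ * (z * r * z⁻¹)) * z⁻¹ = (r⁻¹ * (z * r * z⁻¹))⁻¹ := by
    rw [zi]
    calc _ = z * r⁻¹ * z * r * (z * z) := by group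
      _ = _ := by rw [zz]; conv_rhs => rw [← zi]
                  group
  generalize r⁻¹ * (z * r * z⁻¹) = x at xR x1 xi
  have nc : ∀ i : ℕ, g ^ i * x * (g ^ i)⁻¹ ∉ Cen1 z := fun i m => x1 (eq_one_of_inv_cen
    (odd_ord oR xR) xi (by
      rw [show z = g ^ i * z * (g ^ i)⁻¹ by rw [← h4]; group, ← conj_c1] at m
      exact conj_mem_conjS_iff.1 m))
  have lt : ∀ i j : Fin 8, i < j → g ^ i.1 * x * (g ^ i.1)⁻¹ ≠ g ^ j.1 * x * (g ^ j.1)⁻¹ :=
    fun i j l e => by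
      obtain ⟨m, hm⟩ := Nat.exists_eq_add_of_lt (show i.1 < j.1 from l)
      have c : g ^ (m + 1) ∈ Cen1 x := c1'.2 (conj_injective (x := g ^ i.1) (by
        simp only [e, hm]; group))
      obtain ⟨p, hp⟩ : ∃ p, (m + 1) * p % 8 = 4 := by
        have : m < 7 := by omega
        interval_cases m <;> first | exact ⟨4, rfl⟩ | exact ⟨2, rfl⟩ | exact ⟨1, rfl⟩
      have := pow_mem c p
      rw [← pow_mul, pow_eq_pow_mod _ (show g ^ 8 = 1 by
        rw [show 8 = 4 + 4 from rfl, pow_add, h4, zz]), hp, h4] at this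
      exact nc 0 (by simpa using c1s.1 this)
  refine le_trans (by simp) (Nat.card_le_card_of_injective (β := R)
    (Sum.elim (fun i : Fin 8 => ⟨_, cmem (pow_mem n i.1) xR⟩)
      fun c : Bool => bif c then ⟨u, uR⟩ else 1) ?_)
  have k : ∀ c : Bool, ((bif c then ⟨u, uR⟩ else 1 : R) : G) ∈ Cen1 z := fun c => by
    cases c
    exacts [one_mem _, uC]
  refine Function.Injective.sumElim (fun i j e => ?_) (fun c c' e => ?_) fun i c e =>
    nc i ((show g ^ i.1 * x * (g ^ i.1)⁻¹ = _ from congrArg Subtype.val e) ▸ k c)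
  · rcases lt_trichotomy i j with l | l | l
    exacts [absurd (congrArg Subtype.val e) (lt i j l), l,
      absurd (congrArg Subtype.val e).symm (lt j i l)]
  · cases c <;> cases c' <;> first | rfl | exact absurd (congrArg Subtype.val e) u1 |
      exact absurd (congrArg Subtype.val e).symm u1

theorem cent3 : ∃ R, IsSylowOf 3 R ⊤ ∧ R ≤ Cen1 (a * d * (a * b)) := by
  have := Fact.mk Nat.prime_three
  have u3 := h.u3 H
  have u1 := h.u1 H
  have hu := h.hu H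
  have uC := h.uC H
  have ten := fun R r => h.ten H (R := R) (r := r)
  have y2' : IsPGroup 2 (zpowers (a * b)) := H9.isPGroup_zpowers (k := 2) h.y4
  have npc : H7.NPC 2 (Cen1 (a * d * (a * b))) := H8.Sq.npc_cyc (IsSylowOf.of_normalizer
    (isSylowOf_of_maximal (le_inf (zpowers_le.2 (c1s.1 (cy h.toWR H uC))) le_normalizer) y2'
      fun R hR _ le x hx => h.cu H (c1'.2 (inv_uniq (cmem (le hx).2 (y2 h.toWR ▸ mul_mem
        (mem_zpowers _) (mem_zpowers _))) (y2 h.toWR ▸ mul_mem (mem_zpowers _) (mem_zpowers _))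
          (iconj h.f4.ht x) h.f4.ht)) ((hR ⟨x, hx⟩).imp fun _ e => congrArg Subtype.val e)
            (le hx).1)) rfl
  have h4 := h.h4
  generalize a * d * (a * b) = u at *
  generalize a⁻¹ * s = g at *
  have g8 : g ^ 2 ^ 3 = 1 := by rw [show 2 ^ 3 = 4 + 4 from rfl, pow_add, h4, ii h.f4.ht]
  have og : orderOf g = 2 ^ 3 := orderOf_eq_prime_pow (fun e => ine h.f4.ht (h4.symm.trans e)) g8
  have gu : g ∈ Nor (zpowers u) := mnor fun x ⟨i, e⟩ => ⟨-i, by
    simp only [← e, ← conj_zpow, hu, inv_zpow']⟩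
  obtain ⟨R, hR, nR⟩ := exists_invariant_isSylowOf 3 (A := zpowers g) (K := Uo u)
    (zpowers_le.2 (nOo _ (cen_zp u ▸ mcen gu)))
    (by rw [Nat.card_zpowers, og]; exact (odd_iff_cop.1 (odd_Oo _)).symm.pow_left 3)
    (Or.inr (odd_solv (odd_Oo _)))
  have RK := hR.le.trans (Uo_le u)
  have o3 : ∀ {P : Subgroup G}, IsPGroup 3 P → ∀ x ∈ P, Odd (orderOf x) := fun hP x hx => by
    obtain ⟨n, hn⟩ := hP ⟨x, hx⟩
    exact Odd.of_dvd_nat (Odd.pow (by decide)) (orderOf_dvd_of_pow_eq_one (congrArg Subtype.val hn))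
  have sK : IsSylowOf 3 R (Cen1 u) := isSylowOf_of_maximal RK hR.isPGroup fun P hP l le =>
    (hR.eq_of_le hP l fun x hx => npc.mem_of_coprime (le hx) (odd_iff_cop.1 (o3 hP x hx))).le
  have uR : zpowers u ≤ R := sK.le_of_le_normalizer (H9.isPGroup_zpowers (k := 1) u3)
    (zpowers_le.2 (c1.2 rfl)) (nzp RK)
  have ou := orderOf_eq_prime u3 u1
  have nN : Nor R ≤ Nor (zpowers u) := by
    by_cases e : R ≤ Cen1 z
    · obtain ⟨n, hn⟩ := hR.isPGroup.exists_card_eq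
      have := card_dvd_of_le e
      rw [h.card96 H, hn] at this
      rw [eq_of_le_of_card_ge uR (by
        rw [Nat.card_zpowers, ou, hn]
        exact Nat.le_of_dvd (by decide) ((Nat.Coprime.pow_left n (by decide : Nat.Coprime 3 32)
          ).dvd_of_dvd_mul_right (show _ ∣ 3 * 32 from this)))]
    obtain ⟨r, hr, rz⟩ := SetLike.not_le_iff_exists.1 e
    obtain ⟨n, hn⟩ := hR.isPGroup.exists_card_eq
    have c := ten R r (odd_of_le hR.le (odd_Oo _)) (nR (mem_zpowers g)) (uR (mem_zpowers u)) hr rz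
    have c27 : 27 ∣ Nat.card R := by
      rw [hn] at c ⊢
      exact pow_dvd_pow 3 (show 3 ≤ n from (Nat.pow_lt_pow_iff_right (by decide)).1
        (show 3 ^ 2 < 3 ^ n by omega))
    have := hR.isPGroup.isNilpotent
    have t6 : Ht (R ⊔ zpowers g) 6 := (ht_dvd (m := 27 * 8) (H5.isSolvable_sup nR inferInstance
      (solv_zp g)) (Nat.Coprime.mul_dvd_of_dvd_of_dvd (by decide)
        (c27.trans (card_dvd_of_le le_sup_left)) (by
          have := card_dvd_of_le (le_sup_right : zpowers g ≤ R ⊔ zpowers g)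
          rwa [Nat.card_zpowers, og] at this))).le (by
            rw [show 27 * 8 = 3 ^ 3 * 2 ^ 3 from rfl, ArithmeticFunction.cardFactors_mul (by decide)
              (by decide), ArithmeticFunction.cardFactors_apply_prime_pow Nat.prime_three,
              ArithmeticFunction.cardFactors_apply_prime_pow Nat.prime_two])
    exact (H.l7.max t6 (sup_le le_normalizer nR) (H.nor_ne (fun e => u1 (mem_bot.1
      (e ▸ uR (mem_zpowers u)))) fun e => H.c1_ne u1 (top_le_iff.1 (e ▸ RK)))).le.trans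
        (sup_le (nzp RK) (zpowers_le.2 gu))
  refine ⟨R, IsSylowOf.of_normalizer (isSylowOf_of_maximal (le_inf le_top le_normalizer)
    hR.isPGroup fun P hP l le => (sK.eq_of_le hP l fun x hx => ?_).le), RK⟩
  refine GW.mem_of_sq_mem (o3 hP x hx) (c1'.2 ?_)
  obtain ⟨i, e⟩ := cmem (nN (le hx).2) (mem_zpowers u)
  simp only at e
  have e2 : x * x * u * (x * x)⁻¹ = u ^ (i * i) := by
    rw [zpow_mul, e, conj_zpow, e]; group
  have u3' : u ^ (3 : ℤ) = 1 := by exact_mod_cast u3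
  rw [e2, zpow_eq_zpow_emod _ u3']
  rw [zpow_eq_zpow_emod _ u3'] at e
  have : i % 3 = 0 ∨ i * i % 3 = 1 := by
    have : i % 3 = 0 ∨ i % 3 = 1 ∨ i % 3 = 2 := by omega
    rcases this with c | c | c <;> simp [Int.mul_emod, c]
  rcases this with c | c
  · rw [c, zpow_zero] at e
    exact absurd (conj_eq_one_iff.1 e.symm) u1
  · rw [c, zpow_one]

theorem main : Concl G := by
  have := H.sim
  have := Fact.mk Nat.prime_three
  have k3 : k ^ 3 = 1 := (pow_three' k).trans h.k3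
  have kC : k ∉ Cen1 z := fun m => h.f4.ne (h.kz.symm.trans (c1'.1 m))
  have k1 : k ≠ 1 := fun e => kC (e ▸ one_mem _)
  have os : orderOf s = 2 := h.uv H ▸ iconj h.f4.ha _
  have sk : s * k * s⁻¹ = k⁻¹ := by
    rw [si h.toWR, eq_inv_iff_mul_eq_one]
    calc _ = k⁻¹ * (k * s * (k * s)) * k := by group
      _ = 1 := by rw [h.ks]; group
  have oK : Odd (Nat.card (Cen1 k)) := Nat.not_even_iff_odd.1 fun e => by
    obtain ⟨w, o⟩ := exists_prime_orderOf_dvd_card' 2 e.two_dvd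
    exact k1 (h.sr H ((orderOf_coe w).trans o) (odd3 k3) h.ss sk (c1s.1 w.2))
  have c3 : Nat.card (Cen1 k ⊓ Cen1 s : Subgroup G) ∣ 3 := by
    have := card_dvd_of_le (inf_le_right : Cen1 k ⊓ Cen1 s ≤ _)
    rw [h.cardC H os] at this
    exact ((odd_iff_cop.1 (odd_of_le inf_le_left oK)).pow_right 5).dvd_of_dvd_mul_right
      (show _ ∣ 3 * 2 ^ 5 from this)
  obtain ⟨R, hR, RK⟩ := h.cent3 H
  obtain ⟨c, -, e⟩ := hR.exists_conj_le (H9.isPGroup_zpowers (k := 1) k3) le_top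
  have m := c1s.1 (RK (e (conj_mem_conjS (mem_zpowers k))))
  rw [← conj_c1, mem_conjS] at m
  obtain ⟨r, hr, r1⟩ : ∃ r ∈ Cen1 k ⊓ Cen1 s, r ≠ 1 := by
    by_contra n
    push Not at n
    refine h.u1 H (conj_eq_one_iff.1 (h.sr H (iconj h.f4.ht c⁻¹) (x := c⁻¹ * _ * c⁻¹⁻¹)
      (by rw [oconj]; exact odd3 (h.u3 H)) h.ss (inv_of_fpf oK os (mem_normalizer_iff_conjS.2 ?_)
        (eq_bot_iff.2 n) (by rwa [inv_inv])) ?_))
    · rw [conj_c1, sk]
      exact le_antisymm (fun x hx => c1s.1 (inv_mem_iff.1 (c1s.1 hx)))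
        fun x hx => c1s.1 (inv_mem (c1s.1 hx))
    · rw [← conj_c1]; exact conj_mem_conjS (h.uC H)
  have r3 : r ^ 3 = 1 := orderOf_dvd_iff_pow_eq_one.1 ((orderOf_dvd_natCard _ hr).trans c3)
  have mz : a * d * k * z * (a * d * k)⁻¹ = s := by
    refine (by group : _ = a * (d * (k * z * k⁻¹) * d⁻¹) * a⁻¹).trans ?_
    rw [h.kz, h.dv]; group
  have rC : (a * d * k)⁻¹ * r * (a * d * k) ∈ Cen1 z := by
    rw [← mem_conjS, conj_c1, mz]; exact hr.2
  obtain ⟨i, e⟩ := h.three H rC (by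
    rw [← inv_inv (a * d * k), inv_inv (a * d * k)⁻¹, conj_pow, r3]; group)
    fun e => r1 (conj_eq_one_iff.1 (by rwa [inv_inv]))
  have ay : Commute a (a * b) := c1.1 (cy h.toWR H (h.cz h.aS))
  have e1 : a ^ i * (a * d * (a * b)) * (a ^ i)⁻¹ =
      a ^ (i + 1) * (d * a * (a * b)) * (a ^ (i + 1))⁻¹ := by rw [mul_assoc d, ay.eq]; group
  rw [e1, h.eb] at e
  have cm := h.rel.cases (h.cz h.aS) h.dC kC (i := i + 1) (by
    rcases e with e | e
    · exact ⟨r, by rw [← e]; group, c1.1 hr.1⟩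
    · exact ⟨r⁻¹, by rw [← e]; group, c1.1 (inv_mem hr.1)⟩) (h.eb ▸ ay)
  have lt : (S : Subgroup G) < Cen1 z := lt_of_le_of_ne h.cz fun e =>
    nS h.toWR (by simpa [h.dv] using h.wv (-1)) (e ▸ h.dC)
  refine Or.inr (Or.inl ⟨F9, inferInstance, inferInstance, rfl, iso H.hG h.rel cm ?_ ?_⟩)
  · by_contra n
    refine kC ((H.l7.max (ht6 h.toWR H lt) ?_ n).le (subset_closure (by simp)))
    rw [h.eC H]
    exact closure_mono (by simp [Set.insert_subset_iff])
  · have o : orderOf (s * k) = 2 := orderOf_eq_prime (by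
      calc _ = k⁻¹ * (k * s * (k * s)) * k := by simp [sq, mul_assoc]
        _ = 1 := by rw [h.ks]; group) fun e => kC (by
          rw [← inv_eq_of_mul_eq_one_right e]; exact inv_mem (h.cz h.sS))
    have h1 := card_inf_mul_relIndex (Cen1 (s * k)) (Cen1 s)
    have h2 := relIndex_le_of_le_right (H := Cen1 (s * k)) (le_top (a := Cen1 s))
      (by rw [relIndex_top_right]; exact index_ne_zero_of_finite)
    have h3 := (Cen1 (s * k)).card_mul_index
    have h4 := (card_le_of_le (show Cen1 (s * k) ⊓ Cen1 s ≤ Cen1 k ⊓ Cen1 s from fun x hx =>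
      ⟨c1s.1 (by simpa using mul_mem (inv_mem (c1s.1 hx.2)) (c1s.1 hx.1)), hx.2⟩)).trans
      (Nat.le_of_dvd (by decide) c3)
    rw [h.cardC H os] at h1
    rw [h.cardC H o] at h3
    rw [relIndex_top_right] at h2
    nlinarith

end WX

end LN.W

universe u in
theorem LN.pw : LN.PW.{u} := fun _ _ _ _ _ _ _ _ _ _ H _ h =>
  let ⟨_, _, _, _, w⟩ := LN.W.ex_wx h H
  w.main H
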